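import Cfsg.Agent.Lib.Co2Three.Close.Hyper

/-!
The centraliser of every non-trivial element of `A` lies in the normaliser, and so `A` is normal.
-/

set_option autoImplicit false
set_option maxRecDepth 100000
set_option linter.unusedSectionVars false

namespace Cfsg.Agent.Co2Three.Close

open Equiv Subgroup
open Cfsg.Agent.Co2Recog.Two (qv_act)

theorem nBase_lt : ∀ j, ∀ b ∈ nBase j, b < 256 := by
  intro j b hb
  by_cases hj : j < nodeBase.length
  · rw [nBase, List.getD_eq_getElem _ _ hj] at hb
    exact Nat.le_of_ble_eq_true (List.all_eq_true.1 (List.all_eq_true.1 nodes_lt.1 _ (List.getElem_mem hj)) b hb)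
  · rw [nBase, List.getD_eq_default _ _ (by omega)] at hb
    exact absurd hb List.not_mem_nil

variable {H : Type*} [Group H] [Finite H] {A M : Subgroup H} (S : Spin A M)
include S

/-- All the subspaces of the tree. -/
theorem Spin.good_node : ∀ i < 33, Good S (nBase i) := by
  intro i
  induction i using Nat.strong_induction_on with
  | _ i ih =>
    intro hi
    have hok : nodeOK i = true := by
      rcases Nat.lt_or_ge i 12 with h | h
      · exact List.all_eq_true.1 nodes_lo i (List.mem_range.2 h)
      · have := List.all_eq_true.1 nodes_hi (i - 12) (List.mem_range.2 (by omega))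
        rwa [show 12 + (i - 12) = i by omega] at this
    rcases Bool.or_eq_true _ _ |>.mp hok with h | h
    · obtain ⟨p, hp, e⟩ := List.any_eq_true.1 h
      rw [← Nat.eq_of_beq_eq_true e]
      exact S.good_hyp (List.all_eq_true.1 hyp_ok p hp)
    · exact S.good_step h nBase_lt fun j hj => ih j hj (by omega)

/-- The centraliser of an element of `A` lies in the normaliser. -/
theorem Spin.cent_le {a : H} (ha : a ∈ A) (h1 : a ≠ 1) : centralizer ({a} : Set H) ≤ normalizer (A : Set H) := by
  intro n hn
  refine S.mem_norm ?_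
  have hv := S.c_lt a ha
  have h := List.all_eq_true.1 orb_ok.1 _ (List.mem_range.2 hv)
  have h0 : Nat.beq (S.c a) 0 = false := Bool.eq_false_iff.2 fun e => h1 (S.c_inj a ha (Nat.eq_of_beq_eq_true e))
  simp only [h0, Bool.false_or, Bool.and_eq_true, List.any_eq_true] at h
  obtain ⟨⟨q, hq, hd⟩, hw⟩ := h
  have hd' := Nat.eq_of_beq_eq_true hd
  have hw' := Nat.eq_of_beq_eq_true hw
  rw [← hd'] at hw'
  have hT : ∀ B : List ℕ, Good S B → B = [q.1] → n ∈ M := by
    intro B hB e
    subst e
    have hq1 : q.1 < 256 := by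
      have := Nat.eq_of_beq_eq_true (Bool.and_eq_true _ _ |>.mp (List.all_eq_true.1 orb_ok.2 q hq)).2
      exact this ▸ av_lt q.2 q.1
    refine S.good_of_image (T := [S.c a]) hB (by simpa using hq1) (orbVec.getD (S.c a) (0, [])).2
      (fun x hx => by rw [List.mem_singleton.1 hx, hw']; exact List.mem_cons_self) n fun x hx => ?_
    rw [List.mem_singleton.1 hx, S.el_c ha]
    exact mem_centralizer_singleton_iff.1 hn
  rcases Bool.or_eq_true _ _ |>.mp (List.all_eq_true.1 reps_qv.2.2 q hq) with e | e
  · exact hT _ (S.good_node 20 (by norm_num)) (by rw [nodes_lt.2.2.1, Nat.eq_of_beq_eq_true e])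
  · exact hT _ (S.good_node 32 (by norm_num)) (by rw [nodes_lt.2.2.2, Nat.eq_of_beq_eq_true e])

/-- **`A` is normal.** -/
theorem Spin.eq_top : M = ⊤ := by
  rw [← S.norm]
  refine (S.closed).normal_of_two (a := S.el 1) (c := S.el 24) (S.el_mem 1) (S.el_mem 24) (fun n hn e => ?_)
    (fun w hw h1 => S.cent_le hw h1) (fun e => ?_) (fun e => ?_)
  · obtain ⟨w, hw⟩ := S.exists_word (S.mem_M hn)
    rw [S.conj_el (S.mem_M hn) hw (by norm_num)] at e
    have h := congrArg S.c e
    rw [S.c_el (av_lt w 24), S.c_el (by norm_num)] at h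
    have h' := qv_act w (v := 24) (by norm_num)
    rw [show ThRec.Eight.ap (Co2Recog.eW w).2 24 = 1 from h, reps_qv.1, reps_qv.2.1] at h'
    exact Bool.noConfusion h'
  · have h := congrArg S.c e
    rw [S.c_el (by norm_num), S.c_one] at h
    exact absurd h (by norm_num)
  · have h := congrArg S.c e
    rw [S.c_el (by norm_num), S.c_one] at h
    exact absurd h (by norm_num)

end Cfsg.Agent.Co2Three.Close
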