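import Cfsg.Agent.Lib.Co2Three.Close.Defs
import Cfsg.Agent.Lib.Co2Three.Close.Top

/-!
From the data of the closing step to the abstract setting in the centraliser of `t` modulo `t`: that centraliser is
the normaliser of the extraspecial group.
-/

set_option autoImplicit false
set_option maxRecDepth 100000
set_option linter.style.haveILetI false
set_option linter.unusedSectionVars false

namespace Cfsg.Agent.Co2Three.Close

open Equiv Subgroup
open Cfsg.Agent.Co2Recog (qv Bv tw permW)

/-- A functional on the spin module is given by the form. -/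
theorem dual_form : ∀ l < 256, ∃ u < 256, ((List.range 8).all fun j => Bv u (2 ^ j) == l.testBit j) = true := by
  decide +kernel

theorem bits_code : ∀ b0 b1 b2 b3 b4 b5 b6 b7 : Bool, ((List.range 256).any fun l =>
    (l.testBit 0 == b0) && (l.testBit 1 == b1) && (l.testBit 2 == b2) && (l.testBit 3 == b3) &&
      (l.testBit 4 == b4) && (l.testBit 5 == b5) && (l.testBit 6 == b6) && (l.testBit 7 == b7)) = true := by
  decide +kernel

theorem exists_bits (b : ℕ → Bool) : ∃ l < 256, ∀ j < 8, Nat.testBit l j = b j := by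
  obtain ⟨l, hl, h⟩ := List.any_eq_true.1 (bits_code (b 0) (b 1) (b 2) (b 3) (b 4) (b 5) (b 6) (b 7))
  simp only [Bool.and_eq_true, beq_iff_eq] at h
  obtain ⟨⟨⟨⟨⟨⟨⟨h0, h1⟩, h2⟩, h3⟩, h4⟩, h5⟩, h6⟩, h7⟩ := h
  refine ⟨l, List.mem_range.1 hl, fun j hj => ?_⟩
  interval_cases j
  exacts [h0, h1, h2, h3, h4, h5, h6, h7]

variable {G : Type*} [Group G] [Finite G] {t : G} {W : Subgroup G}

theorem Closing.t_ne (D : Closing t W) : t ≠ 1 := fun e => by
  have h := D.ht
  rw [e, orderOf_one] at h
  omega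

theorem Closing.t_sq (D : Closing t W) : t * t = 1 := by
  have h := pow_orderOf_eq_one t
  rwa [D.ht, pow_two] at h

theorem Closing.le_MW (D : Closing t W) : W ≤ MW t W := le_inf Subgroup.le_normalizer D.le

theorem Closing.all_cent (D : Closing t W) (x : ↥(MW t W)) :
    x ∈ centralizer ({(⟨t, D.t_mem⟩ : ↥(MW t W))} : Set ↥(MW t W)) :=
  mem_centralizer_singleton_iff.2 (Subtype.ext (mem_centralizer_singleton_iff.1 (mem_inf.1 x.2).2))

open Classical in
/-- The coordinates on elements. -/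
noncomputable def Closing.cc (D : Closing t W) (g : G) : ℕ :=
  if h : g ∈ MW t W then D.K.c ⟨g, h⟩ else 0

theorem Closing.cc_eq (D : Closing t W) {g : G} (h : g ∈ MW t W) : D.cc g = D.K.c ⟨g, h⟩ := dif_pos h

theorem Closing.cc_lt (D : Closing t W) {q : G} (hq : q ∈ W) : D.cc q < 256 := by
  rw [D.cc_eq (D.le_MW hq)]; exact D.K.c_lt _ (mem_subgroupOf.2 hq)

theorem Closing.cc_mul (D : Closing t W) {q r : G} (hq : q ∈ W) (hr : r ∈ W) :
    D.cc (q * r) = D.cc q ^^^ D.cc r := by
  rw [D.cc_eq (D.le_MW hq), D.cc_eq (D.le_MW hr), D.cc_eq (D.le_MW (W.mul_mem hq hr))]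
  exact D.K.c_mul ⟨q, D.le_MW hq⟩ (mem_subgroupOf.2 hq) ⟨r, D.le_MW hr⟩ (mem_subgroupOf.2 hr)

theorem Closing.cc_ker (D : Closing t W) {q : G} (hq : q ∈ W) : D.cc q = 0 ↔ q = 1 ∨ q = t := by
  rw [D.cc_eq (D.le_MW hq), D.K.c_ker _ (mem_subgroupOf.2 hq)]
  simp [Subtype.ext_iff]

theorem Closing.cc_surj (D : Closing t W) {v : ℕ} (hv : v < 256) : ∃ q ∈ W, D.cc q = v := by
  obtain ⟨⟨q, hq⟩, hqW, e⟩ := D.K.c_surj v hv
  exact ⟨q, mem_subgroupOf.1 hqW, by rw [D.cc_eq hq]; exact e⟩

theorem Closing.t_memW (D : Closing t W) : t ∈ W := D.self t (mem_centralizer_singleton_iff.2 rfl) fun _ hq =>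
  (mem_centralizer_singleton_iff.1 (D.le hq)).symm

theorem Closing.sq_eq (D : Closing t W) {q : G} (hq : q ∈ W) : q * q = tw t (qv (D.cc q)) := by
  rw [D.cc_eq (D.le_MW hq)]
  have h := congrArg Subtype.val (D.K.sq ⟨q, D.le_MW hq⟩ (mem_subgroupOf.2 hq))
  rw [Subgroup.coe_mul] at h
  rw [h]
  cases qv (D.K.c ⟨q, D.le_MW hq⟩) <;> rfl

/-- Commuting in `W` is orthogonality. -/
theorem Closing.comm_iff (D : Closing t W) {q r : G} (hq : q ∈ W) (hr : r ∈ W) :
    q * r = r * q ↔ Bv (D.cc q) (D.cc r) = false := by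
  have e : (q * r) * (q * r) = tw t (qv (D.cc q ^^^ D.cc r)) := by rw [D.sq_eq (W.mul_mem hq hr), D.cc_mul hq hr]
  have hne : ∀ b b' : Bool, tw t b = tw t b' → b = b' := by
    intro b b' h
    cases b <;> cases b' <;> simp only [tw, cond_true, cond_false] at h <;> first
      | rfl
      | exact absurd h D.t_ne
      | exact absurd h.symm D.t_ne
  have hmul : ∀ b b' : Bool, tw t b * tw t b' = tw t (b ^^ b') := by
    intro b b'
    cases b <;> cases b' <;> simp [tw, D.t_sq]
  show _ ↔ ((qv (D.cc q ^^^ D.cc r) ^^ qv (D.cc q)) ^^ qv (D.cc r)) = false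
  constructor
  · intro h
    rw [show q * r * (q * r) = q * (r * q) * r by group, ← h, show q * (q * r) * r = q * q * (r * r) by group,
      D.sq_eq hq, D.sq_eq hr, hmul] at e
    rw [← hne _ _ e]
    cases qv (D.cc q) <;> cases qv (D.cc r) <;> rfl
  · intro h
    have h' : qv (D.cc q ^^^ D.cc r) = (qv (D.cc q) ^^ qv (D.cc r)) := by
      revert h
      cases qv (D.cc q ^^^ D.cc r) <;> cases qv (D.cc q) <;> cases qv (D.cc r) <;> simp
    rw [h', ← hmul, ← D.sq_eq hq, ← D.sq_eq hr, show q * r * (q * r) = q * (r * q) * r by group,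
      show q * q * (r * r) = q * (q * r) * r by group] at e
    exact (mul_left_cancel (mul_right_cancel e)).symm

/-- An element of the centraliser acting trivially modulo `t` lies in `W`. -/
theorem Closing.mem_of_trivial (D : Closing t W) {x : G} (hx : x ∈ centralizer ({t} : Set G))
    (h : ∀ q ∈ W, x * q * x⁻¹ = q ∨ x * q * x⁻¹ = q * t) : x ∈ W := by
  classical
  choose! e he using fun v (hv : v < 256) => D.cc_surj hv
  obtain ⟨l, hl, hlb⟩ := exists_bits fun j => decide (x * e (2 ^ j) * x⁻¹ ≠ e (2 ^ j))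
  obtain ⟨u, hu, hub⟩ := dual_form l hl
  obtain ⟨q, hq, hqc⟩ := D.cc_surj hu
  set y := q⁻¹ * x with hy
  suffices ∀ r ∈ W, y * r = r * y by
    have := W.mul_mem hq (D.self y (mul_mem (inv_mem (D.le hq)) hx) this)
    rwa [hy, mul_inv_cancel_left] at this
  have hty : y * t = t * y := mem_centralizer_singleton_iff.1 (mul_mem (inv_mem (D.le hq)) hx)
  have hdiv : ∀ r ∈ W, q * r * q⁻¹ = r ∨ q * r * q⁻¹ = r * t := fun r hr => by
    have hm := W.mul_mem (W.inv_mem hr) (W.mul_mem (W.mul_mem hq hr) (W.inv_mem hq))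
    have h0 : D.cc (r⁻¹ * (q * r * q⁻¹)) = 0 := by
      rw [D.cc_mul (W.inv_mem hr) (W.mul_mem (W.mul_mem hq hr) (W.inv_mem hq)),
        D.cc_mul (W.mul_mem hq hr) (W.inv_mem hq), D.cc_mul hq hr]
      have hinv : ∀ z ∈ W, D.cc z⁻¹ = D.cc z := fun z hz => by
        have h1 := D.cc_mul hz (W.inv_mem hz)
        rw [mul_inv_cancel, (D.cc_ker W.one_mem).2 (Or.inl rfl)] at h1
        exact (Nat.xor_right_inj.1 ((Nat.xor_self (D.cc z)).trans h1)).symm
      rw [hinv r hr, hinv q hq, Nat.xor_comm (D.cc q) (D.cc r), Nat.xor_assoc, Nat.xor_self, Nat.xor_zero,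
        Nat.xor_self]
    rcases (D.cc_ker hm).1 h0 with e1 | e1
    · left; exact (inv_mul_eq_one.1 e1).symm
    · right; rw [← e1, mul_inv_cancel_left]
  have hbase : ∀ j < 8, y * e (2 ^ j) = e (2 ^ j) * y := by
    intro j hj
    have h256 : 2 ^ j < 256 := Nat.pow_lt_pow_right (m := j) (n := 8) (by norm_num) hj
    obtain ⟨hr, hrc⟩ := he _ h256
    set r := e (2 ^ j)
    have hb := beq_iff_eq.1 (List.all_eq_true.1 hub j (List.mem_range.2 hj))
    rw [hlb j hj] at hb
    have hbb : Bv (D.cc q) (D.cc r) = decide (x * r * x⁻¹ ≠ r) := by rw [hqc, hrc]; exact hb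
    have hqx : q * r * q⁻¹ = x * r * x⁻¹ := by
      by_cases hxr : x * r * x⁻¹ = r
      · rw [hxr, (D.comm_iff hq hr).2 (by rw [hbb]; simp [hxr]), mul_inv_cancel_right]
      · have hne : ¬ q * r = r * q := fun h' => by
          rw [D.comm_iff hq hr, hbb] at h'
          simp [hxr] at h'
        rw [(h r hr).resolve_left hxr, (hdiv r hr).resolve_left fun h' => hne (mul_inv_eq_iff_eq_mul.1 h')]
    rw [hy, ← mul_inv_eq_iff_eq_mul, show q⁻¹ * x * r * (q⁻¹ * x)⁻¹ = q⁻¹ * (x * r * x⁻¹) * q by group, ← hqx]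
    group
  have hall : ∀ k ≤ 8, ∀ r ∈ W, D.cc r < 2 ^ k → y * r = r * y := by
    intro k
    induction k with
    | zero =>
      intro _ r hr h0
      rcases (D.cc_ker hr).1 (by simpa using h0) with rfl | rfl
      · simp
      · exact hty
    | succ k ih =>
      intro hk r hr hlt
      by_cases hlt' : D.cc r < 2 ^ k
      · exact ih (by omega) r hr hlt'
      have h256 : 2 ^ k < 256 := Nat.pow_lt_pow_right (m := k) (n := 8) (by norm_num) (by omega)
      obtain ⟨he1, he2⟩ := he _ h256
      have hsmall : D.cc (r * e (2 ^ k)) < 2 ^ k := by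
        rw [D.cc_mul hr he1, he2]
        refine Nat.lt_pow_two_of_testBit _ fun i hi => ?_
        rw [Nat.testBit_xor]
        rcases Nat.eq_or_lt_of_le hi with rfl | hi'
        · rw [Nat.testBit_two_pow_self]
          have : (D.cc r).testBit k = true := by
            rw [Nat.testBit_eq_decide_div_mod_eq, decide_eq_true_eq]
            rw [Nat.div_eq_of_lt_le (k := 1) (by omega) (by rw [pow_succ] at hlt; omega)]
          rw [this]; rfl
        · rw [Nat.testBit_two_pow_of_ne (by omega), Bool.xor_false]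
          exact Nat.testBit_eq_false_of_lt (lt_of_lt_of_le hlt (Nat.pow_le_pow_right two_pos hi'))
      have h1 := ih (by omega) _ (W.mul_mem hr he1) hsmall
      have h2 : Commute y ((r * e (2 ^ k)) * (e (2 ^ k))⁻¹) :=
        Commute.mul_right h1 (Commute.inv_right (hbase k (by omega)))
      rwa [mul_inv_cancel_right] at h2
  exact fun r hr => hall 8 le_rfl r hr (D.cc_lt hr)

/-- **The centraliser of `t` normalises `W`.** -/
theorem Closing.cent_eq (D : Closing t W) : centralizer ({t} : Set G) ≤ MW t W := by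
  classical
  set C := centralizer ({t} : Set G) with hC
  have htC : t ∈ C := mem_centralizer_singleton_iff.2 rfl
  set Z : Subgroup ↥C := zpowers ⟨t, htC⟩ with hZ
  haveI : Z.Normal := ⟨fun n hn g => by
    have : g * n * g⁻¹ = n := by
      obtain ⟨k, rfl⟩ := hn
      have hc : Commute g ⟨t, htC⟩ := Subtype.ext (mem_centralizer_singleton_iff.1 g.2)
      show g * (⟨t, htC⟩ : ↥C) ^ k * g⁻¹ = _
      rw [(hc.zpow_right k).eq, mul_inv_cancel_right]
    rw [this]; exact hn⟩
  have hZmem : ∀ z : ↥C, z ∈ Z → (z : G) = 1 ∨ (z : G) = t := by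
    rintro _ ⟨k, rfl⟩
    show ((⟨t, htC⟩ : ↥C) ^ k : ↥C).1 = 1 ∨ _
    rw [SubgroupClass.coe_zpow]
    rcases Int.even_or_odd' k with ⟨m, rfl | rfl⟩
    · left; rw [zpow_mul, zpow_two, D.t_sq, one_zpow]
    · right; rw [zpow_add, zpow_mul, zpow_two, D.t_sq, one_zpow, one_mul, zpow_one]
  set π := QuotientGroup.mk' Z with hπ
  have hsurj : Function.Surjective π := QuotientGroup.mk'_surjective Z
  set N := MW t W with hN
  have hNC : N ≤ C := fun x hx => (mem_inf.1 hx).2
  have htN : t ∈ N := D.t_mem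
  have hpre : ∀ (K : Subgroup G) (x : ↥C), t ∈ K → (π x ∈ (K.subgroupOf C).map π ↔ (x : G) ∈ K) := by
    intro K x htK
    refine ⟨fun ⟨y, hy, e⟩ => ?_, fun h => ⟨x, mem_subgroupOf.2 h, rfl⟩⟩
    have := hZmem _ (QuotientGroup.eq.1 e)
    rw [Subgroup.coe_mul, InvMemClass.coe_inv] at this
    rcases this with h | h
    · rw [← inv_mul_eq_one.1 h]; exact mem_subgroupOf.1 hy
    · rw [show (x : G) = y * ((y : G)⁻¹ * x) by group, h]; exact K.mul_mem (mem_subgroupOf.1 hy) htK
  set A := (W.subgroupOf C).map π with hA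
  set M := (N.subgroupOf C).map π with hM
  have hAiff := fun x => hpre W x D.t_memW
  have hMiff := fun x => hpre N x htN
  -- the action
  let φ : ↥N →* ↥M :=
    { toFun := fun x => ⟨π ⟨x, hNC x.2⟩, (hMiff _).2 x.2⟩
      map_one' := Subtype.ext (map_one π)
      map_mul' := fun x y => Subtype.ext (map_mul π ⟨x, hNC x.2⟩ ⟨y, hNC y.2⟩) }
  have hφ : Function.Surjective φ := fun m => by
    obtain ⟨x, hx⟩ := hsurj m
    exact ⟨⟨x, (hMiff x).1 (hx ▸ m.2)⟩, Subtype.ext hx⟩
  let p0 : ↥N →* Perm (Fin 63) := D.K.π.comp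
    { toFun := fun x => ⟨x, D.all_cent x⟩
      map_one' := rfl
      map_mul' := fun _ _ => rfl }
  have hker : φ.ker ≤ p0.ker := fun x hx => by
    refine (D.K.ker _).2 (mem_subgroupOf.2 ((hAiff ⟨x, hNC x.2⟩).1 ?_))
    rw [show π ⟨x, hNC x.2⟩ = 1 from congrArg Subtype.val hx]; exact A.one_mem
  let p : ↥M →* Perm (Fin 63) := φ.liftOfSurjective hφ ⟨p0, hker⟩
  have hp : ∀ x : ↥N, p (φ x) = p0 x := fun x =>
    MonoidHom.liftOfRightInverse_comp_apply φ _ (Function.surjInv_eq hφ) ⟨p0, hker⟩ x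
  let f : ↥C ⧸ Z → ℕ := fun h => D.cc ((Quotient.out h : ↥C) : G)
  have hf : ∀ x : ↥C, (x : G) ∈ W → f (π x) = D.cc x := by
    intro x hx
    have h := hZmem _ (QuotientGroup.eq.1 (Quotient.out_eq (π x) : π (Quotient.out (π x)) = π x))
    rw [Subgroup.coe_mul, InvMemClass.coe_inv] at h
    rcases h with h | h
    · show D.cc _ = _
      rw [← inv_mul_eq_one.1 h]
    · show D.cc _ = _
      have e : ((Quotient.out (π x) : ↥C) : G) = x * t := by
        rw [eq_inv_mul_iff_mul_eq.1 h.symm |>.symm, mul_assoc, D.t_sq, mul_one]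
      rw [e, D.cc_mul hx D.t_memW, (D.cc_ker D.t_memW).2 (Or.inr rfl), Nat.xor_zero]
  have memW : ∀ a ∈ A, ∃ x : ↥C, (x : G) ∈ W ∧ π x = a := fun a ⟨x, hx, e⟩ => ⟨x, mem_subgroupOf.1 hx, e⟩
  let S : Spin A M :=
    { le := Subgroup.map_mono fun x hx => mem_subgroupOf.2 (D.le_MW (mem_subgroupOf.1 hx))
      norm := by
        ext h
        obtain ⟨x, rfl⟩ := hsurj h
        rw [hMiff, mem_normalizer_iff, hN, mem_inf, mem_normalizer_iff]
        constructor
        · refine fun hh => ⟨fun q => ?_, x.2⟩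
          constructor
          · intro hq
            have := (hh (π ⟨q, D.le hq⟩)).1 ((hAiff _).2 hq)
            rw [← map_inv, ← map_mul, ← map_mul, hAiff] at this
            exact this
          · intro hq
            have hqC : q ∈ C := by
              have := mul_mem (mul_mem (inv_mem x.2) (D.le hq)) x.2
              simpa [mul_assoc] using this
            have := (hh (π ⟨q, hqC⟩)).2 (by rw [← map_inv, ← map_mul, ← map_mul, hAiff]; exact hq)
            rwa [hAiff] at this
        · rintro ⟨hh, -⟩ h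
          obtain ⟨q, rfl⟩ := hsurj h
          rw [← map_inv, ← map_mul, ← map_mul, hAiff, hAiff]
          exact hh q
      self := fun h hh => by
        obtain ⟨x, rfl⟩ := hsurj h
        rw [hAiff]
        refine D.mem_of_trivial x.2 fun q hq => ?_
        have e := hh _ ((hAiff ⟨q, D.le hq⟩).2 hq)
        rw [← map_mul, ← map_mul] at e
        have h' := hZmem _ (QuotientGroup.eq.1 e)
        simp only [Subgroup.coe_mul, InvMemClass.coe_inv] at h'
        have hqt := mem_centralizer_singleton_iff.1 (D.le hq)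
        have hxt := mem_centralizer_singleton_iff.1 x.2
        have hti : t⁻¹ = t := inv_eq_of_mul_eq_one_right D.t_sq
        rcases h' with h' | h'
        · left; rw [inv_mul_eq_one] at h'; rw [h', mul_inv_cancel_right]
        · right
          rw [inv_mul_eq_iff_eq_mul] at h'
          have h2 : q * x * t = x * q := by rw [h', mul_assoc _ t t, D.t_sq, mul_one]
          calc (x : G) * q * (x : G)⁻¹ = q * x * t * (x : G)⁻¹ := by rw [h2]
            _ = q * (t * x) * (x : G)⁻¹ := by rw [mul_assoc q, hxt]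
            _ = q * t := by group
      π := p
      range := by
        rw [← D.K.range]
        ext s
        constructor
        · rintro ⟨m, rfl⟩
          obtain ⟨x, rfl⟩ := hφ m
          exact ⟨⟨x, D.all_cent x⟩, (hp x).symm⟩
        · rintro ⟨x, rfl⟩
          exact ⟨φ x.1, hp x.1⟩
      ker := fun m => by
        obtain ⟨x, rfl⟩ := hφ m
        rw [hp x]
        show D.K.π ⟨x, D.all_cent x⟩ = 1 ↔ π ⟨x, hNC x.2⟩ ∈ A
        rw [D.K.ker, hAiff, mem_subgroupOf]
      c := f
      c_lt := fun a ha => by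
        obtain ⟨x, hx, rfl⟩ := memW a ha
        rw [hf x hx]; exact D.cc_lt hx
      c_mul := fun a ha b hb => by
        obtain ⟨x, hx, rfl⟩ := memW a ha
        obtain ⟨y, hy, rfl⟩ := memW b hb
        rw [← map_mul, hf _ (W.mul_mem hx hy), hf x hx, hf y hy]
        exact D.cc_mul hx hy
      c_inj := fun a ha h0 => by
        obtain ⟨x, hx, rfl⟩ := memW a ha
        rw [hf x hx, D.cc_ker hx] at h0
        refine (QuotientGroup.eq_one_iff x).2 ?_
        rcases h0 with h0 | h0
        · rw [show x = 1 from Subtype.ext h0]; exact Z.one_mem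
        · rw [show x = ⟨t, htC⟩ from Subtype.ext h0]; exact mem_zpowers _
      c_surj := fun v hv => by
        obtain ⟨q, hq, e⟩ := D.cc_surj hv
        exact ⟨π ⟨q, D.le hq⟩, (hAiff _).2 hq, by rw [hf _ hq]; exact e⟩
      act := fun m w hw a ha => by
        obtain ⟨x, rfl⟩ := hφ m
        obtain ⟨q, hq, rfl⟩ := memW a ha
        rw [hp x] at hw
        have hc := (D.K.act ⟨x, D.all_cent x⟩ w hw ⟨q, D.le_MW hq⟩ (mem_subgroupOf.2 hq))
        have hm : (x : G) * q * (x : G)⁻¹ ∈ W := (mem_normalizer_iff.1 (mem_inf.1 x.2).1 q).1 hq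
        show f (π ⟨x, hNC x.2⟩ * π q * (π ⟨x, hNC x.2⟩)⁻¹) = _
        rw [← map_inv, ← map_mul, ← map_mul, hf _ hm, hf q hq]
        show D.cc ((x : G) * q * (x : G)⁻¹) = _
        rw [D.cc_eq (D.le_MW hm), D.cc_eq (D.le_MW hq),
          show (⟨_, D.le_MW hm⟩ : ↥N) = x * ⟨q, D.le_MW hq⟩ * x⁻¹ from Subtype.ext rfl]
        refine hc.trans ?_
        exact (Co2Recog.act_eW w (D.K.c_lt _ (mem_subgroupOf.2 hq))).symm
      three := fun h hh h3 g hg => by
        obtain ⟨x, hx, rfl⟩ := hh
        have hxN := mem_subgroupOf.1 hx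
        obtain ⟨g', rfl⟩ := hsurj g
        rw [hMiff]
        -- an element of order three over `h`
        have hx3 : (x : G) ^ 3 = 1 ∨ (x : G) ^ 3 = t := by
          have := hZmem (x ^ 3) ((QuotientGroup.eq_one_iff _).1 (by
            rw [QuotientGroup.mk_pow, ← h3]; exact pow_orderOf_eq_one (π x)))
          simpa using this
        have h6 : (x : G) ^ 6 = 1 := by
          rw [show 6 = 3 * 2 from rfl, pow_mul]
          rcases hx3 with e | e <;> rw [e] <;> [exact one_pow 2; exact (pow_two t).trans D.t_sq]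
        haveI : Fact (Nat.Prime 3) := ⟨Nat.prime_three⟩
        set y := x ^ 4 with hy
        have hyπ : π y = π x := by
          rw [hy, map_pow, show 4 = 3 + 1 from rfl, pow_succ, (show π x ^ 3 = 1 by rw [← h3]; exact pow_orderOf_eq_one _),
            one_mul]
        have hy1 : (y : G) ^ 3 = 1 := by
          rw [hy, SubgroupClass.coe_pow, ← pow_mul, show 4 * 3 = 6 * 2 from rfl, pow_mul, h6, one_pow]
        have hne : (y : G) ≠ 1 := fun e => by
          rw [← hyπ, show y = 1 from Subtype.ext e, map_one, orderOf_one] at h3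
          omega
        have hyN : (y : G) ∈ N := by rw [hy, SubgroupClass.coe_pow]; exact N.pow_mem hxN 4
        refine D.three y hyN (orderOf_eq_prime hy1 hne) g' g'.2 ?_
        obtain ⟨k, hk⟩ := hg
        have hk' : π (y ^ k) = π (g' * y * g'⁻¹) := by rw [map_zpow, map_mul, map_mul, map_inv, hyπ]; exact hk
        have hd := hZmem _ (QuotientGroup.eq.1 hk')
        simp only [Subgroup.coe_mul, InvMemClass.coe_inv, SubgroupClass.coe_zpow] at hd
        rcases hd with hd | hd
        · exact ⟨k, inv_mul_eq_one.1 hd⟩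
        · exfalso
          have e : (g' : G) * y * (g' : G)⁻¹ = (y : G) ^ k * t := (inv_mul_eq_iff_eq_mul.1 hd)
          have hc : Commute ((y : G) ^ k) t :=
            (show Commute (y : G) t from mem_centralizer_singleton_iff.1 y.2).zpow_left k
          have := congrArg (fun z : G => z ^ 3) e
          simp only [hc.mul_pow, conj_pow] at this
          rw [hy1, mul_one, mul_inv_cancel, show ((y : G) ^ k) ^ 3 = 1 by
            rw [← zpow_natCast, ← zpow_mul, mul_comm, zpow_mul, zpow_natCast, hy1, one_zpow], one_mul,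
            show t ^ 3 = t by rw [pow_succ, pow_two, D.t_sq, one_mul]] at this
          exact D.t_ne this.symm }
  intro g hg
  exact (hMiff ⟨g, hg⟩).1 (S.eq_top.symm ▸ mem_top (π ⟨g, hg⟩) : π ⟨g, hg⟩ ∈ M)

end Cfsg.Agent.Co2Three.Close
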