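import Mathlib.Data.Nat.Notation

/-!
Tables for the involutions and the elements of order three of the symplectic group in six dimensions.
-/

set_option autoImplicit false

namespace Cfsg.Agent.Co2Three.Close

/-- One involution from each class, and the unit. -/
def invRep : List (List ℕ) :=
    [[0], [2, 0], [4, 2, 0], [3, 4, 5, 2, 3, 4, 1, 2, 3, 0, 1, 2, 6, 2, 3, 4, 5, 1, 2, 3, 4, 0, 1, 2, 3, 2, 0], []]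

/-- For each element of order at most two of the Sylow subgroup its class and a conjugating word. -/
def sylCert : List (ℕ × List ℕ) :=
    [(4, []), (0, []), (0, [1, 2, 0, 1]), (1, []), (0, [3, 4, 2, 3, 1, 2, 0, 1]), (1, [3, 4, 2, 3]), (1, [1, 2, 3,
    4, 0, 1, 2, 3]), (2, []), (1, [1]), (1, [0, 1]), (2, [1]), (2, [0, 1]), (1, [5, 4, 3, 2, 6, 2, 3, 1]), (1, [5,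
    4, 3, 2, 6, 2, 3, 0, 1]), (2, [5, 4, 3, 2, 6, 2, 3, 4, 5, 1]), (2, [5, 4, 3, 2, 6, 2, 3, 4, 5, 0, 1]), (1, [5,
    4, 3, 1, 2, 6, 2, 3, 0, 1]), (2, [6, 5, 3, 4, 1, 2, 3, 0, 1, 2, 6, 4, 3, 1]), (2, [1, 2, 6, 5, 3, 4, 2, 3, 1, 2,
    6, 4, 3, 1]), (3, [3, 4, 2, 3, 1, 2, 6, 5, 4, 3, 0, 1]), (2, [5, 4, 3, 1, 2, 6, 2, 3, 4, 5, 0, 1]), (2, [3, 1,
    2, 6, 3, 4, 1, 2, 3, 0, 1, 2, 6, 4, 5, 1, 2, 3, 0, 1]), (2, [3, 2, 6, 4, 1, 2, 3, 0, 1, 2, 6, 2, 3, 4, 5, 1, 2,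
    3, 0, 1]), (1, [3, 2, 6, 4, 1, 2, 3, 0, 1, 2, 6, 4, 5, 3, 4, 2, 3, 1]), (0, [6, 5, 4, 3, 1, 2, 0, 1]), (1, [6,
    5, 4, 3]), (1, [3, 2, 6, 5, 1, 2, 3, 4, 0, 1, 2, 3, 0, 1]), (2, [3, 2, 6, 5, 2, 3]), (1, [6, 3, 4, 5, 1, 2, 3,
    4, 0, 1, 2, 3, 0, 1]), (2, [6, 3, 4, 5, 2, 3]), (3, [1, 2, 3, 4, 0, 1, 2, 3]), (2, [3, 1, 2, 6, 3, 4, 5, 2, 3,
    4, 1, 2, 3, 0, 1, 2, 6, 3, 4, 5, 2, 3, 0, 1]), (0, [1, 2, 6, 5, 4, 3, 2, 1]), (1, [1, 2, 3, 0, 1, 2, 6, 5, 1, 2,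
    3, 4, 0, 1, 2, 3, 0, 1]), (1, [1, 2, 6, 5, 4, 3, 0, 1]), (2, [1, 2, 3, 0, 1, 2, 6, 5, 2, 3]), (1, [1, 2, 6, 3,
    4, 5, 2, 3, 4, 1, 2, 3, 0, 1]), (3, [3, 4, 2, 3]), (2, [1, 2, 6, 3, 4, 5, 4, 3, 0, 1]), (2, [3, 1, 2, 6, 4, 5,
    2, 3, 4, 1, 2, 3, 0, 1, 2, 6, 4, 5, 2, 3, 0, 1]), (0, [6, 2, 3, 1, 2, 6, 4, 3, 2, 1]), (1, [6, 1, 2, 3, 0, 1, 2,
    6, 2, 3, 4, 1, 2, 3, 0, 1]), (1, [6, 2, 3, 1, 2, 6, 4, 1, 2, 3, 0, 1]), (2, [3, 2, 6, 1, 2, 3, 0, 1, 2, 6, 4, 3,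
    0, 1]), (1, [6, 3, 4, 2, 3, 1, 2, 6, 4, 3, 0, 1]), (2, [6, 3, 4, 1, 2, 3, 0, 1, 2, 6, 4, 3, 0, 1]), (2, [1, 2,
    6, 3, 4, 2, 3, 1, 2, 6, 4, 3, 0, 1]), (3, [5, 4, 3, 1, 2, 6, 2, 3, 0, 1]), (2, [3, 2, 6, 1, 2, 3, 0, 1, 2, 6, 4,
    2, 3, 0, 1]), (2, [3, 2, 6, 1, 2, 3, 0, 1, 2, 6, 0, 1, 2, 3, 0, 1]), (3, [5, 4, 3, 2, 6, 2, 3, 0, 1]), (3, [5,
    4, 3, 2, 6, 2, 3, 1]), (2, [3, 2, 6, 5, 2, 3, 4, 1, 2, 3, 0, 1, 2, 6, 5, 2, 3, 1]), (2, [3, 2, 6, 5, 2, 3, 4, 1,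
    2, 3, 0, 1, 2, 6, 5, 2, 3, 0, 1]), (3, [0, 1]), (3, [1]), (2, [3, 1, 2, 6, 5, 2, 3, 4, 1, 2, 3, 0, 1, 2, 6, 5,
    2, 3, 0, 1]), (2, [3, 4, 2, 3, 1, 2, 6, 3, 4, 5, 4, 3, 0, 1]), (2, [3, 4, 1, 2, 3, 0, 1, 2, 6, 5, 4, 3, 0, 1]),
    (1, [3, 4, 2, 3, 1, 2, 6, 5, 4, 3, 0, 1]), (3, []), (1, [3, 4, 2, 3, 1, 2, 6, 3, 4, 5, 2, 3, 4, 1, 2, 3, 0, 1]),
    (1, [3, 4, 1, 2, 3, 0, 1, 2, 6, 5, 2, 3, 4, 1, 2, 3, 0, 1]), (0, [3, 4, 2, 3, 1, 2, 6, 5, 4, 3, 2, 1]), (1, [6,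
    2, 3, 1, 2, 6, 3, 4, 5, 2, 3, 4, 1, 2, 3, 1]), (3, [6, 5, 4, 3]), (2, [6, 2, 3, 1, 2, 6, 1, 2, 3, 4, 5, 3, 0,
    1]), (2, [3, 1, 2, 6, 4, 5, 3, 4, 2, 3, 0, 1, 2, 6, 5, 1, 2, 3, 0, 1]), (2, [6, 3, 4, 2, 3, 1, 2, 6, 3, 4, 5, 3,
    0, 1]), (2, [3, 1, 2, 6, 5, 3, 4, 1, 2, 3, 0, 1, 2, 6, 5, 1, 2, 3, 0, 1]), (2, [5, 3, 4, 1, 2, 3, 0, 1, 2, 6, 2,
    3, 4, 5, 0, 1, 2, 3, 0, 1]), (1, [5, 3, 4, 1, 2, 3, 0, 1, 2, 6, 4, 5, 3, 4, 2, 3, 0, 1]), (1, [6, 1, 2, 3, 0, 1,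
    2, 6, 4, 5, 3, 4, 1, 2, 3, 1]), (2, [6, 1, 2, 3, 0, 1, 2, 6, 1, 2, 3, 4, 5, 1, 2, 3, 0, 1]), (3, [1, 2, 6, 5, 4,
    3, 0, 1]), (2, [3, 1, 2, 6, 4, 5, 3, 4, 2, 3, 1, 2, 6, 1, 2, 3, 0, 1]), (2, [1, 2, 6, 3, 4, 2, 3, 0, 1, 2, 6, 4,
    5, 3, 0, 1]), (2, [5, 3, 4, 2, 3, 1, 2, 6, 2, 3, 4, 5, 4, 3, 0, 1]), (2, [3, 2, 6, 5, 4, 1, 2, 3, 0, 1, 2, 6, 5,
    4, 3, 1]), (1, [5, 3, 4, 2, 3, 1, 2, 6, 5, 4, 2, 3, 0, 1]), (1, [3, 2, 6, 2, 3, 1]), (1, [3, 2, 6, 2, 3, 0, 1]),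
    (1, [3, 1, 2, 6, 2, 3, 0, 1]), (2, [6, 3, 4, 1, 2, 3, 0, 1, 2, 6, 2, 3]), (2, [1, 2, 6, 3, 4, 2, 3, 1, 2, 6, 2,
    3]), (3, [4, 5, 3, 4, 2, 3, 1, 2, 6, 5, 4, 3, 0, 1]), (1, [6, 5, 3, 4, 2, 3, 1, 2, 6, 4, 3, 0, 1]), (2, [6, 5,
    3, 4, 1, 2, 3, 0, 1, 2, 6, 4, 3, 0, 1]), (2, [1, 2, 6, 5, 3, 4, 2, 3, 1, 2, 6, 4, 3, 0, 1]), (3, [4, 3, 1, 2, 6,
    2, 3, 0, 1]), (3, [4, 3, 2, 6, 2, 3, 0, 1]), (3, [4, 3, 2, 6, 2, 3, 1]), (2, [3, 2, 6, 5, 2, 3, 1]), (2, [3, 2,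
    6, 5, 2, 3, 0, 1]), (2, [1, 2, 3, 0, 1, 2, 6, 5, 2, 3, 1]), (2, [1, 2, 3, 0, 1, 2, 6, 5, 2, 3, 0, 1]), (1, [4,
    3, 2, 6, 2, 3, 1]), (1, [4, 3, 2, 6, 2, 3, 0, 1]), (1, [4, 3, 1, 2, 6, 2, 3, 0, 1]), (2, [6, 3, 4, 1, 2, 3, 0,
    1, 2, 6, 4, 3, 1]), (2, [1, 2, 6, 3, 4, 2, 3, 1, 2, 6, 4, 3, 1]), (3, [5, 3, 4, 2, 3, 1, 2, 6, 5, 4, 3, 0, 1]),
    (1, [6, 4, 5, 3, 4, 2, 3, 1, 2, 6, 4, 3, 0, 1]), (2, [6, 4, 5, 3, 4, 1, 2, 3, 0, 1, 2, 6, 4, 3, 0, 1]), (2, [1,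
    2, 6, 4, 5, 3, 4, 2, 3, 1, 2, 6, 4, 3, 0, 1]), (3, [3, 1, 2, 6, 2, 3, 0, 1]), (3, [3, 2, 6, 2, 3, 0, 1]), (3,
    [3, 2, 6, 2, 3, 1]), (2, [4, 3, 2, 6, 5, 2, 3, 1]), (2, [4, 3, 2, 6, 5, 2, 3, 0, 1]), (2, [4, 1, 2, 3, 0, 1, 2,
    6, 5, 2, 3, 1]), (2, [4, 1, 2, 3, 0, 1, 2, 6, 5, 2, 3, 0, 1]), (1, [6, 3, 4, 5, 1, 2, 3, 4, 0, 1, 2, 3]), (2,
    [6, 3, 4, 5]), (3, [4, 5, 1, 2, 3, 4, 0, 1, 2, 3]), (2, [4, 3, 1, 2, 6, 3, 4, 5, 2, 3, 4, 1, 2, 3, 0, 1, 2, 6,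
    3, 4, 5, 1, 2, 3, 0, 1]), (1, [6, 3, 4, 5, 1, 2, 3, 4, 0, 1, 2, 3, 1]), (2, [6, 3, 4, 5, 3]), (3, [5, 1, 2, 3,
    4, 0, 1, 2, 3]), (2, [3, 1, 2, 6, 3, 4, 5, 2, 3, 4, 1, 2, 3, 0, 1, 2, 6, 3, 4, 5, 1, 2, 3, 0, 1]), (1, [6, 4, 1,
    2, 3, 0, 1, 2, 6, 4, 5, 3, 4, 1, 2, 3, 0, 1]), (2, [6, 4, 1, 2, 3, 0, 1, 2, 6, 1, 2, 3, 4, 5, 0, 1, 2, 3, 0,
    1]), (3, [1, 2, 6, 3, 0, 1]), (2, [3, 1, 2, 6, 4, 5, 3, 4, 2, 3, 1, 2, 6, 3, 0, 1]), (1, [6, 1, 2, 3, 0, 1, 2,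
    6, 4, 5, 3, 4, 1, 2, 3, 0, 1]), (2, [6, 1, 2, 3, 0, 1, 2, 6, 1, 2, 3, 4, 5, 0, 1, 2, 3, 0, 1]), (3, [1, 2, 6, 4,
    3, 0, 1]), (2, [3, 1, 2, 6, 4, 5, 3, 4, 2, 3, 1, 2, 6, 2, 3, 0, 1]), (1, [1, 2, 6, 3, 4, 5, 2, 3, 4, 1, 2, 3]),
    (3, [4, 5, 3, 4, 2, 3]), (2, [1, 2, 6, 3, 4, 5, 0, 1]), (2, [4, 3, 1, 2, 6, 4, 5, 2, 3, 4, 1, 2, 3, 0, 1, 2, 6,
    4, 5, 1, 2, 3, 0, 1]), (1, [1, 2, 6, 3, 4, 5, 2, 3, 4, 1, 2, 3, 1]), (3, [5, 3, 4, 2, 3]), (2, [1, 2, 6, 3, 4,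
    5, 3, 0, 1]), (2, [3, 1, 2, 6, 4, 5, 2, 3, 4, 1, 2, 3, 0, 1, 2, 6, 4, 5, 1, 2, 3, 0, 1]), (1, [6, 4, 2, 3, 1, 2,
    6, 3, 4, 5, 2, 3, 4, 1, 2, 3, 0, 1]), (3, [6, 3]), (2, [6, 4, 2, 3, 1, 2, 6, 1, 2, 3, 4, 5, 4, 3, 0, 1]), (2,
    [3, 1, 2, 6, 4, 5, 3, 4, 2, 3, 0, 1, 2, 6, 5, 3, 0, 1]), (1, [6, 2, 3, 1, 2, 6, 3, 4, 5, 2, 3, 4, 1, 2, 3, 0,
    1]), (3, [6, 4, 3]), (2, [6, 2, 3, 1, 2, 6, 1, 2, 3, 4, 5, 4, 3, 0, 1]), (2, [3, 1, 2, 6, 4, 5, 3, 4, 2, 3, 0,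
    1, 2, 6, 5, 2, 3, 0, 1])]

/-- An element of order three commuting with each of the first three. -/
def comThree : List (List ℕ) :=
    [[3, 2], [5, 4], [3, 4, 2, 3, 1, 2, 0, 1]]

/-- An element of order three commuting with the fourth. -/
def threeA : List ℕ :=
    [5, 4]

/-- A second one. -/
def threeB : List ℕ :=
    [3, 2, 6, 4, 5, 3, 4, 2, 3, 1, 2, 6, 3, 4, 5, 1, 2, 3, 4, 1, 2, 3, 1, 2, 0, 1, 0]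

/-- The vectors fixed by the fourth. -/
def fixU : List ℕ :=
    [0, 2, 4, 6, 8, 10, 12, 14, 32, 34, 36, 38, 40, 42, 44, 46, 64, 66, 68, 70, 72, 74, 76, 78, 96, 98, 100, 102,
    104, 106, 108, 110, 128, 130, 132, 134, 136, 138, 140, 142, 160, 162, 164, 166, 168, 170, 172, 174, 192, 194,
    196, 198, 200, 202, 204, 206, 224, 226, 228, 230, 232, 234, 236, 238]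

/-- The commutators of the fourth. -/
def comU : List ℕ :=
    [0, 8, 128, 136]

/-- Generators of a Sylow subgroup for the prime three. -/
def sylThree : List (List ℕ) :=
    [[1, 0], [4, 3], [6, 2, 3, 4, 1, 2, 3, 0, 1, 2, 6, 2, 3, 4, 1, 2, 3, 0, 1, 2], [2, 6, 3, 4, 2, 3, 1, 2, 6, 0, 1,
    2]]

/-- For each vector the representative of its orbit and a word. -/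
def orbVec : List (ℕ × List ℕ) :=
    [(0, []), (1, []), (1, [1, 0]), (1, [0]), (1, [3, 0, 1, 2, 1, 0]), (1, [0, 1, 2, 1, 0]), (1, [1, 2]), (1, [2]),
    (1, [3, 2, 1, 0]), (1, [1, 2, 0]), (1, [2, 1, 0]), (1, [0, 1, 2, 0]), (1, [3, 1, 2, 1, 0]), (1, [2, 0]), (1, [3,
    2, 0]), (1, [1, 2, 1, 0]), (1, [4, 5, 3, 4, 3, 0, 1, 2, 1, 0]), (1, [4, 5, 3, 4, 0, 1, 2, 1, 0]), (1, [1, 2, 3,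
    4, 1, 2]), (1, [2, 3, 4, 1, 2]), (1, [3, 4]), (1, [4]), (1, [2, 6, 5, 0, 1, 2, 3, 4, 3, 0, 1, 2, 1, 0]), (1, [2,
    6, 0, 1, 2, 3, 4, 3, 0, 1, 2, 1, 0]), (24, []), (24, [5]), (24, [3]), (24, [6]), (24, [1]), (24, [5, 1]), (24,
    [6, 1]), (24, [3, 1]), (1, [5, 2, 3, 4, 3, 2, 1, 0]), (1, [4, 5, 3, 4, 1, 2, 0]), (1, [2, 3, 4, 3, 2, 1, 0]),
    (1, [4, 5, 3, 4, 0, 1, 2, 0]), (24, [0, 1, 0]), (24, [3, 0, 1, 0]), (24, [5, 0, 1, 0]), (24, [6, 0, 1, 0]), (1,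
    [3, 4, 1, 0]), (1, [2, 6, 1, 2, 3, 4, 0, 1, 2, 1, 0]), (1, [4, 1, 0]), (1, [2, 6, 0, 1, 2, 3, 4, 0, 1, 2, 1,
    0]), (24, [1, 0]), (24, [6, 1, 0]), (24, [5, 1, 0]), (24, [3, 1, 0]), (1, [4, 5, 3, 4, 3, 1, 2, 1, 0]), (1, [2,
    3, 4, 3, 2, 0]), (1, [5, 2, 3, 4, 3, 2, 0]), (1, [4, 5, 3, 4, 1, 2, 1, 0]), (24, [0, 1]), (24, [3, 0, 1]), (24,
    [6, 0, 1]), (24, [5, 0, 1]), (24, [0]), (24, [6, 0]), (24, [3, 0]), (24, [5, 0]), (1, [3, 4, 0]), (1, [2, 6, 1,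
    2, 3, 4, 3, 0, 1, 2, 1, 0]), (1, [2, 6, 5, 1, 2, 3, 4, 3, 0, 1, 2, 1, 0]), (1, [4, 0]), (1, [5, 4, 3, 0, 1, 2,
    1, 0]), (1, [3, 4, 0, 1, 2, 1, 0]), (24, [4, 3, 2]), (24, [4, 5, 2]), (1, [4, 3, 0, 1, 2, 1, 0]), (1, [5, 3, 4,
    0, 1, 2, 1, 0]), (24, [4, 5, 1, 0]), (24, [4, 5, 0]), (1, [6, 2, 3, 4, 1, 2, 0]), (1, [1, 2, 3, 4, 1, 2, 1, 0]),
    (24, [2, 3, 4, 3]), (24, [2, 3, 4, 2, 1]), (1, [6, 1, 2, 3, 4, 1, 2, 0]), (1, [2, 3, 4, 1, 2, 1, 0]), (24, [6,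
    2, 3, 4, 1]), (24, [3, 4, 2, 0, 1]), (1, [5, 3, 4, 3, 0, 1, 2, 1, 0]), (1, [4, 0, 1, 2, 1, 0]), (24, [4, 3, 0]),
    (24, [4, 3, 1, 0]), (1, [5, 4, 0, 1, 2, 1, 0]), (1, [3, 4, 3, 0, 1, 2, 1, 0]), (24, [3, 4, 5, 0]), (24, [5, 4,
    3, 0]), (24, [4, 1, 2, 0, 1]), (24, [2, 3, 4, 1]), (1, [6, 2, 3, 4, 1, 2, 1, 0]), (1, [1, 2, 3, 4, 1, 2, 0]),
    (24, [4, 2, 0, 1]), (24, [1, 2, 3, 4, 1]), (1, [2, 3, 4, 1, 2, 0]), (1, [6, 1, 2, 3, 4, 1, 2, 1, 0]), (1, [5, 0,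
    1, 2, 3, 4, 3, 0, 1, 2, 1, 0]), (1, [6, 4, 5, 2, 3, 4, 0, 1, 2, 1, 0]), (24, [6, 2, 1]), (24, [2, 6, 2]), (24,
    [1, 2, 1]), (24, [3, 2, 1]), (1, [0, 1, 2, 3, 4, 3, 0, 1, 2, 1, 0]), (1, [6, 4, 5, 2, 3, 4, 3, 0, 1, 2, 1, 0]),
    (1, [5, 4, 1, 2]), (1, [3, 4, 2]), (24, [3, 2]), (24, [6, 5, 2]), (24, [1, 2]), (24, [6, 2]), (1, [4, 1, 2]),
    (1, [2, 3, 4, 2]), (1, [4, 5, 2, 3, 4, 3, 0, 1, 2, 1, 0]), (1, [6, 0, 1, 2, 3, 4, 3, 0, 1, 2, 1, 0]), (24, [2,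
    3]), (24, [5, 2, 1]), (24, [2, 1]), (24, [2, 6]), (1, [6, 5, 0, 1, 2, 3, 4, 3, 0, 1, 2, 1, 0]), (1, [4, 5, 2, 3,
    4, 0, 1, 2, 1, 0]), (24, [2]), (24, [2, 3, 1]), (1, [5, 3, 4, 1, 2]), (1, [4, 2]), (1, [5, 4, 2]), (1, [3, 4, 1,
    2]), (24, [2, 6, 1]), (24, [5, 2]), (1, [5, 4, 3, 2, 1, 0]), (24, [4, 5, 4, 1]), (1, [3, 4, 2, 1, 0]), (24, [3,
    4, 3, 1]), (1, [6, 0, 1, 2, 3, 4, 0, 1, 2, 0]), (24, [3, 2, 1, 0]), (1, [1, 2, 3, 4, 0, 1, 2, 1, 0]), (24, [6,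
    5, 2, 1, 0]), (1, [4, 3, 2, 1, 0]), (24, [4, 5, 1]), (1, [2, 3, 4, 2, 1, 0]), (24, [4, 5, 0, 1]), (1, [6, 1, 2,
    3, 4, 0, 1, 2, 0]), (24, [5, 3, 2, 1, 0]), (1, [0, 1, 2, 3, 4, 0, 1, 2, 1, 0]), (24, [6, 2, 1, 0]), (1, [5, 2,
    3, 4, 3, 1, 2, 1, 0]), (24, [5, 1, 2, 0, 1]), (1, [6, 2, 3, 4, 3, 0, 1, 2, 1, 0]), (24, [1, 2, 3, 0]), (1, [5,
    4, 1, 2, 0]), (24, [5, 4, 1]), (1, [3, 4, 0, 1, 2, 0]), (24, [6, 3, 4, 1]), (24, [1, 2, 0, 1]), (1, [2, 3, 4, 3,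
    1, 2, 1, 0]), (24, [4, 2, 3]), (1, [6, 5, 2, 3, 4, 3, 0, 1, 2, 1, 0]), (24, [4, 1]), (1, [4, 1, 2, 0]), (24, [6,
    4, 0, 1]), (1, [5, 3, 4, 0, 1, 2, 0]), (1, [5, 3, 4, 3, 2, 1, 0]), (24, [4, 3, 0, 1]), (1, [4, 2, 1, 0]), (24,
    [4, 3, 1]), (24, [2, 1, 0]), (1, [6, 0, 1, 2, 3, 4, 0, 1, 2, 1, 0]), (24, [5, 2, 0, 1, 0]), (1, [1, 2, 3, 4, 0,
    1, 2, 0]), (1, [5, 4, 2, 1, 0]), (24, [2, 3, 1, 0]), (1, [3, 4, 3, 2, 1, 0]), (24, [3, 4, 5, 1]), (24, [2, 0, 1,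
    0]), (1, [0, 1, 2, 3, 4, 0, 1, 2, 0]), (24, [5, 2, 1, 0]), (1, [6, 1, 2, 3, 4, 0, 1, 2, 1, 0]), (1, [5, 2, 3, 4,
    3, 0, 1, 2, 1, 0]), (24, [4, 3, 2, 1]), (1, [6, 2, 3, 4, 3, 1, 2, 1, 0]), (24, [1, 2, 3, 4]), (24, [4, 0, 1]),
    (1, [5, 3, 4, 1, 2, 0]), (24, [6, 4, 1]), (1, [4, 0, 1, 2, 0]), (24, [3, 4, 2, 3]), (1, [6, 5, 2, 3, 4, 3, 1, 2,
    1, 0]), (24, [4, 2, 3, 0]), (1, [2, 3, 4, 3, 0, 1, 2, 1, 0]), (1, [5, 4, 0, 1, 2, 0]), (24, [6, 5, 4, 1]), (1,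
    [3, 4, 1, 2, 0]), (24, [3, 4, 1]), (1, [5, 4, 3, 1, 2, 1, 0]), (24, [4, 5, 4]), (24, [3, 4, 3]), (1, [3, 4, 1,
    2, 1, 0]), (1, [6, 5, 2, 3, 4, 0, 1, 2, 0]), (24, [3, 4, 2, 1]), (24, [4, 5, 2, 1, 0]), (1, [2, 3, 4, 0, 1, 2,
    1, 0]), (1, [6, 2, 3, 4, 0, 1, 2, 0]), (24, [5, 3, 4, 2, 1]), (24, [6, 4, 2, 1]), (1, [5, 2, 3, 4, 0, 1, 2, 1,
    0]), (1, [4, 3, 1, 2, 1, 0]), (24, [4, 5]), (24, [5, 3, 4, 3]), (1, [5, 3, 4, 1, 2, 1, 0]), (1, [5, 1, 2, 3, 4,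
    3, 1, 2, 1, 0]), (24, [5, 2, 0, 1]), (24, [2, 3, 0]), (1, [6, 1, 2, 3, 4, 3, 0, 1, 2, 1, 0]), (1, [5, 4, 2, 0]),
    (24, [5, 4]), (24, [6, 3, 4]), (1, [3, 4, 3, 2, 0]), (24, [4]), (1, [4, 2, 0]), (1, [5, 3, 4, 3, 2, 0]), (24,
    [2, 3, 0, 1]), (24, [2, 0, 1]), (1, [1, 2, 3, 4, 3, 1, 2, 1, 0]), (1, [6, 5, 1, 2, 3, 4, 3, 0, 1, 2, 1, 0]),
    (24, [2, 6, 0]), (1, [5, 1, 2, 3, 4, 3, 0, 1, 2, 1, 0]), (24, [2, 6, 4]), (24, [2, 3, 4]), (1, [6, 1, 2, 3, 4,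
    3, 1, 2, 1, 0]), (24, [0, 1, 2]), (1, [2, 3, 4, 2, 0]), (1, [4, 3, 2, 0]), (24, [6, 4]), (1, [5, 4, 3, 2, 0]),
    (24, [6, 5, 4]), (24, [3, 4]), (1, [3, 4, 2, 0]), (24, [3, 2, 6, 0]), (1, [6, 5, 1, 2, 3, 4, 3, 1, 2, 1, 0]),
    (1, [1, 2, 3, 4, 3, 0, 1, 2, 1, 0]), (24, [6, 2, 3, 0]), (1, [5, 3, 4, 3, 1, 2, 1, 0]), (24, [3, 4, 5, 4]), (24,
    [4, 3]), (1, [4, 1, 2, 1, 0]), (24, [4, 2, 1]), (1, [6, 5, 2, 3, 4, 0, 1, 2, 1, 0]), (1, [2, 3, 4, 0, 1, 2, 0]),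
    (24, [5, 1, 2, 0, 1, 0]), (24, [1, 2, 0, 1, 0]), (1, [5, 2, 3, 4, 0, 1, 2, 0]), (1, [6, 2, 3, 4, 0, 1, 2, 1,
    0]), (24, [5, 4, 2, 1]), (1, [5, 4, 1, 2, 1, 0]), (24, [5, 4, 3]), (24, [3, 4, 5]), (1, [3, 4, 3, 1, 2, 1, 0])]

/-- Each representative with an element of order three fixing it. -/
def vecThree : List (ℕ × List ℕ) :=
    [(1, [4, 5, 3, 4, 2, 3, 1, 2]), (24, [1, 2, 6, 5, 4, 2, 1, 0])]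

end Cfsg.Agent.Co2Three.Close
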