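import Cfsg.Agent.Lib.Co2Three.Close.Spin
import Cfsg.Agent.Lib.Co2Three.Close.Tables

/-!
Kernel checks on the tables of involutions and elements of order three.
-/

set_option autoImplicit false
set_option maxRecDepth 100000
set_option maxHeartbeats 4000000

namespace Cfsg.Agent.Co2Three.Close

open Cfsg.Agent.Co2Recog (Elt eW eId eMul key sameK sylI sylGens gsearch fixV fixInCom memN qv)

/-- A representative. -/
def rep (k : ℕ) : List ℕ := invRep.getD k []

/-- The fourth representative. -/
def uW : List ℕ := rep 3

/-- The word of a certificate entry. -/
def certW (p : ℕ × List ℕ) : List ℕ := p.2 ++ (rep p.1 ++ p.2.reverse)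

/-- The elements of order at most two against their certificate. -/
def covL : List Elt → List (ℕ × List ℕ) → Bool
  | [], _ => true
  | _ :: _, [] => false
  | e :: es, p :: ps => sameK e (eW (certW p)) && Nat.ble p.1 4 && covL es ps

/-- The subgroup of order nine. -/
def pWords : List (List ℕ) :=
  [[], threeA, threeA ++ threeA, threeB, threeA ++ threeB, threeA ++ (threeA ++ threeB), threeB ++ threeB,
    threeA ++ (threeB ++ threeB), threeA ++ (threeA ++ (threeB ++ threeB))]

/-- One element from each subgroup of order three of it. -/
def pFour : List (List ℕ) := [threeA, threeB, threeA ++ threeB, threeA ++ (threeB ++ threeB)]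

/-- The fixed vectors giving no element of order three. -/
def badC : List ℕ := fixU.filter fun c => !(pFour.any fun w => memN comU (Nat.xor c (av w c)))

/-- The base point. -/
def c6 : ℕ := 64

/-- Reaching the base point by commutators. -/
def down : ℕ → ℕ → Bool
  | 0, d => memN comU (Nat.xor d c6)
  | n + 1, d => memN comU (Nat.xor d c6) ||
      sylGens.any fun g => !(memN comU (Nat.xor d (av g d))) && down n (Nat.xor d (av g d))

/-- The elements of the fourth class in the Sylow subgroup. -/
def purC : List (List ℕ) := (sylCert.filter fun p => Nat.beq p.1 3).map certW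

/-- The 81 words of the Sylow subgroup for the prime three. -/
def threeL : List (List ℕ) :=
  sylThree.foldl (fun L g => L ++ (L.map (fun w => g ++ w) ++ L.map (fun w => g ++ (g ++ w)))) [[]]

/-- No code occurs twice. -/
def nodupB : List ℕ → Bool
  | [] => true
  | a :: l => !(l.any (Nat.beq a)) && nodupB l

theorem syl_cov : covL sylI sylCert = true := by decide +kernel

theorem cls_flat : ((List.range 3).all fun k => fixInCom (eW (rep k)) &&
    ord3 (comThree.getD k []) && comW (comThree.getD k []) (rep k)) = true := by decide +kernel

theorem flat_card : ((List.range 3).all fun k =>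
    Nat.beq ((List.range 256).filter (fixV (eW (rep k)))).length 16) = true := by decide +kernel

theorem u_facts : (sylGens.all fun g => comW uW g) = true ∧
    ((List.range 256).all fun v => (fixV (eW uW) v == memN fixU v) && memN comU (Nat.xor v (av uW v))) = true ∧
    (comU.all fun c => memN fixU c && (List.range 256).any fun v => Nat.beq (Nat.xor v (av uW v)) c) = true ∧
    (comU.all fun c => comU.all fun d => memN comU (Nat.xor c d)) = true ∧
    Nat.beq fixU.length 64 = true ∧ nodupB fixU = true ∧ Nat.beq comU.length 4 = true ∧ nodupB comU = true := by
  decide +kernel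

theorem p_facts : ord3 threeA = true ∧ ord3 threeB = true ∧ comW threeA threeB = true ∧
    comW threeA uW = true ∧ comW threeB uW = true ∧ (pFour.all fun w => ord3 w && comW w uW) = true := by
  decide +kernel

theorem bad_trans : (badC.all fun c => pWords.any fun w => memN comU (Nat.xor c (av w c6))) = true ∧
    memN badC c6 = true := by decide +kernel

theorem bad_rigid : (sylGens.all fun g => memN comU (Nat.xor c6 (av g c6)) &&
    fixU.all fun d => memN comU d || badC.any fun c => !(memN badC (Nat.xor d (av g c)))) = true := by
  decide +kernel

theorem bad_pair : (memN fixU 2 && memN fixU 100 && !(memN badC (Nat.xor c6 2)) &&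
    !(memN badC (Nat.xor c6 100)) && !(memN badC (Nat.xor c6 (Nat.xor 2 100)))) = true := by decide +kernel

theorem bad_down : (fixU.all fun d => memN comU d || down 2 d) = true := by decide +kernel

theorem bad_com : (comU.all fun d => !(memN badC d)) = true := by decide +kernel

theorem pure_small : gsearch 5 16 ([[]].map eW) (purC.map eW) = true := by decide +kernel

theorem three_closed :
    (let K := threeL.map fun w => key (eW w)
     sylThree.all fun g => threeL.all fun w => K.any (Nat.beq (key (eW (g ++ w))))) = true := by decide +kernel

theorem three_card : Nat.beq threeL.length 81 = true ∧ nodupB (threeL.map fun w => key (eW w)) = true ∧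
    (sylThree.all fun g => ord3 g) = true ∧
    Nat.ble (threeL.filter fun w => sylThree.all fun g => comW g w).length 3 = true := by decide +kernel

theorem orb_ok : ((List.range 256).all fun v => Nat.beq v 0 ||
    ((vecThree.any fun p => Nat.beq p.1 (orbVec.getD v (0, [])).1) &&
      Nat.beq (av (orbVec.getD v (0, [])).2 (orbVec.getD v (0, [])).1) v)) = true ∧
    (vecThree.all fun p => ord3 p.2 && Nat.beq (av p.2 p.1) p.1) = true := by decide +kernel

end Cfsg.Agent.Co2Three.Close
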