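import Cfsg.Agent.Lib.Co2Three.Basic
import Cfsg.Agent.Lib.CentralInter.Reduce
import Cfsg.Agent.Lib.Co2Recog.Start

/-!
A group with the local configuration has no normal subgroup of odd order, trivial centre, and the reflection has
another conjugate in its centraliser.
-/

set_option autoImplicit false
set_option maxRecDepth 20000
set_option linter.style.haveILetI false

namespace Cfsg.Agent.Co2Three.Loc

open Subgroup

/-- A non-singular vector has a singular difference or sum with one of its images. -/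
theorem sing_diff : ∀ v : V4, v ≠ 0 → qf v ≠ 0 →
    (moveList.any fun p => decide (p.2.mulVec v - v ≠ 0 ∧ qf (p.2.mulVec v - v) = 0) ||
      decide (p.2.mulVec v + v ≠ 0 ∧ qf (p.2.mulVec v + v) = 0)) = true := by
  decide +kernel

variable {G : Type*} [Group G] [Finite G] (L : Loc G)
include L

/-- The abelian group as a subgroup. -/
def jay : Subgroup G where
  carrier := Set.range L.el
  one_mem' := ⟨0, L.el_zero⟩
  mul_mem' := by rintro _ _ ⟨u, rfl⟩ ⟨v, rfl⟩; exact ⟨u + v, L.el_add u v⟩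
  inv_mem' := by rintro _ ⟨u, rfl⟩; exact ⟨-u, L.el_neg u⟩

theorem odd_core : Cfsg.oddCore G = ⊥ := by
  classical
  haveI : Fact (Nat.Prime 3) := ⟨Nat.prime_three⟩
  set O := Cfsg.oddCore G with hO
  have hn : O.Normal := inferInstance
  have hodd : Odd (Nat.card O) := CentralInter.odd_card_oddCore
  by_contra hne
  have h3 : 3 ∣ Nat.card O := by
    by_contra h
    exact hne (L.no_sig O (Nat.Coprime.symm ((Nat.Prime.coprime_iff_not_dvd Nat.prime_three).2 h))
      fun v k hk => hn.conj_mem k hk _)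
  -- a three-element of the core commuting with the abelian group
  obtain ⟨x, hx⟩ := exists_prime_orderOf_dvd_card' (G := ↥O) 3 h3
  have hJ : IsPGroup 3 ↥L.jay := fun j => ⟨1, Subtype.ext (by
    obtain ⟨v, hv⟩ := j.2
    rw [SubmonoidClass.coe_pow, pow_one, ← hv, L.el_cube]; rfl)⟩
  obtain ⟨S0, hS0⟩ := hJ.exists_le_sylow
  obtain ⟨S1, hS1⟩ := (IsPGroup.of_card (p := 3) (n := 1)
    (by rw [Nat.card_zpowers, Subgroup.orderOf_coe, hx, pow_one]) : IsPGroup 3 ↥(zpowers (x : G))).exists_le_sylow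
  obtain ⟨g, hg⟩ := MulAction.exists_smul_eq G S1 S0
  set R := O ⊓ (S0 : Subgroup G) with hR
  have hxR : g * (x : G) * g⁻¹ ∈ R := by
    refine mem_inf.2 ⟨hn.conj_mem _ x.2 g, ?_⟩
    rw [← hg]
    exact ⟨x, hS1 (mem_zpowers _), rfl⟩
  letI : MulAction ↥L.jay ↥R :=
    { smul := fun j r => ⟨j.1 * r.1 * j.1⁻¹, mem_inf.2 ⟨hn.conj_mem _ (mem_inf.1 r.2).1 _,
        mul_mem (mul_mem (hS0 j.2) (mem_inf.1 r.2).2) (inv_mem (hS0 j.2))⟩⟩
      one_smul := fun r => Subtype.ext (by change (1 : G) * r.1 * (1 : G)⁻¹ = r.1; group)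
      mul_smul := fun p q r => Subtype.ext (by
        change (p.1 * q.1) * r.1 * (p.1 * q.1)⁻¹ = p.1 * (q.1 * r.1 * q.1⁻¹) * p.1⁻¹; group) }
  have hR3 : IsPGroup 3 ↥R := S0.2.to_le inf_le_right
  have hdvd : 3 ∣ Nat.card ↥R := by
    have : orderOf (g * (x : G) * g⁻¹) = 3 := by
      rw [show g * (x : G) * g⁻¹ = (MulAut.conj g).toMonoidHom x by simp,
        orderOf_injective _ (MulAut.conj g).injective, Subgroup.orderOf_coe, hx]
    exact this ▸ (Subgroup.orderOf_mk _ hxR ▸ orderOf_dvd_natCard (⟨_, hxR⟩ : ↥R))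
  have h1 : (1 : ↥R) ∈ MulAction.fixedPoints ↥L.jay ↥R := fun j => Subtype.ext (by
    change j.1 * (1 : G) * j.1⁻¹ = 1; group)
  obtain ⟨r, hr, hr1⟩ := hJ.exists_fixed_point_of_prime_dvd_card_of_fixed_point ↥R hdvd h1
  obtain ⟨v, hv⟩ := L.cent_J (r : G) fun u =>
    (mul_inv_eq_iff_eq_mul.1 (congrArg Subtype.val (hr ⟨L.el u, u, rfl⟩))).symm
  have hv0 : v ≠ 0 := fun e => hr1 (Subtype.ext (by rw [hv, e, L.el_zero]; rfl))
  have hvO : L.el v ∈ O := hv ▸ (mem_inf.1 r.2).1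
  -- a singular vector in the core
  obtain ⟨u, hu0, hqu, huO⟩ : ∃ u, u ≠ 0 ∧ qf u = 0 ∧ L.el u ∈ O := by
    by_cases hq : qf v = 0
    · exact ⟨v, hv0, hq, hvO⟩
    obtain ⟨p, hp, h⟩ := List.any_eq_true.1 (sing_diff v hv0 hq)
    obtain ⟨k, hk⟩ := L.realise p.2 (Or.inl (move_ok hp).2)
    have hmv : L.el (p.2.mulVec v) ∈ O := hk v ▸ hn.conj_mem _ hvO k
    simp only [Bool.or_eq_true, decide_eq_true_eq] at h
    rcases h with ⟨h1, h2⟩ | ⟨h1, h2⟩
    · exact ⟨_, h1, h2, L.el_sub _ v ▸ O.mul_mem hmv (O.inv_mem hvO)⟩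
    · exact ⟨_, h1, h2, (L.el_add _ v).symm ▸ O.mul_mem hmv hvO⟩
  obtain ⟨k, hk⟩ := (L.fused u hu0).2 hqu
  obtain ⟨k', hk'⟩ := (L.fused e3 (by decide +kernel)).2 (by decide +kernel)
  have he3 : L.el e3 ∈ O := by
    rw [← hk', show L.el e0 = k⁻¹ * L.el u * k⁻¹⁻¹ by rw [← hk]; group]
    exact hn.conj_mem _ (hn.conj_mem _ huO _) _
  -- it centralises the quaternion group
  have he3c : L.el e3 ∈ centralizer ({L.el e0} : Set G) ⊓ centralizer {L.t} := mem_inf.2
    ⟨mem_centralizer_singleton_iff.2 (L.el_comm _ _).eq, mem_centralizer_singleton_iff.2 (by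
      have h := L.t_act e3
      rw [show refl1 e3 = e3 by decide +kernel] at h
      exact (mul_inv_eq_iff_eq_mul.1 h).symm)⟩
  have hc : ∀ p ∈ L.P, Commute p (L.el e3) := fun p hp => by
    have h2 : L.el e3 * p * (L.el e3)⁻¹ * p⁻¹ ∈ O := by
      rw [show L.el e3 * p * (L.el e3)⁻¹ * p⁻¹ = L.el e3 * (p * (L.el e3)⁻¹ * p⁻¹) by group]
      exact O.mul_mem he3 (hn.conj_mem _ (O.inv_mem he3) p)
    have h3 : L.el e3 * p * (L.el e3)⁻¹ * p⁻¹ ∈ L.P :=
      L.P.mul_mem (L.P_norm _ he3c p hp) (L.P.inv_mem hp)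
    have d1 := orderOf_dvd_natCard (⟨_, h2⟩ : ↥O)
    have d2 := orderOf_dvd_natCard (⟨_, h3⟩ : ↥L.P)
    rw [Subgroup.orderOf_mk] at d1 d2
    rw [L.P_card] at d2
    have hcop : Nat.Coprime (Nat.card O) 8 := by
      rw [show 8 = 2 ^ 3 by rfl]
      exact Nat.Coprime.pow_right 3 (Nat.coprime_two_right.2 hodd)
    have e := orderOf_eq_one_iff.1 (Nat.eq_one_of_dvd_coprimes hcop d1 d2)
    exact (mul_inv_eq_iff_eq_mul.1 (mul_inv_eq_one.1 e)).symm
  have hle : (L.P : Subgroup G) ≤ zpowers L.t := fun p hp => by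
    rcases L.P_move e3 (by decide +kernel) (by decide +kernel) p hp (hc p hp) with rfl | rfl
    · exact one_mem _
    · exact mem_zpowers _
  have h8 := Nat.le_of_dvd Nat.card_pos (Subgroup.card_dvd_of_le hle)
  rw [L.P_card, Nat.card_zpowers] at h8
  have := Nat.le_of_dvd two_pos (orderOf_dvd_of_pow_eq_one (by rw [pow_two]; exact L.t_sq : L.t ^ 2 = 1))
  omega

theorem centre_bot : Subgroup.center G = ⊥ := by
  refine (eq_bot_iff_forall _).2 fun z hz => ?_
  obtain ⟨v, rfl⟩ := L.cent_J z fun u => (mem_center_iff.1 hz (L.el u)).symm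
  obtain ⟨g, hg⟩ := L.realise (-1) (Or.inl fun u => by
    rw [Matrix.neg_mulVec, Matrix.one_mulVec]
    simp [qf])
  have h := hg v
  rw [Matrix.neg_mulVec, Matrix.one_mulVec, mem_center_iff.1 hz g, mul_inv_cancel_right] at h
  have hh : ∀ w : V4, w = -w → w = 0 := by decide +kernel
  rw [hh v (L.el_inj h), L.el_zero]

theorem t_order : orderOf L.t = 2 := by
  refine orderOf_eq_prime (by rw [pow_two]; exact L.t_sq) fun e => ?_
  have h := L.t_act e1
  rw [e, one_mul, inv_one, mul_one] at h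
  exact absurd (L.el_inj h) (by decide +kernel)

/-- The reflection has another conjugate commuting with it. -/
theorem t_moved : ∃ g : G, g * L.t * g⁻¹ ∈ centralizer {L.t} ∧ g * L.t * g⁻¹ ≠ L.t := by
  by_contra hc
  push Not at hc
  obtain ⟨N, hN, hodd, htop⟩ := Co2Recog.Start.isolated L.t L.t_order hc
  rw [show N = ⊥ from le_bot_iff.1 ((SEBrick.le_oddCore hN hodd).trans L.odd_core.le), sup_bot_eq] at htop
  have hz : L.t ∈ center G := mem_center_iff.2 fun g =>
    mem_centralizer_singleton_iff.1 (htop.ge (mem_top g))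
  rw [L.centre_bot, mem_bot] at hz
  have := L.t_order
  rw [hz, orderOf_one] at this
  omega

end Cfsg.Agent.Co2Three.Loc
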