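import Mathlib.GroupTheory.Sylow
import Mathlib.GroupTheory.OrderOfElement
import Mathlib.GroupTheory.Nilpotent

/-!
An elementary abelian 2-subgroup `A` that no conjugation moves within its normaliser: fusion in the centraliser
of a subgroup of `A` is controlled by the normaliser, and such a centraliser lies in the normaliser as soon as
two cosets are not fused and the centralisers one step up do.
-/

set_option autoImplicit false
set_option linter.style.haveILetI false

namespace Cfsg.Agent.Co2Three.Close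

open Subgroup

variable {H : Type*} [Group H]

/-- The hypotheses on `A`. -/
structure Closed (A : Subgroup H) : Prop where
  sq : ∀ a ∈ A, a * a = 1
  closed : ∀ a ∈ A, ∀ g : H, g * a * g⁻¹ ∈ normalizer (A : Set H) → g * a * g⁻¹ ∈ A

variable {A : Subgroup H}

theorem Closed.inv_eq (h : Closed A) {a : H} (ha : a ∈ A) : a⁻¹ = a := inv_eq_of_mul_eq_one_right (h.sq a ha)

theorem Closed.comm (h : Closed A) {a b : H} (ha : a ∈ A) (hb : b ∈ A) : a * b = b * a := by
  rw [← h.inv_eq (A.mul_mem ha hb), mul_inv_rev, h.inv_eq ha, h.inv_eq hb]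

theorem Closed.isPGroup (h : Closed A) : IsPGroup 2 ↥A := fun a =>
  ⟨1, Subtype.ext (by rw [pow_one, pow_two]; exact h.sq a.1 a.2)⟩

/-- The centraliser of `F` inside the normaliser of `A`. -/
def NF (A : Subgroup H) (F : Set H) : Subgroup H := normalizer (A : Set H) ⊓ centralizer F

variable [Finite H]

/-- A conjugate of `A` inside the normaliser is `A`. -/
theorem Closed.conj_eq (h : Closed A) {g : H} (hg : ∀ a ∈ A, g * a * g⁻¹ ∈ normalizer (A : Set H)) :
    g ∈ normalizer (A : Set H) := by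
  have hle : ∀ a ∈ A, g * a * g⁻¹ ∈ A := fun a ha => h.closed a ha g (hg a ha)
  have hbij : Function.Bijective fun a : ↥A => (⟨g * a.1 * g⁻¹, hle a.1 a.2⟩ : ↥A) :=
    Finite.injective_iff_bijective.1 fun a b e => Subtype.ext (by simpa using congrArg Subtype.val e)
  refine mem_normalizer_iff.2 fun x => ⟨hle x, fun hx => ?_⟩
  obtain ⟨b, hb⟩ := hbij.2 ⟨_, hx⟩
  have hb' : g * b.1 * g⁻¹ = g * x * g⁻¹ := congrArg Subtype.val hb
  rw [← mul_left_cancel (mul_right_cancel hb')]
  exact b.2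

/-- A 2-group containing `A` normalises it. -/
theorem Closed.le_normalizer (h : Closed A) {P : Subgroup H} (hP : IsPGroup 2 ↥P) (hA : A ≤ P) :
    P ≤ normalizer (A : Set H) := by
  haveI : Fact (Nat.Prime 2) := ⟨Nat.prime_two⟩
  haveI := hP.isNilpotent
  by_contra hne
  set N := (normalizer (A : Set H)).subgroupOf P with hN
  have hN' : N ≠ ⊤ := fun e => hne fun x hx =>
    (mem_subgroupOf (K := P) (h := ⟨x, hx⟩)).1 (hN ▸ e ▸ mem_top _)
  obtain ⟨u, hu, huN⟩ := SetLike.exists_of_lt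
    (normalizerCondition_of_isNilpotent N (lt_top_iff_ne_top.2 hN'))
  refine huN (mem_subgroupOf.2 (h.conj_eq fun a ha => ?_))
  exact mem_subgroupOf.1 ((mem_normalizer_iff.1 hu (⟨a, hA ha⟩ : ↥P)).1
    (mem_subgroupOf.2 (Subgroup.le_normalizer ha)))

/-- Fusion in the centraliser of part of `A` is controlled by the normaliser. -/
theorem Closed.control (h : Closed A) {F : Subgroup H} (hF : F ≤ A) {a g : H} (ha : a ∈ A)
    (hg : g ∈ centralizer (F : Set H)) (hga : g * a * g⁻¹ ∈ A) :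
    ∃ n ∈ NF A F, n * a * n⁻¹ = g * a * g⁻¹ := by
  haveI : Fact (Nat.Prime 2) := ⟨Nat.prime_two⟩
  set Y := centralizer ((F : Set H) ∪ {a}) with hY
  have hAY : A ≤ Y := fun x hx => mem_centralizer_iff.2 fun y hy =>
    hy.elim (fun hy => h.comm (hF hy) hx) fun e => e ▸ h.comm ha hx
  have hgY : ∀ x ∈ A, g⁻¹ * x * g ∈ Y := fun x hx => mem_centralizer_iff.2 fun y hy => by
    have hy' : g * y * g⁻¹ ∈ A := hy.elim
      (fun hy => by rw [← mem_centralizer_iff.1 hg y hy, mul_inv_cancel_right]; exact hF hy)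
      fun e => e ▸ hga
    calc y * (g⁻¹ * x * g) = g⁻¹ * ((g * y * g⁻¹) * x) * g := by group
      _ = g⁻¹ * (x * (g * y * g⁻¹)) * g := by rw [h.comm hy' hx]
      _ = g⁻¹ * x * g * y := by group
  obtain ⟨Q, hQ⟩ := (h.isPGroup.comap_subtype (K := Y)).exists_le_sylow
  obtain ⟨P, hP⟩ := ((h.isPGroup.map (MulAut.conj g⁻¹).toMonoidHom).comap_subtype (K := Y)).exists_le_sylow
  obtain ⟨c, hc⟩ := MulAction.exists_smul_eq ↥Y P Q
  have hQN : (Q : Subgroup ↥Y).map Y.subtype ≤ normalizer (A : Set H) :=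
    h.le_normalizer (Q.2.map _) fun x hx => ⟨⟨x, hAY hx⟩, hQ (mem_subgroupOf.2 hx), rfl⟩
  have hn : (c : H) * g⁻¹ ∈ normalizer (A : Set H) := h.conj_eq fun x hx => by
    have hxP : (⟨g⁻¹ * x * g, hgY x hx⟩ : ↥Y) ∈ (P : Subgroup ↥Y) :=
      hP (mem_subgroupOf.2 ⟨x, hx, by simp⟩)
    have hxQ : c * ⟨g⁻¹ * x * g, hgY x hx⟩ * c⁻¹ ∈ (Q : Subgroup ↥Y) := by
      rw [← hc]
      exact ⟨⟨g⁻¹ * x * g, hgY x hx⟩, hxP, rfl⟩
    have := hQN (mem_map_of_mem Y.subtype hxQ)
    simpa [mul_assoc] using this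
  have hcF : (c : H) ∈ centralizer (F : Set H) :=
    mem_centralizer_iff.2 fun y hy => mem_centralizer_iff.1 c.2 y (Or.inl hy)
  have hca : (c : H)⁻¹ * a * c = a := by
    rw [mul_assoc, mem_centralizer_iff.1 c.2 a (Or.inr rfl), inv_mul_cancel_left]
  refine ⟨((c : H) * g⁻¹)⁻¹, mem_inf.2 ⟨inv_mem hn, inv_mem (mul_mem hcF (inv_mem hg))⟩, ?_⟩
  rw [show ((c : H) * g⁻¹)⁻¹ * a * ((c : H) * g⁻¹)⁻¹⁻¹ = g * ((c : H)⁻¹ * a * c) * g⁻¹ by group, hca]

omit [Finite H] in
/-- The rotations of the second of two involutions. -/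
theorem rot_snd {p q : H} (hp : p * p = 1) (hq : q * q = 1) (k : ℕ) :
    (p * q) ^ k * q * ((p * q) ^ k)⁻¹ = (p * q) ^ (k + k) * q := by
  have e : q * (p * q) ^ k * q⁻¹ = ((p * q) ^ k)⁻¹ := by
    rw [← conj_pow, ← inv_pow, mul_inv_rev, inv_eq_of_mul_eq_one_right hp, inv_eq_of_mul_eq_one_right hq,
      mul_assoc q (p * q) q, mul_assoc p q q, hq, mul_one]
  rw [← e, pow_add, inv_eq_of_mul_eq_one_right hq]
  calc (p * q) ^ k * q * (q * (p * q) ^ k * q) = (p * q) ^ k * (q * q) * (p * q) ^ k * q := by group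
    _ = _ := by rw [hq, mul_one]

omit [Finite H] in
/-- The rotations of the first of two involutions. -/
theorem rot_fst {p q : H} (hp : p * p = 1) (hq : q * q = 1) (k : ℕ) :
    (p * q) ^ k * p * ((p * q) ^ k)⁻¹ = (p * q) ^ (k + k) * p := by
  have e : p = (p * q) * q := by rw [mul_assoc, hq, mul_one]
  calc (p * q) ^ k * p * ((p * q) ^ k)⁻¹ = (p * q) ^ k * ((p * q) * q) * ((p * q) ^ k)⁻¹ := by rw [← e]
    _ = (p * q) * ((p * q) ^ k * q * ((p * q) ^ k)⁻¹) := by
      rw [← mul_assoc ((p * q) ^ k), (Commute.pow_self (p * q) k).eq]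
      group
    _ = (p * q) ^ (k + k) * ((p * q) * q) := by
      rw [rot_snd hp hq, ← mul_assoc, ← (Commute.pow_self (p * q) (k + k)).eq, mul_assoc]
    _ = _ := by rw [← e]

/-- **The step**: two cosets of `F` in `A` that the normaliser does not fuse, with the centralisers one step up
inside the normaliser, put the centraliser of `F` inside. -/
theorem Closed.step (h : Closed A) {F : Subgroup H} (hF : F ≤ A) {a c : H} (ha : a ∈ A) (hc : c ∈ A)
    (hne : ∀ n ∈ NF A F, a * (n * c * n⁻¹) ∉ F)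
    (hCa : centralizer ((F : Set H) ∪ {a}) ≤ normalizer (A : Set H))
    (hCc : centralizer ((F : Set H) ∪ {c}) ≤ normalizer (A : Set H))
    (hCw : ∀ n ∈ NF A F, ∀ b, b = a ∨ b = c → a * (n * b * n⁻¹) ∉ F →
      centralizer ((F : Set H) ∪ {a * (n * b * n⁻¹)}) ≤ normalizer (A : Set H)) :
    centralizer (F : Set H) ≤ normalizer (A : Set H) := by
  classical
  intro g hg
  set X := centralizer (F : Set H) with hX
  have hAX : A ≤ X := fun x hx => mem_centralizer_iff.2 fun y hy => h.comm (hF hy) hx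
  -- an element that moves a point of `A` into `A` is the product of a normalising one and a centralising one
  have split : ∀ {b u : H}, b ∈ A → u ∈ X → u * b * u⁻¹ ∈ A →
      centralizer ((F : Set H) ∪ {b}) ≤ normalizer (A : Set H) → u ∈ normalizer (A : Set H) := by
    intro b u hb hu hub hCb
    obtain ⟨n, hn, hn'⟩ := h.control hF hb hu hub
    have hnX : n⁻¹ * u ∈ centralizer ((F : Set H) ∪ {b}) := mem_centralizer_iff.2 fun y hy => by
      rcases hy with hy | rfl
      · exact mem_centralizer_iff.1 (mul_mem (inv_mem (mem_inf.1 hn).2) hu) y hy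
      · calc y * (n⁻¹ * u) = n⁻¹ * (n * y * n⁻¹) * u := by group
          _ = n⁻¹ * u * y := by rw [hn']; group
    have := mul_mem (mem_inf.1 hn).1 (hCb hnX)
    rwa [mul_inv_cancel_left] at this
  set q := g * c * g⁻¹ with hq
  have hqX : q ∈ X := mul_mem (mul_mem hg (hAX hc)) (inv_mem hg)
  have ha2 := h.sq a ha
  have hq2 : q * q = 1 := by rw [hq, conj_mul, h.sq c hc, mul_one, mul_inv_cancel]
  set d := a * q with hd
  have hdX : d ∈ X := mul_mem (hAX ha) hqX
  have hdq : d * q = a := by rw [hd, mul_assoc, hq2, mul_one]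
  have rq : ∀ k, d ^ k * q * (d ^ k)⁻¹ = d ^ (k + k) * q := rot_snd ha2 hq2
  have ra : ∀ k, d ^ k * a * (d ^ k)⁻¹ = d ^ (k + k) * a := rot_fst ha2 hq2
  -- an odd rotation moves `q`, so `c`, to a multiple of `a`
  have rodd : ∀ i, d ^ (i + 1) * g * c * (d ^ (i + 1) * g)⁻¹ = d ^ (i + i + 1) * a := fun i => by
    calc d ^ (i + 1) * g * c * (d ^ (i + 1) * g)⁻¹ = d ^ (i + 1) * q * (d ^ (i + 1))⁻¹ := by rw [hq]; group
      _ = d ^ (i + i + 1 + 1) * q := by rw [rq, show i + 1 + (i + 1) = i + i + 1 + 1 by omega]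
      _ = d ^ (i + i + 1) * a := by rw [pow_succ, mul_assoc, hdq]
  have hex : ∃ r, 0 < r ∧ d ^ r ∈ F := ⟨orderOf d, orderOf_pos d, by rw [pow_orderOf_eq_one]; exact F.one_mem⟩
  obtain ⟨hr0, hrF⟩ := Nat.find_spec hex
  set r := Nat.find hex with hr
  obtain ⟨j, hj | hj⟩ := Nat.even_or_odd' r
  · set w := d ^ j with hw
    have hwF : w ∉ F := fun e => Nat.find_min hex (show j < r by omega) ⟨by omega, e⟩
    have hwX : w ∈ X := pow_mem hdX j
    have hwN : w ∈ normalizer (A : Set H) := by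
      refine split ha hwX ?_ hCa
      rw [hw, ra, show j + j = r by omega]
      exact A.mul_mem (hF hrF) ha
    have hwaN : w * a ∈ normalizer (A : Set H) := mul_mem hwN (Subgroup.le_normalizer ha)
    -- `w * a` is a conjugate of `a` or of `c`
    obtain ⟨b, u, hb, hbA, hu, hub⟩ : ∃ b u, (b = a ∨ b = c) ∧ b ∈ A ∧ u ∈ X ∧ u * b * u⁻¹ = w * a := by
      obtain ⟨i, hi | hi⟩ := Nat.even_or_odd' j
      · exact ⟨a, d ^ i, Or.inl rfl, ha, pow_mem hdX i, by rw [hw, ra, show i + i = j by omega]⟩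
      · exact ⟨c, d ^ (i + 1) * g, Or.inr rfl, hc, mul_mem (pow_mem hdX _) hg,
          by rw [hw, rodd, show i + i + 1 = j by omega]⟩
    have hmem : w * a ∈ A := by
      rw [← hub]; exact h.closed b hbA u (by rw [hub]; exact hwaN)
    have hwA : w ∈ A := by
      have := A.mul_mem hmem (A.inv_mem ha); rwa [mul_inv_cancel_right] at this
    have hwq : w * q * w⁻¹ = q := by
      rw [hw, rq, pow_add, show d ^ j * d ^ j = 1 from h.sq w hwA, one_mul]
    obtain ⟨n, hn, hn'⟩ := h.control hF hbA hu (by rw [hub]; exact hmem)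
    have hwe : a * (n * b * n⁻¹) = w := by
      rw [hn', hub, h.comm hwA ha, ← mul_assoc, ha2, one_mul]
    have hCw' := hCw n hn b hb (by rw [hwe]; exact hwF)
    rw [hwe] at hCw'
    have hqN : q ∈ normalizer (A : Set H) := hCw' (mem_centralizer_iff.2 fun y hy => by
      rcases hy with hy | rfl
      · exact mem_centralizer_iff.1 hqX y hy
      · exact mul_inv_eq_iff_eq_mul.1 hwq)
    exact split hc hg (h.closed c hc g hqN) hCc
  · exfalso
    have e := rodd j
    rw [show j + j + 1 = r by omega] at e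
    obtain ⟨n, hn, hn'⟩ := h.control hF hc (mul_mem (pow_mem hdX (j + 1)) hg)
      (by rw [e]; exact A.mul_mem (hF hrF) ha)
    refine hne n hn ?_
    rw [hn', e, h.comm (hF hrF) ha, ← mul_assoc, ha2, one_mul]
    exact hrF

/-- **The end**: two unfused involutions of `A` with centralisers in the normaliser, and likewise for the
elements of `A` commuting with the first, make `A` normal. -/
theorem Closed.normal_of_two (h : Closed A) {a c : H} (ha : a ∈ A) (hc : c ∈ A)
    (hne : ∀ n ∈ normalizer (A : Set H), n * c * n⁻¹ ≠ a)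
    (hC : ∀ w ∈ A, w ≠ 1 → centralizer ({w} : Set H) ≤ normalizer (A : Set H)) (ha1 : a ≠ 1) (hc1 : c ≠ 1) :
    normalizer (A : Set H) = ⊤ := by
  have up : ∀ w ∈ A, w ≠ 1 → centralizer (((⊥ : Subgroup H) : Set H) ∪ {w}) ≤ normalizer (A : Set H) :=
    fun w hw h1 => (Subgroup.centralizer_le Set.subset_union_right).trans (hC w hw h1)
  refine eq_top_iff.2 fun g _ => h.step bot_le ha hc (fun n hn e => ?_) (up a ha ha1) (up c hc hc1)
    (fun n hn b hb hne' => up _ (A.mul_mem ha ?_) fun e => hne' (by rw [e]; exact one_mem _)) ?_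
  · rw [mem_bot, mul_eq_one_iff_eq_inv] at e
    refine hne n (mem_inf.1 hn).1 ?_
    rw [← inv_inj, ← e, h.inv_eq ha]
  · rcases hb with rfl | rfl
    · exact (mem_normalizer_iff.1 (mem_inf.1 hn).1 _).1 ha
    · exact (mem_normalizer_iff.1 (mem_inf.1 hn).1 _).1 hc
  · exact mem_centralizer_iff.2 fun y hy => by rw [mem_bot.1 hy, one_mul, mul_one]

end Cfsg.Agent.Co2Three.Close
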