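import Cfsg.Agent.Lib.Co2Recog.Setup
import Cfsg.Agent.Lib.Co2Three.Close.Engine

/-!
What the closing step of the 3-local recognition of the second Conway group consumes: in the centraliser of the
involution `t`, the normaliser `M` of an extraspecial group `W` of order 512 acts on `W / ⟨t⟩` as on the spin
module, and `M` contains the normalisers of its subgroups of order three.
-/

set_option autoImplicit false

namespace Cfsg.Agent.Co2Three.Close

open Subgroup

/-- The normaliser of `W` in the centraliser of `t`. -/
abbrev MW {G : Type*} [Group G] (t : G) (W : Subgroup G) : Subgroup G :=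
  normalizer (W : Set G) ⊓ centralizer ({t} : Set G)

/-- The data of the closing step. -/
structure Closing {G : Type*} [Group G] (t : G) (W : Subgroup G) where
  ht : orderOf t = 2
  t_mem : t ∈ MW t W
  le : W ≤ centralizer {t}
  extra : Cfsg.IsExtraspecial 2 W
  card : Nat.card W = 512
  self : ∀ x ∈ centralizer ({t} : Set G), (∀ q ∈ W, x * q = q * x) → x ∈ W
  /-- the action of `M` on `W` modulo `t` -/
  K : Co2Recog.Coords (⟨t, t_mem⟩ : ↥(MW t W)) (W.subgroupOf (MW t W))
  /-- strong embedding for the prime three -/
  three : ∀ x ∈ MW t W, orderOf x = 3 → ∀ g ∈ centralizer ({t} : Set G),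
    g * x * g⁻¹ ∈ zpowers x → g ∈ MW t W

end Cfsg.Agent.Co2Three.Close
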