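import Cfsg.Agent.Lib.Co2Three.Close.Bridge
import Cfsg.Agent.Lib.Co2Three.Close.Core
import Cfsg.Agent.Lib.Co2Recog.Recognition

/-!
The data of the closing step at the reflection identify the group with the second Conway group.
-/

set_option autoImplicit false
set_option maxRecDepth 20000

namespace Cfsg.Agent.Co2Three.Close

open Subgroup
open Cfsg.Agent.Co2Recog

universe u

/-- The data of the closing step give the setting of the recognition. -/
theorem Closing.setup {G : Type*} [Group G] [Finite G] {t : G} {W : Subgroup G} (D : Closing t W)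
    (hmoved : ∃ g : G, g * t * g⁻¹ ∈ centralizer {t} ∧ g * t * g⁻¹ ≠ t) : Setup t W where
  ht := D.ht
  le := D.le
  norm x hx q hq := (mem_normalizer_iff.1 (mem_inf.1 (D.cent_eq hx)).1 q).1 hq
  extra := D.extra
  card := D.card
  self := D.self
  quot := by
    let f : ↥(centralizer ({t} : Set G)) →* Equiv.Perm (Fin 63) := D.K.π.comp
      { toFun := fun x => ⟨⟨x, D.cent_eq x.2⟩, D.all_cent _⟩
        map_one' := rfl
        map_mul' := fun _ _ => rfl }
    refine ⟨f, ?_, ?_⟩
    · rw [← D.K.range]
      ext s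
      constructor
      · rintro ⟨x, rfl⟩
        exact ⟨_, rfl⟩
      · rintro ⟨⟨⟨x, hx⟩, -⟩, rfl⟩
        exact ⟨⟨x, (mem_inf.1 hx).2⟩, rfl⟩
    · ext x
      rw [MonoidHom.mem_ker, mem_subgroupOf]
      exact (D.K.ker _).trans mem_subgroupOf
  moved := hmoved

/-- **The closing step of the recognition from a three-centraliser.** -/
theorem iso_of_closing {G : Type u} [Group G] [Finite G] (L : Loc G) {W : Subgroup G} (D : Closing L.t W) :
    Cfsg.Spor.IsoCo2 G := by
  have S := D.setup L.t_moved
  obtain ⟨K⟩ := S.exists_coords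
  obtain ⟨φ, inj, -, hC, hA, hN⟩ := Side.exists_embedding S K
  have hN' : ∀ g ∈ Subgroup.normalizer ((Side.A2.map φ : Subgroup G) : Set G), g ∈ φ.range := hA ▸ hN
  have H := Co2Close.Hyp.of inj hC (fun _ h => Co2Close.conj_A2 h)
    (fun _ _ ha hb h => Co2Close.conj_of_tr ha hb h)
    fun _ _ ha hb h => Co2Close.fusion φ inj hN' ha hb h
  exact ⟨(MulEquiv.ofBijective φ ⟨inj, H.surjective⟩).symm⟩

end Cfsg.Agent.Co2Three.Close
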