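import Cfsg.Agent.Lib.Co2Three.Close.Checks

/-!
Elements of order three control the fusion: an element moving one of them inside the normaliser lies in it, so no
involution outside `A` commuting with such an element is conjugate into `A`.
-/

set_option autoImplicit false
set_option maxRecDepth 100000
set_option linter.style.haveILetI false
set_option linter.unusedSectionVars false

namespace Cfsg.Agent.Co2Three.Close

open Equiv Subgroup
open Cfsg.Agent.Co2Recog (Sp63 permW eW key sameK permW_append permW_mem card_Sp63 permW_eq_iff)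

theorem nodupB_spec : ∀ {l : List ℕ}, nodupB l = true → l.Nodup
  | [], _ => List.nodup_nil
  | a :: l, h => by
    rw [nodupB, Bool.and_eq_true, Bool.not_eq_true'] at h
    refine List.nodup_cons.2 ⟨fun ha => ?_, nodupB_spec h.2⟩
    rw [List.any_eq_true.2 ⟨a, ha, Nat.beq_refl a⟩] at h
    exact absurd h.1 (by simp)

/-- A Sylow subgroup for the prime three of the symplectic group. -/
def R0 : Subgroup (Perm (Fin 63)) := Subgroup.closure {p | ∃ g ∈ sylThree, permW g = p}

theorem threeL_step {g w : List ℕ} (hg : g ∈ sylThree) (hw : w ∈ threeL) :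
    ∃ v ∈ threeL, permW v = permW g * permW w := by
  have h := three_closed
  simp only [List.all_eq_true, List.any_eq_true, List.mem_map] at h
  obtain ⟨_, ⟨v, hv, rfl⟩, e⟩ := h g hg w hw
  exact ⟨v, hv, by rw [← permW_append]; exact (permW_eq_iff.2 (Nat.eq_of_beq_eq_true e)).symm⟩

theorem nil_mem_threeL : ([] : List ℕ) ∈ threeL := by
  unfold threeL
  suffices ∀ (gs : List (List ℕ)) (L : List (List ℕ)), ([] : List ℕ) ∈ L →
      ([] : List ℕ) ∈ gs.foldl (fun L g => L ++ (L.map (fun w => g ++ w) ++ L.map (fun w => g ++ (g ++ w)))) L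
    from this _ _ List.mem_cons_self
  intro gs
  induction gs with
  | nil => exact fun L h => h
  | cons g gs ih => exact fun L h => ih _ (List.mem_append_left _ h)

theorem sylThree_cube {g : List ℕ} (hg : g ∈ sylThree) : permW g ^ 3 = 1 :=
  (ord3_spec (List.all_eq_true.1 three_card.2.2.1 g hg)).1

theorem mem_R0 {p : Perm (Fin 63)} (h : p ∈ R0) : ∃ w ∈ threeL, permW w = p := by
  refine Subgroup.closure_induction_left ⟨[], nil_mem_threeL, rfl⟩ ?_ ?_ h
  · rintro _ ⟨g, hg, rfl⟩ q _ ⟨w, hw, rfl⟩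
    exact threeL_step hg hw
  · rintro _ ⟨g, hg, rfl⟩ q _ ⟨w, hw, rfl⟩
    obtain ⟨v, hv, e⟩ := threeL_step hg hw
    obtain ⟨u, hu, e'⟩ := threeL_step hg hv
    refine ⟨u, hu, ?_⟩
    rw [e', e, ← mul_assoc, inv_eq_of_mul_eq_one_right (a := permW g) (b := permW g * permW g)
      (by rw [← sylThree_cube hg, pow_succ', pow_two])]

theorem threeL_mem_R0 {w : List ℕ} (hw : w ∈ threeL) : permW w ∈ R0 := by
  revert w
  unfold threeL
  suffices ∀ (gs : List (List ℕ)) (L : List (List ℕ)), (∀ g ∈ gs, g ∈ sylThree) → (∀ w ∈ L, permW w ∈ R0) →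
      ∀ w ∈ gs.foldl (fun L g => L ++ (L.map (fun w => g ++ w) ++ L.map (fun w => g ++ (g ++ w)))) L, permW w ∈ R0
    from fun {w} => this _ _ (fun _ h => h) (fun w hw => by rw [List.mem_singleton.1 hw]; exact R0.one_mem) w
  intro gs
  induction gs with
  | nil => exact fun L _ h => h
  | cons g gs ih =>
    intro L hg h
    have hgR : permW g ∈ R0 := Subgroup.subset_closure ⟨g, hg g List.mem_cons_self, rfl⟩
    refine ih _ (fun a ha => hg a (List.mem_cons_of_mem _ ha)) fun w hw => ?_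
    simp only [List.mem_append, List.mem_map] at hw
    rcases hw with hw | ⟨v, hv, rfl⟩ | ⟨v, hv, rfl⟩
    · exact h w hw
    · rw [permW_append]; exact mul_mem hgR (h v hv)
    · rw [permW_append, permW_append]; exact mul_mem hgR (mul_mem hgR (h v hv))

theorem card_R0 : Nat.card R0 = 81 := by
  classical
  have hn : (threeL.map permW).Nodup := by
    have hk := nodupB_spec three_card.2.1
    refine List.Nodup.map_on (fun u hu v hv h => ?_) (List.Nodup.of_map _ hk)
    exact List.inj_on_of_nodup_map hk hu hv (permW_eq_iff.1 h)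
  have e : ∀ p, p ∈ R0 ↔ p ∈ (threeL.map permW).toFinset := fun p => by
    rw [List.mem_toFinset, List.mem_map]
    exact ⟨mem_R0, fun ⟨w, hw, h⟩ => h ▸ threeL_mem_R0 hw⟩
  rw [Nat.card_congr (Equiv.subtypeEquivRight e), Nat.card_eq_finsetCard, List.toFinset_card_of_nodup hn,
    List.length_map, Nat.eq_of_beq_eq_true three_card.1]

theorem R0_le : R0 ≤ Sp63 := (Subgroup.closure_le _).2 fun _ ⟨g, _, e⟩ => e ▸ permW_mem g

/-- The centre of the Sylow subgroup has at most three elements. -/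
theorem card_centre_R0 {Z : Subgroup (Perm (Fin 63))} (hZ : Z ≤ R0) (hc : ∀ z ∈ Z, ∀ r ∈ R0, r * z = z * r) :
    Nat.card Z ≤ 3 := by
  classical
  set L := threeL.filter fun w => sylThree.all fun g => comW g w with hL
  have hm : ∀ z : ↥Z, (z : Perm (Fin 63)) ∈ (L.map permW).toFinset := fun z => by
    obtain ⟨w, hw, e⟩ := mem_R0 (hZ z.2)
    refine List.mem_toFinset.2 (List.mem_map.2 ⟨w, List.mem_filter.2 ⟨hw, List.all_eq_true.2 fun g hg => ?_⟩, e⟩)
    have h := hc z z.2 (permW g) (Subgroup.subset_closure ⟨g, hg, rfl⟩)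
    rw [← e, ← permW_append, ← permW_append] at h
    exact Co2Recog.Two.sameK_iff.2 h
  refine le_trans (Nat.card_le_card_of_injective (fun z => (⟨_, hm z⟩ : ↥(L.map permW).toFinset))
    fun x y e => Subtype.ext (congrArg (fun q : ↥(L.map permW).toFinset => (q : Perm (Fin 63))) e)) ?_
  rw [Nat.card_eq_finsetCard]
  refine (List.toFinset_card_le _).trans ?_
  rw [List.length_map]
  exact Nat.le_of_ble_eq_true three_card.2.2.2

variable {H : Type*} [Group H] [Finite H] {A M : Subgroup H} (S : Spin A M)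
include S

theorem Spin.card_A : Nat.card A = 256 := by
  have e : ↥A ≃ Fin 256 :=
    { toFun := fun a => ⟨S.c a, S.c_lt a a.2⟩
      invFun := fun v => ⟨S.el v, S.el_mem v⟩
      left_inv := fun a => Subtype.ext (S.el_c a.2)
      right_inv := fun v => Fin.ext (S.c_el v.2) }
  rw [Nat.card_congr e, Nat.card_eq_fintype_card, Fintype.card_fin]

theorem Spin.card_M : Nat.card M = 256 * 1451520 := by
  have hk : S.π.ker = A.subgroupOf M := by
    ext x
    rw [MonoidHom.mem_ker, S.ker, mem_subgroupOf]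
  rw [← S.π.ker.card_mul_index, Subgroup.index_ker, S.range, card_Sp63, hk,
    Nat.card_congr (Subgroup.subgroupOfEquivOfLe S.le).toEquiv, S.card_A]

/-- A 3-subgroup meeting the normaliser non-trivially lies in it. -/
theorem Spin.three_le {R : Subgroup H} (hR : IsPGroup 3 ↥R) {y : H} (hyR : y ∈ R) (hy : y ∈ M)
    (hy3 : orderOf y = 3) : R ≤ M := by
  haveI : Fact (Nat.Prime 3) := ⟨Nat.prime_three⟩
  haveI : Nontrivial ↥R := ⟨⟨⟨y, hyR⟩, 1, fun e => by
    rw [show y = 1 from congrArg Subtype.val e, orderOf_one] at hy3; omega⟩⟩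
  haveI := hR.center_nontrivial
  obtain ⟨z, hz⟩ := exists_prime_orderOf_dvd_card' (G := ↥(Subgroup.center ↥R)) 3
    ((hR.to_subgroup _).card_eq_or_dvd.resolve_left (Finite.one_lt_card (α := ↥(Subgroup.center ↥R))).ne')
  set z' : H := ((z : ↥R) : H) with hz'
  have hzc : ∀ r ∈ R, r * z' = z' * r := fun r hr =>
    congrArg Subtype.val (Subgroup.mem_center_iff.1 z.2 ⟨r, hr⟩)
  have hz3 : orderOf z' = 3 := by rw [hz', Subgroup.orderOf_coe, Subgroup.orderOf_coe, hz]
  have hzM : z' ∈ M := S.three y hy hy3 z' (by rw [← hzc y hyR, mul_inv_cancel_right]; exact mem_zpowers y)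
  exact fun r hr => S.three z' hzM hz3 r (by rw [hzc r hr, mul_inv_cancel_right]; exact mem_zpowers z')

/-- **An element moving one element of order three inside the normaliser lies in it.** -/
theorem Spin.mem_of_fus {y h : H} (hy : y ∈ M) (hy3 : orderOf y = 3) (hyh : h * y * h⁻¹ ∈ M) : h ∈ M := by
  haveI : Fact (Nat.Prime 3) := ⟨Nat.prime_three⟩
  have hP : IsPGroup 3 ↥(zpowers y) := IsPGroup.of_card (n := 1) (by rw [Nat.card_zpowers, hy3, pow_one])
  obtain ⟨R, hR⟩ := hP.exists_le_sylow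
  have hyR : y ∈ (R : Subgroup H) := hR (mem_zpowers y)
  have hRM : (R : Subgroup H) ≤ M := S.three_le R.2 hyR hy hy3
  set R' := (R : Subgroup H).map (MulAut.conj h).toMonoidHom with hR'
  have hR'M : R' ≤ M := S.three_le (R.2.map _) ⟨y, hyR, rfl⟩ hyh
    ((orderOf_injective (MulAut.conj h).toMonoidHom (MulAut.conj h).injective y).trans hy3)
  have hR'S : ∀ g : H, g ∈ R' ↔ h⁻¹ * g * h ∈ (R : Subgroup H) := fun g => by
    rw [hR', Subgroup.mem_map]
    exact ⟨fun ⟨r, hr, e⟩ => by rw [← e]; simpa [mul_assoc] using hr, fun hg => ⟨_, hg, by simp [mul_assoc]⟩⟩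
  -- the two are conjugate in `M`
  obtain ⟨m, hm⟩ := MulAction.exists_smul_eq ↥M ((h • R).subtype (show ((h • R : Sylow 3 H) : Subgroup H) ≤ M by
    rw [Sylow.coe_subgroup_smul]; exact hR'M)) (R.subtype hRM)
  set n := (m : H) * h with hn
  have hnR : ∀ r ∈ (R : Subgroup H), n * r * n⁻¹ ∈ (R : Subgroup H) := fun r hr => by
    have h1 : (⟨h * r * h⁻¹, hR'M ((hR'S _).2 (by simpa [mul_assoc] using hr))⟩ : ↥M) ∈
        ((h • R : Sylow 3 H) : Subgroup H).subgroupOf M := by
      rw [mem_subgroupOf, Sylow.coe_subgroup_smul]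
      exact ⟨r, hr, rfl⟩
    have h2 := Subgroup.smul_mem_pointwise_smul _ (MulAut.conj m) _ h1
    have h3 := congrArg (fun T : Sylow 3 ↥M => (T : Subgroup ↥M)) hm
    rw [Sylow.coe_subgroup_smul, Sylow.coe_subtype, Sylow.coe_subtype] at h3
    rw [h3, mem_subgroupOf] at h2
    rw [hn]
    simpa [mul_assoc] using h2
  suffices n ∈ M by
    rw [hn] at this
    have := mul_mem (inv_mem m.2) this
    rwa [inv_mul_cancel_left] at this
  -- a central element of order three spans the centre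
  have hcard : Nat.card (R : Subgroup H) = 81 := by
    have h1 := (R.subtype hRM).card_eq_multiplicity
    rw [S.card_M, Sylow.coe_subtype, Nat.card_congr (Subgroup.subgroupOfEquivOfLe hRM).toEquiv] at h1
    rw [h1, show Nat.factorization (256 * 1451520) 3 = 4 by
      rw [← Nat.multiplicity_eq_factorization Nat.prime_three (by norm_num)]
      exact multiplicity_eq_of_dvd_of_not_dvd (by norm_num) (by norm_num)]
    norm_num
  let ψ : ↥(R : Subgroup H) →* Perm (Fin 63) := S.π.comp (Subgroup.inclusion hRM)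
  have hψ : Function.Injective ψ := (injective_iff_map_eq_one ψ).2 fun r hr => by
    have hA := (S.ker _).1 hr
    have h2 : r ^ 2 = 1 := Subtype.ext (by rw [SubmonoidClass.coe_pow, pow_two]; exact S.sq hA)
    obtain ⟨k, hk⟩ := R.2 r
    have hd := Nat.dvd_gcd (orderOf_dvd_of_pow_eq_one h2) (orderOf_dvd_of_pow_eq_one hk)
    rw [show Nat.gcd 2 (3 ^ k) = 1 from Nat.Coprime.pow_right k (by norm_num)] at hd
    exact orderOf_eq_one_iff.1 (Nat.eq_one_of_dvd_one hd)
  have hψcard : Nat.card ψ.range = 81 := by rw [← Nat.card_congr (MonoidHom.ofInjective hψ).toEquiv, hcard]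
  have hψle : ψ.range ≤ Sp63 := by
    rintro _ ⟨r, rfl⟩
    exact S.range ▸ ⟨_, rfl⟩
  have hfac : Nat.factorization (Nat.card Sp63) 3 = 4 := by
    rw [card_Sp63, ← Nat.multiplicity_eq_factorization Nat.prime_three (by norm_num)]
    exact multiplicity_eq_of_dvd_of_not_dvd (by norm_num) (by norm_num)
  obtain ⟨s, hs⟩ := MulAction.exists_smul_eq ↥Sp63
    (Sylow.ofCard (ψ.range.subgroupOf Sp63) (by
      rw [Nat.card_congr (Subgroup.subgroupOfEquivOfLe hψle).toEquiv, hψcard, hfac]; norm_num) : Sylow 3 ↥Sp63)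
    (Sylow.ofCard (R0.subgroupOf Sp63) (by
      rw [Nat.card_congr (Subgroup.subgroupOfEquivOfLe R0_le).toEquiv, card_R0, hfac]; norm_num))
  have hsR : ∀ p : Perm (Fin 63), p ∈ ψ.range ↔ (s : Perm (Fin 63)) * p * (s : Perm (Fin 63))⁻¹ ∈ R0 := fun p => by
    have h3 := congrArg (fun T : Sylow 3 ↥Sp63 => (T : Subgroup ↥Sp63)) hs
    simp only [Sylow.coe_subgroup_smul, Sylow.coe_ofCard] at h3
    constructor
    · intro hp
      have := Subgroup.smul_mem_pointwise_smul (⟨p, hψle hp⟩ : ↥Sp63) (MulAut.conj s) _ (mem_subgroupOf.2 hp)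
      rw [h3, mem_subgroupOf] at this
      exact this
    · intro hp
      have hp' : (s : Perm (Fin 63)) * p * (s : Perm (Fin 63))⁻¹ ∈ Sp63 := R0_le hp
      have hpS : p ∈ Sp63 := by
        have := mul_mem (mul_mem (inv_mem s.2) hp') s.2
        simpa [mul_assoc] using this
      have : s * (⟨p, hpS⟩ : ↥Sp63) * s⁻¹ ∈ R0.subgroupOf Sp63 := mem_subgroupOf.2 hp
      rw [← h3] at this
      have := (Subgroup.smul_mem_pointwise_smul_iff (a := MulAut.conj s)).1 this
      exact mem_subgroupOf.1 this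
  haveI : Nontrivial ↥(R : Subgroup H) := ⟨⟨⟨y, hyR⟩, 1, fun e => by
    rw [show y = 1 from congrArg Subtype.val e, orderOf_one] at hy3; omega⟩⟩
  set C := Subgroup.center ↥(R : Subgroup H) with hC
  set f : ↥(R : Subgroup H) →* Perm (Fin 63) := (MulAut.conj (s : Perm (Fin 63))).toMonoidHom.comp ψ with hf
  have hfinj : Function.Injective f := (MulAut.conj (s : Perm (Fin 63))).injective.comp hψ
  have hCle : Nat.card C ≤ 3 := by
    rw [Nat.card_congr (C.equivMapOfInjective f hfinj).toEquiv]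
    refine card_centre_R0 ?_ ?_
    · rintro _ ⟨r, -, rfl⟩
      exact (hsR _).1 ⟨r, rfl⟩
    · rintro _ ⟨r, hr, rfl⟩ q hq
      obtain ⟨r', hr'⟩ : (s : Perm (Fin 63))⁻¹ * q * s ∈ ψ.range := (hsR _).2 (by simpa [mul_assoc] using hq)
      have e : q = f r' := by simp [hf, hr', mul_assoc]
      rw [e, ← map_mul, ← map_mul, Subgroup.mem_center_iff.1 hr r']
  haveI : Nontrivial ↥C := R.2.center_nontrivial
  have hC3 : Nat.card C = 3 := by
    have h1 := (R.2.to_subgroup C).card_eq_or_dvd.resolve_left (Finite.one_lt_card (α := ↥C)).ne'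
    exact le_antisymm hCle (Nat.le_of_dvd Nat.card_pos h1)
  obtain ⟨z, hz⟩ := exists_prime_orderOf_dvd_card' (G := ↥C) 3 (by rw [hC3])
  have htop : zpowers z = ⊤ := Subgroup.eq_top_of_card_eq _ (by rw [Nat.card_zpowers, hz, hC3])
  refine S.three ((z : ↥(R : Subgroup H)) : H) (hRM (z : ↥(R : Subgroup H)).2)
    (by rw [Subgroup.orderOf_coe, Subgroup.orderOf_coe, hz]) n ?_
  have hz2 : (⟨_, hnR _ (z : ↥(R : Subgroup H)).2⟩ : ↥(R : Subgroup H)) ∈ C := by
    refine Subgroup.mem_center_iff.2 fun r => Subtype.ext ?_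
    have hsurj : ∃ r' ∈ (R : Subgroup H), n * r' * n⁻¹ = r := by
      have hbij : Function.Bijective
          fun a : ↥(R : Subgroup H) => (⟨n * a.1 * n⁻¹, hnR _ a.2⟩ : ↥(R : Subgroup H)) :=
        Finite.injective_iff_bijective.1 fun a b e => Subtype.ext (by simpa using congrArg Subtype.val e)
      obtain ⟨a, ha⟩ := hbij.2 r
      exact ⟨a, a.2, congrArg Subtype.val ha⟩
    obtain ⟨r', hr', e⟩ := hsurj
    have hcm := congrArg Subtype.val (Subgroup.mem_center_iff.1 z.2 ⟨r', hr'⟩)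
    rw [Subgroup.coe_mul, Subgroup.coe_mul] at hcm
    rw [Subgroup.coe_mul, Subgroup.coe_mul, ← e, conj_mul, conj_mul, hcm]
  obtain ⟨k, hk⟩ : (⟨_, hz2⟩ : ↥C) ∈ zpowers z := htop ▸ mem_top _
  exact ⟨k, by simpa using congrArg (fun c : ↥C => ((c : ↥(R : Subgroup H)) : H)) hk⟩

/-- Every non-trivial element of `A` commutes with an element of order three of the normaliser. -/
theorem Spin.exists_three_comm {a : H} (ha : a ∈ A) (h1 : a ≠ 1) :
    ∃ y ∈ M, orderOf y = 3 ∧ y * a = a * y := by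
  have hv := S.c_lt a ha
  have h := List.all_eq_true.1 orb_ok.1 _ (List.mem_range.2 hv)
  have h0 : Nat.beq (S.c a) 0 = false := Bool.eq_false_iff.2 fun e => h1 (S.c_inj a ha (Nat.eq_of_beq_eq_true e))
  simp only [h0, Bool.false_or, Bool.and_eq_true, List.any_eq_true] at h
  obtain ⟨⟨⟨d, q⟩, hp, hd⟩, hw⟩ := h
  have hq := List.all_eq_true.1 orb_ok.2 _ hp
  rw [Bool.and_eq_true] at hq
  have hd' := Nat.eq_of_beq_eq_true hd
  set g := (orbVec.getD (S.c a) (0, [])).2
  have hw' := Nat.eq_of_beq_eq_true hw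
  rw [← hd'] at hw'
  obtain ⟨y, hy, ey, o⟩ := S.exists_three hq.1
  obtain ⟨m, hm, em⟩ := S.exists_lift g
  have hd256 : d < 256 := (Nat.eq_of_beq_eq_true hq.2 : av q d = d) ▸ av_lt q d
  have e : m * S.el d * m⁻¹ = a := by rw [S.conj_el hm em.symm hd256, hw', S.el_c ha]
  refine ⟨m * y * m⁻¹, mul_mem (mul_mem hm hy) (inv_mem hm),
    (orderOf_injective (MulAut.conj m).toMonoidHom (MulAut.conj m).injective y).trans o, ?_⟩
  rw [← e, conj_mul, conj_mul, (S.comm_el_iff hy ey.symm hd256).2 (Nat.eq_of_beq_eq_true hq.2)]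

/-- **An involution outside `A` commuting with an element of order three is not conjugate into `A`.** -/
theorem Spin.not_fused {r y a g : H} (hrA : r ∉ A) (hy : y ∈ M) (hy3 : orderOf y = 3)
    (hyr : y * r = r * y) (ha : a ∈ A) (hg : g * a * g⁻¹ = r) : False := by
  haveI : Fact (Nat.Prime 3) := ⟨Nat.prime_three⟩
  have ha1 : a ≠ 1 := fun e => hrA (by rw [← hg, e, mul_one, mul_inv_cancel]; exact A.one_mem)
  obtain ⟨q, hq, hq3, hqa⟩ := S.exists_three_comm ha ha1
  set X := centralizer ({a} : Set H) with hX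
  have hqX : q ∈ X := Subgroup.mem_centralizer_singleton_iff.2 hqa
  have hy'X : g⁻¹ * y * g ∈ X := by
    refine Subgroup.mem_centralizer_singleton_iff.2 ?_
    rw [show a = g⁻¹ * r * g by rw [← hg]; group]
    calc g⁻¹ * y * g * (g⁻¹ * r * g) = g⁻¹ * (y * r) * g := by group
      _ = g⁻¹ * (r * y) * g := by rw [hyr]
      _ = g⁻¹ * r * g * (g⁻¹ * y * g) := by group
  have ho : orderOf (⟨g⁻¹ * y * g, hy'X⟩ : ↥X) = 3 := by
    have := orderOf_injective (MulAut.conj g⁻¹).toMonoidHom (MulAut.conj g⁻¹).injective y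
    simp only [MulEquiv.coe_toMonoidHom, MulAut.conj_apply, inv_inv] at this
    rw [← orderOf_injective X.subtype X.subtype_injective, Subgroup.coe_subtype, this, hy3]
  have hoq : orderOf (⟨q, hqX⟩ : ↥X) = 3 := by
    rw [← orderOf_injective X.subtype X.subtype_injective, Subgroup.coe_subtype, hq3]
  obtain ⟨P, hP⟩ := (IsPGroup.of_card (G := ↥(zpowers (⟨_, hy'X⟩ : ↥X))) (p := 3) (n := 1)
    (by rw [Nat.card_zpowers, ho, pow_one])).exists_le_sylow
  obtain ⟨Q, hQ⟩ := (IsPGroup.of_card (G := ↥(zpowers (⟨q, hqX⟩ : ↥X))) (p := 3) (n := 1)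
    (by rw [Nat.card_zpowers, hoq, pow_one])).exists_le_sylow
  obtain ⟨c, hc⟩ := MulAction.exists_smul_eq ↥X P Q
  have hQM : (Q : Subgroup ↥X).map X.subtype ≤ M :=
    S.three_le (Q.2.map _) ⟨_, hQ (mem_zpowers _), rfl⟩ hq hq3
  have hin : (c : H) * (g⁻¹ * y * g) * (c : H)⁻¹ ∈ M := by
    refine hQM ⟨c * ⟨_, hy'X⟩ * c⁻¹, ?_, rfl⟩
    rw [← hc]
    exact ⟨⟨_, hy'X⟩, hP (mem_zpowers _), rfl⟩
  have hh : (c : H) * g⁻¹ ∈ M := S.mem_of_fus hy hy3 (by simpa [mul_assoc] using hin)
  refine hrA ?_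
  have := S.conj_mem (inv_mem hh) ha
  rw [mul_inv_rev, inv_inv] at this
  rw [← hg]
  have hca : (c : H)⁻¹ * a * (c : H) = a := by
    have := Subgroup.mem_centralizer_singleton_iff.1 c.2
    rw [mul_assoc, ← this, inv_mul_cancel_left]
  convert this using 1
  calc g * a * g⁻¹ = g * ((c : H)⁻¹ * a * c) * g⁻¹ := by rw [hca]
    _ = _ := by group

end Cfsg.Agent.Co2Three.Close
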