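import Cfsg.Agent.Lib.Co2Three.Close.Tree
import Mathlib.GroupTheory.Transfer

/-!
The two hyperplanes: the centraliser has a normal abelian 2-complement inverted by the elements outside, on which the
elements of order three of the stabiliser act without fixed points, and a four group forces it to be trivial.
-/

set_option autoImplicit false
set_option maxRecDepth 100000
set_option maxHeartbeats 1000000
set_option linter.style.haveILetI false
set_option linter.unusedSectionVars false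

namespace Cfsg.Agent.Co2Three.Close

open Equiv Subgroup
open Cfsg.Agent.Co2Recog (Sp63 permW permW_append permW_reverse eW eId fixV qv Bv sameK memN)
open Cfsg.Agent.Co2Recog.Two (sameK_iff sameK_id Bv_act Bv_comm act_rev act_inj)
open Cfsg.Agent.ThRec.Eight (ap ap_xor xor_lt)

/-- An involution permuted with two others by a fixed-point-free automorphism of order three acts trivially on an
abelian group of odd order. -/
theorem four_trivial {V : Type*} [CommGroup V] (hodd : ∀ v : V, v * v = 1 → v = 1) (y f g h : V → V)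
    (hy : ∀ u v, y (u * v) = y u * y v) (hf : ∀ u v, f (u * v) = f u * f v)
    (hg : ∀ u v, g (u * v) = g u * g v) (hh : ∀ u v, h (u * v) = h u * h v)
    (hfp : ∀ v, v * (y v * y (y v)) = 1)
    (f2 : ∀ v, f (f v) = v) (g2 : ∀ v, g (g v) = v) (h2 : ∀ v, h (h v) = v)
    (yf : ∀ v, y (f v) = g (y v)) (yg : ∀ v, y (g v) = h (y v)) (yh : ∀ v, y (h v) = f (y v))
    (fg : ∀ v, f (g v) = h v) (gf : ∀ v, g (f v) = h v) (v : V) : f v = v := by
  have fh : ∀ u, f (h u) = g u := fun u => by rw [← fg u, f2]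
  have gh : ∀ u, g (h u) = f u := fun u => by rw [← gf u, g2]
  have hf' : ∀ u, h (f u) = g u := fun u => by rw [← gf (f u), f2]
  have hg' : ∀ u, h (g u) = f u := fun u => by rw [← fg (g u), g2]
  have one_of : ∀ k : V → V, (∀ a b, k (a * b) = k a * k b) → k 1 = 1 := fun k hk =>
    mul_left_cancel (a := k 1) (by rw [← hk, one_mul, mul_one])
  -- the four rotations
  have i0 := hfp v
  have i1 : v * (h (y v) * g (y (y v))) = 1 := by
    have e := congrArg f (hfp (f v))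
    rwa [one_of f hf, hf, hf, f2, yf, fg, yg, fh] at e
  have i2 : v * (f (y v) * h (y (y v))) = 1 := by
    have e := congrArg g (hfp (g v))
    rwa [one_of g hg, hg, hg, g2, yg, gh, yh, gf] at e
  have i3 : v * (g (y v) * f (y (y v))) = 1 := by
    have e := congrArg h (hfp (h v))
    rwa [one_of h hh, hh, hh, h2, yh, hf', yf, hg'] at e
  set N : V → V := fun u => u * f u * g u * h u with hN
  have hsum : v * v * (v * v) * (N (y v) * N (y (y v))) = 1 := by
    calc v * v * (v * v) * (N (y v) * N (y (y v)))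
        = (v * (y v * y (y v))) * (v * (h (y v) * g (y (y v)))) * (v * (f (y v) * h (y (y v)))) *
          (v * (g (y v) * f (y (y v)))) := by simp only [hN]; ac_rfl
      _ = 1 := by rw [i0, i1, i2, i3, one_mul, one_mul, one_mul]
  have hfN : ∀ u, f (N u) = N u := fun u => by
    simp only [hN, hf, f2, fg, fh]
    ac_rfl
  have e := congrArg f hsum
  rw [one_of f hf, hf, hf, hf, hf, hfN, hfN] at e
  have h4 : f v * f v * (f v * f v) = v * v * (v * v) := mul_right_cancel (e.trans hsum.symm)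
  have hd : ∀ a b : V, a * a = b * b → a = b := fun a b hab =>
    div_eq_one.1 (hodd _ (by rw [← mul_div_mul_comm, hab, div_self']))
  exact hd _ _ (hd _ _ h4)

/-- An odd order element squaring to the unit is trivial. -/
theorem eq_one_of_odd {H : Type*} [Group H] {x : H} (h : Odd (orderOf x)) (h2 : x * x = 1) : x = 1 := by
  have hd : orderOf x ∣ 2 := orderOf_dvd_of_pow_eq_one (by rw [pow_two]; exact h2)
  rcases (Nat.dvd_prime Nat.prime_two).1 hd with e | e
  · exact orderOf_eq_one_iff.1 e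
  · rw [e] at h; exact absurd h (by decide)

variable {H : Type*} [Group H] [Finite H] {A M : Subgroup H} (S : Spin A M)
include S

/-- An element commuting with a hyperplane and lying in the normaliser lies in `A`. -/
theorem Spin.hyper_cent {E : List ℕ} (hE : ∀ v ∈ E, v < 256) (hx : ∀ u v, u < 256 → v < 256 → u ∉ E → v ∉ E →
    u ^^^ v ∈ E) (hbig : 128 ≤ E.toFinset.card) {n : H} (hn : n ∈ M) (hc : ∀ v ∈ E, n * S.el v = S.el v * n) :
    n ∈ A := by
  classical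
  obtain ⟨w, hw⟩ := S.exists_word hn
  have hfix : ∀ v ∈ E, av w v = v := fun v hv => (S.comm_el_iff hn hw (hE v hv)).1 (hc v hv)
  have htwo : ∀ v < 256, av w (av w v) = v := by
    intro v hv
    by_cases hvE : v ∈ E
    · rw [hfix v hvE, hfix v hvE]
    have hwv : av w v ∉ E := fun h => hvE (by
      have := act_inj w hv (hE _ h) (hfix _ h).symm
      rw [this]; exact h)
    have ha : v ^^^ av w v ∈ E := hx _ _ hv (av_lt w v) hvE hwv
    have e := hfix _ ha
    rw [show av w (v ^^^ av w v) = av w v ^^^ av w (av w v) from ap_xor _ _ _, Nat.xor_comm v] at e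
    exact Nat.xor_right_inj.1 e
  have hn2 : n * n ∈ A := S.self _ fun a ha => by
    obtain ⟨v, hv, rfl⟩ : ∃ v < 256, S.el v = a := ⟨_, S.c_lt a ha, S.el_c ha⟩
    refine mul_inv_eq_iff_eq_mul.1 ?_
    rw [show n * n * S.el v * (n * n)⁻¹ = n * (n * S.el v * n⁻¹) * n⁻¹ by group, S.conj_el hn hw hv,
      S.conj_el hn hw (av_lt w v), htwo v hv]
  by_contra hnA
  obtain ⟨k, hk, g, e⟩ := exists_class (show S.im hn ∈ Sp63 from S.range ▸ ⟨_, rfl⟩)
    (by rw [← S.im_mul hn hn]; exact (S.mem_A_iff _).1 hn2) fun h => hnA ((S.mem_A_iff hn).2 h)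
  have hpw : permW (rep k ++ g.reverse) = permW (g.reverse ++ w) := by
    rw [permW_append, permW_append, permW_reverse, hw, e]
    group
  set F := (List.range 256).filter (fixV (eW (rep k))) with hF
  have hmap : ∀ v ∈ E, av g.reverse v ∈ F := by
    intro v hv
    refine List.mem_filter.2 ⟨List.mem_range.2 (av_lt _ _), fixv_iff.2 ?_⟩
    have := S.act_eq hpw (hE v hv)
    simp only [av, Co2Recog.eW_append] at this
    rw [show (Co2Recog.eMul (eW (rep k)) (eW g.reverse)).2 = ThRec.Eight.mulM (eW (rep k)).2 (eW g.reverse).2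
      from rfl, show (Co2Recog.eMul (eW g.reverse) (eW w)).2 = ThRec.Eight.mulM (eW g.reverse).2 (eW w).2 from rfl,
      ThRec.Eight.ap_mulM, ThRec.Eight.ap_mulM, show ap (eW w).2 v = v from hfix v hv] at this
    exact this
  have h64 := Nat.le_of_ble_eq_true (List.all_eq_true.1 fix_small k (List.mem_range.2 (by omega)))
  have := Finset.card_le_card_of_injOn (s := E.toFinset) (t := F.toFinset) (fun v => av g.reverse v)
    (fun v hv => List.mem_toFinset.2 (hmap v (List.mem_toFinset.1 hv)))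
    (fun a ha b hb h => act_inj g.reverse (hE a (List.mem_toFinset.1 ha)) (hE b (List.mem_toFinset.1 hb)) h)
  have := List.toFinset_card_le F
  rw [← hF] at h64
  omega

/-- **A hyperplane.** -/
theorem Spin.good_hyp {p : ℕ × ℕ × List ℕ × List ℕ × List ℕ × List ℕ × List ℕ} (h : hypOK p = true) :
    Good S (nBase p.1) := by
  classical
  haveI : Fact (Nat.Prime 2) := ⟨Nat.prime_two⟩
  haveI : Fact (Nat.Prime 3) := ⟨Nat.prime_three⟩
  obtain ⟨i, d, xw, yw, y0w, ga, gb⟩ := p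
  simp only [hypOK, Bool.and_eq_true, List.all_eq_true, List.mem_range, beq_iff_eq] at h
  obtain ⟨⟨⟨⟨⟨⟨⟨⟨hd, hfixd⟩, hperp⟩, hfx⟩, ⟨⟨⟨⟨hy3, hy03⟩, hy0x⟩, hx2⟩, hx1⟩⟩, hV⟩, hord⟩, hbig⟩, hB⟩ := h
  have hd' : d < 256 := Nat.le_of_ble_eq_true hd
  have hB' : ∀ b ∈ nBase i, b < 256 := fun b hb => Nat.le_of_ble_eq_true (hB b hb)
  set E := spanL (nBase i) with hE
  have hEl : ∀ v ∈ E, v < 256 := spanL_lt hB'
  have hEd : ∀ v < 256, (v ∈ E ↔ Bv d v = false) := fun v hv => by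
    rw [← maskL_testBit, hperp v hv]; simp
  have hfix : ∀ w ∈ [xw, yw, ga, gb], av w d = d := fun w hw => Nat.eq_of_beq_eq_true (hfixd w hw)
  have hkeep : ∀ w, av w d = d → ∀ v < 256, (av w v ∈ E ↔ v ∈ E) := fun w hw v hv => by
    rw [hEd _ (av_lt w v), hEd v hv]
    conv_lhs => rw [← hw]
    rw [show Bv (av w d) (av w v) = Bv d v from Bv_act w hd' hv]
  have hcard : E.toFinset.card = 128 := by
    rw [← Nat.eq_of_beq_eq_true hbig, ← List.toFinset_card_of_nodup (List.nodup_range.filter _)]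
    refine congrArg Finset.card (Finset.ext fun v => ?_)
    rw [List.mem_toFinset, List.mem_toFinset, List.mem_filter, List.mem_range, maskL_testBit]
    exact ⟨fun h => ⟨hEl v h, h⟩, fun h => h.2⟩
  have hxor : ∀ u v, u < 256 → v < 256 → u ∉ E → v ∉ E → u ^^^ v ∈ E := by
    intro u v hu hv hnu hnv
    set T := E.toFinset.image fun e => v ^^^ e with hT
    have hTc : T.card = 128 := by
      rw [hT, Finset.card_image_of_injective _ fun e e' h => Nat.xor_right_inj.1 h, hcard]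
    have hdis : Disjoint E.toFinset T := Finset.disjoint_left.2 fun x hx hxT => by
      obtain ⟨e, he, rfl⟩ := Finset.mem_image.1 hxT
      refine hnv ?_
      have := spanL_xor (List.mem_toFinset.1 hx) (List.mem_toFinset.1 he)
      rwa [Nat.xor_assoc, Nat.xor_self, Nat.xor_zero] at this
    have hall : E.toFinset ∪ T = Finset.range 256 := by
      refine Finset.eq_of_subset_of_card_le (fun x hx => Finset.mem_range.2 ?_) (by
        rw [Finset.card_union_of_disjoint hdis, hcard, hTc, Finset.card_range])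
      rcases Finset.mem_union.1 hx with hx | hx
      · exact hEl x (List.mem_toFinset.1 hx)
      · obtain ⟨e, he, rfl⟩ := Finset.mem_image.1 hx
        exact xor_lt hv (hEl e (List.mem_toFinset.1 he))
    rcases Finset.mem_union.1 (hall ▸ Finset.mem_range.2 hu) with h | h
    · exact absurd (List.mem_toFinset.1 h) hnu
    · obtain ⟨e, he, rfl⟩ := Finset.mem_image.1 h
      rw [Nat.xor_comm v e, Nat.xor_assoc, Nat.xor_self, Nat.xor_zero]
      exact List.mem_toFinset.1 he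
  obtain ⟨v0, hv0, hv0E⟩ : ∃ v0 < 256, v0 ∉ E := by
    by_contra hh
    push Not at hh
    have h256 : (Finset.range 256).card ≤ E.toFinset.card :=
      Finset.card_le_card fun v hv => List.mem_toFinset.2 (hh v (Finset.mem_range.1 hv))
    rw [Finset.card_range, hcard] at h256
    omega
  -- the centraliser
  set X := centralizer {x : H | ∃ v ∈ E, x = S.el v} with hX
  have hXmem : ∀ {n : H}, n ∈ X ↔ ∀ v ∈ E, n * S.el v = S.el v * n := fun {n} =>
    ⟨fun hn v hv => (mem_centralizer_iff.1 hn _ ⟨v, hv, rfl⟩).symm,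
      fun hn => mem_centralizer_iff.2 fun y ⟨v, hv, e⟩ => e ▸ (hn v hv).symm⟩
  have hAX : A ≤ X := fun a ha => hXmem.2 fun v _ => S.comm ha (S.el_mem v)
  have hMX : ∀ n ∈ M, n ∈ X → n ∈ A := fun n hn hnX =>
    S.hyper_cent hEl hxor hcard.ge hn (hXmem.1 hnX)
  -- a normal 2-complement
  obtain ⟨P, hP⟩ := ((IsPGroup.of_card (n := 8) (by rw [S.card_A]; norm_num) : IsPGroup 2 ↥A).comap_subtype
    (K := X)).exists_le_sylow
  have hPA : ∀ q ∈ (P : Subgroup ↥X), (q : H) ∈ A := fun q hq => hMX _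
    (S.two_le (P.2.map X.subtype) (fun a ha => ⟨⟨a, hAX ha⟩, hP ha, rfl⟩) ⟨q, hq, rfl⟩) q.2
  have hNP : normalizer ((P : Subgroup ↥X) : Set ↥X) ≤ centralizer ((P : Subgroup ↥X) : Set ↥X) := by
    intro q hq
    have hqM : (q : H) ∈ M := S.weak fun a ha => by
      have := (mem_normalizer_iff.1 hq (⟨a, hAX ha⟩ : ↥X)).1 (hP ha)
      exact S.le (hPA _ this)
    refine mem_centralizer_iff.2 fun r hr => Subtype.ext ?_
    exact (S.comm (hMX _ hqM q.2) (hPA r hr)).symm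
  set K := (MonoidHom.transferSylow P hNP).ker with hK
  have hKc : Subgroup.IsComplement' K (P : Subgroup ↥X) := MonoidHom.ker_transferSylow_isComplement' P hNP
  have hKodd : ∀ q : ↥X, q ∈ K ↔ Odd (orderOf q) := by
    intro q
    constructor
    · intro hq
      have hd : orderOf q ∣ (P : Subgroup ↥X).index := by
        rw [hKc.index_eq_card, show orderOf q = orderOf (⟨q, hq⟩ : ↥K) from Subgroup.orderOf_coe ⟨q, hq⟩]
        exact orderOf_dvd_natCard _
      exact Odd.of_dvd_nat (Nat.odd_iff.2 (Nat.two_dvd_ne_zero.1 P.not_dvd_index)) hd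
    · intro hq
      rw [hK, MonoidHom.mem_ker]
      set r := MonoidHom.transferSylow P hNP q with hr
      have h2 : r * r = 1 := Subtype.ext (Subtype.ext (S.sq (hPA _ r.2)))
      refine eq_one_of_odd (Odd.of_dvd_nat hq ?_) h2
      rw [hr]; exact orderOf_map_dvd _ q
  set O := K.map X.subtype with hOdef
  have hOmem : ∀ {o : H}, o ∈ O ↔ o ∈ X ∧ Odd (orderOf o) := fun {o} => by
    rw [hOdef, Subgroup.mem_map]
    constructor
    · rintro ⟨q, hq, rfl⟩
      exact ⟨q.2, by rw [Subgroup.coe_subtype, Subgroup.orderOf_coe]; exact (hKodd q).1 hq⟩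
    · rintro ⟨h1, h2⟩
      exact ⟨⟨o, h1⟩, (hKodd _).2 (by rw [← Subgroup.orderOf_coe]; exact h2), rfl⟩
  have hOA : ∀ o ∈ O, o ∈ A → o = 1 := fun o ho ha => eq_one_of_odd (hOmem.1 ho).2 (S.sq ha)
  have hnorm : ∀ n, ∀ hn : n ∈ M, (∃ w, permW w = S.im hn ∧ av w d = d) → ∀ o ∈ O, n * o * n⁻¹ ∈ O := by
    rintro n hn ⟨w, hw, hwd⟩ o ho
    obtain ⟨h1, h2⟩ := hOmem.1 ho
    refine hOmem.2 ⟨hXmem.2 fun v hv => ?_, by
      rw [show n * o * n⁻¹ = (MulAut.conj n).toMonoidHom o by simp,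
        orderOf_injective _ (MulAut.conj n).injective]; exact h2⟩
    have hu : av w.reverse v < 256 := av_lt _ _
    have hav : av w (av w.reverse v) = v := by
      have := act_rev w.reverse (hEl v hv); rwa [List.reverse_reverse] at this
    have huE : av w.reverse v ∈ E := (hkeep w hwd _ hu).1 (by rw [hav]; exact hv)
    rw [← hav, ← S.conj_el hn hw hu, conj_mul, conj_mul, hXmem.1 h1 _ huE]
  -- the involution outside the hyperplane inverts it
  set a := S.el v0 with ha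
  have haw : ∃ w, permW w = S.im (S.le (S.el_mem v0)) ∧ av w d = d := ⟨[], ((S.mem_A_iff _).1 (S.el_mem v0)).symm,
    Co2Recog.Two.ap_nil_word hd'⟩
  have hao : ∀ o ∈ O, a * o * a⁻¹ ∈ O := hnorm a (S.le (S.el_mem v0)) haw
  have hfixa : ∀ o ∈ O, a * o = o * a → o = 1 := by
    intro o ho hc
    refine hOA o ho (S.self o fun b hb => ?_)
    obtain ⟨v, hv, rfl⟩ : ∃ v < 256, S.el v = b := ⟨_, S.c_lt b hb, S.el_c hb⟩
    by_cases hvE : v ∈ E
    · exact hXmem.1 (hOmem.1 ho).1 v hvE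
    · have e : S.el v = a * S.el (v0 ^^^ v) := by
        rw [ha, ← S.el_xor hv0 (xor_lt hv0 hv), ← Nat.xor_assoc, Nat.xor_self, Nat.zero_xor]
      rw [e]
      exact Commute.mul_right hc.symm (hXmem.1 (hOmem.1 ho).1 _ (hxor _ _ hv0 hv hv0E hvE))
  have ha2 : a * a = 1 := S.sq (S.el_mem v0)
  have hinva : ∀ o ∈ O, a * o * a⁻¹ = o⁻¹ := by
    have hbij : Function.Bijective
        fun o : ↥O => (⟨o.1⁻¹ * (a * o.1 * a⁻¹), O.mul_mem (O.inv_mem o.2) (hao _ o.2)⟩ : ↥O) :=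
      Finite.injective_iff_bijective.1 fun p q e => by
        have e' : p.1⁻¹ * (a * p.1 * a⁻¹) = q.1⁻¹ * (a * q.1 * a⁻¹) := congrArg Subtype.val e
        refine Subtype.ext (mul_inv_eq_one.1 (hfixa _ (O.mul_mem p.2 (O.inv_mem q.2)) (mul_inv_eq_iff_eq_mul.1 ?_)))
        rw [show a * (p.1 * q.1⁻¹) * a⁻¹ = p.1 * (p.1⁻¹ * (a * p.1 * a⁻¹)) * (q.1⁻¹ * (a * q.1 * a⁻¹))⁻¹ * q.1⁻¹
          by group, e']
        group
    intro o ho
    obtain ⟨p, hp⟩ := hbij.2 ⟨o, ho⟩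
    have e : p.1⁻¹ * (a * p.1 * a⁻¹) = o := congrArg Subtype.val hp
    rw [← e]
    have h1 : a * (a * p.1 * a⁻¹) * a⁻¹ = p.1 := by
      calc a * (a * p.1 * a⁻¹) * a⁻¹ = (a * a) * p.1 * (a * a)⁻¹ := by group
        _ = p.1 := by rw [ha2]; group
    calc a * (p.1⁻¹ * (a * p.1 * a⁻¹)) * a⁻¹ = (a * p.1 * a⁻¹)⁻¹ * (a * (a * p.1 * a⁻¹) * a⁻¹) := by group
      _ = (a * p.1 * a⁻¹)⁻¹ * p.1 := by rw [h1]
      _ = _ := by group
  have hcomm : ∀ p ∈ O, ∀ q ∈ O, p * q = q * p := fun p hp q hq => by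
    have e : a * (p * q) * a⁻¹ = (p * q)⁻¹ := hinva _ (O.mul_mem hp hq)
    rw [show a * (p * q) * a⁻¹ = (a * p * a⁻¹) * (a * q * a⁻¹) by group, hinva p hp, hinva q hq, ← mul_inv_rev,
      inv_inj] at e
    exact e.symm
  suffices hO1 : O = ⊥ by
    intro n hn
    have hnX : n ∈ X := hXmem.2 (S.comm_span hB' hn)
    set f := MonoidHom.transferSylow P hNP
    have hk1 : ∀ q : ↥X, q ∈ K → q = 1 := fun q hq => by
      have : (q : H) ∈ O := ⟨q, hq, rfl⟩
      rw [hO1, mem_bot] at this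
      exact Subtype.ext this
    have htop : (P : Subgroup ↥X) = ⊤ := by
      refine eq_top_iff.2 fun q _ => ?_
      obtain ⟨⟨k, r⟩, e, -⟩ := hKc.existsUnique q
      rw [← e]
      show (k : ↥X) * (r : ↥X) ∈ (P : Subgroup ↥X)
      rw [hk1 k k.2, one_mul]; exact r.2
    exact S.le (hPA ⟨n, hnX⟩ (htop ▸ mem_top _))
  -- elements of order three fix nothing
  have hfpf : ∀ y ∈ M, orderOf y = 3 → ∀ o ∈ O, y * o = o * y → o = 1 := fun y hy o3 o ho hc => by
    refine hOA o ho (hMX o (S.three y hy o3 o ?_) (hOmem.1 ho).1)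
    rw [← hc, mul_inv_cancel_right]; exact mem_zpowers y
  obtain ⟨y, hy, ey, oy⟩ := S.exists_three hy3
  obtain ⟨y0, hy0, ey0, oy0⟩ := S.exists_three hy03
  -- the involution commuting with an element of order three
  obtain ⟨n0, hn0, en0⟩ := S.exists_lift xw
  obtain ⟨d0, hd0, hd0c⟩ := S.exists_cent_over (r := n0) (L := List.range 256) List.nodup_range
    (by rw [List.length_range]; decide) (fun u hu => List.mem_range.1 hu)
    (fun u hu v hv => List.mem_range.2 (xor_lt (List.mem_range.1 hu) (List.mem_range.1 hv)))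
    (IsPGroup.of_card (p := 3) (n := 1) (by rw [Nat.card_zpowers, oy0, pow_one]) : IsPGroup 3 ↥(zpowers y0))
    (fun q hq => by
      obtain ⟨k, rfl⟩ := hq
      have hq' := M.zpow_mem hy0 k
      have hm : y0 ^ k * n0 * (y0 ^ k)⁻¹ ∈ M := mul_mem (mul_mem hq' hn0) (inv_mem hq')
      obtain ⟨e, he, he'⟩ := S.exists_diff hm hn0 (by
        rw [S.im_conj hq' hn0 hm, show S.im hq' = S.im hy0 ^ k from map_zpow S.π ⟨y0, hy0⟩ k, ey0, en0,
          ((show Commute (permW y0w) (permW xw) from comW_spec hy0x).zpow_left k).eq, mul_inv_cancel_right])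
      exact ⟨e, List.mem_range.2 he, he'⟩)
    (fun q hq v hv => by
      obtain ⟨k, rfl⟩ := hq
      obtain ⟨u, hu⟩ := S.exists_word (M.zpow_mem hy0 k)
      exact ⟨av u v, List.mem_range.2 (av_lt u v), S.conj_el (M.zpow_mem hy0 k) hu (List.mem_range.1 hv)⟩)
  set n := n0 * S.el d0 with hne
  have hnM : n ∈ M := mul_mem hn0 (S.le (S.el_mem d0))
  have en : S.im hnM = permW xw := (S.im_mul_el hn0 d0 hnM).trans en0
  have hx2' : permW xw * permW xw = 1 := by rw [← permW_append]; exact sameK_id.1 hx2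
  have hnnE : ∃ v ∈ E, n * n = S.el v := by
    have hA : n * n ∈ A := (S.mem_A_iff (mul_mem hnM hnM)).2 (by rw [S.im_mul hnM hnM, en, hx2'])
    have hv := S.c_lt _ hA
    refine ⟨S.c (n * n), ?_, (S.el_c hA).symm⟩
    have f1 : av xw (S.c (n * n)) = S.c (n * n) := (S.comm_el_iff hnM en.symm hv).1 (by rw [S.el_c hA]; group)
    have hc := hd0c y0 (mem_zpowers y0)
    have f2 : av y0w (S.c (n * n)) = S.c (n * n) := (S.comm_el_iff hy0 ey0.symm hv).1 (by
      rw [S.el_c hA, hne]; exact Commute.mul_right hc hc)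
    have h := hfx _ hv
    rw [fixv_iff.2 f1, fixv_iff.2 f2] at h
    exact (maskL_testBit _ _).1 (by simpa using h)
  -- the actions
  have hwy : av yw d = d := hfix yw (by simp)
  have hwx : av xw d = d := hfix xw (by simp)
  let act : ∀ (g : H), g ∈ M → H → H := fun g _ o => g * o * g⁻¹
  have keep : ∀ {g : H} (hg : g ∈ M) {w : List ℕ}, S.im hg = permW w → av w d = d →
      ∀ o ∈ O, g * o * g⁻¹ ∈ O := fun {g} hg {w} hw hwd => hnorm g hg ⟨w, hw.symm, hwd⟩
  have hyO := keep hy ey hwy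
  have hnO := keep hnM en hwx
  set y' : H := y with hy'
  have hn1M : y * n * y⁻¹ ∈ M := mul_mem (mul_mem hy hnM) (inv_mem hy)
  have hn2M : y * (y * n * y⁻¹) * y⁻¹ ∈ M := mul_mem (mul_mem hy hn1M) (inv_mem hy)
  have en1 : S.im hn1M = permW (cjW yw xw) := by
    rw [S.im_conj hy hnM hn1M, ey, en, cjW, permW_append, permW_append, permW_reverse, mul_assoc]
  have en2 : S.im hn2M = permW (cjW yw (cjW yw xw)) := by
    rw [S.im_conj hy hn1M hn2M, ey, en1]
    simp only [cjW, permW_append, permW_reverse, mul_assoc]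
  have hV' : S.im hnM * S.im hn1M = S.im hn2M := by
    rw [en, en1, en2, ← permW_append]; exact sameK_iff.1 hV
  -- products of the two differ from the third by an element of `A`
  have hq : (y * (y * n * y⁻¹) * y⁻¹)⁻¹ * (n * (y * n * y⁻¹)) ∈ A := by
    rw [S.mem_A_iff (mul_mem (inv_mem hn2M) (mul_mem hnM hn1M)), S.im_mul (inv_mem hn2M) (mul_mem hnM hn1M),
      S.im_mul hnM hn1M, hV', S.im_inv hn2M, inv_mul_cancel]
  have hAact : ∀ b ∈ A, (∀ o ∈ O, b * o * b⁻¹ = o) ∨ ∀ o ∈ O, b * o * b⁻¹ = o⁻¹ := by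
    intro b hb
    obtain ⟨v, hv, rfl⟩ : ∃ v < 256, S.el v = b := ⟨_, S.c_lt b hb, S.el_c hb⟩
    by_cases hvE : v ∈ E
    · exact Or.inl fun o ho => by rw [← hXmem.1 (hOmem.1 ho).1 v hvE, mul_inv_cancel_right]
    · refine Or.inr fun o ho => ?_
      rw [show S.el v = a * S.el (v0 ^^^ v) by
        rw [ha, ← S.el_xor hv0 (xor_lt hv0 hv), ← Nat.xor_assoc, Nat.xor_self, Nat.zero_xor],
        show a * S.el (v0 ^^^ v) * o * (a * S.el (v0 ^^^ v))⁻¹ =
          a * (S.el (v0 ^^^ v) * o * (S.el (v0 ^^^ v))⁻¹) * a⁻¹ by group,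
        ← hXmem.1 (hOmem.1 ho).1 _ (hxor _ _ hv0 hv hv0E hvE), mul_inv_cancel_right, hinva o ho]
  have hnn : ∀ o ∈ O, n * (n * o * n⁻¹) * n⁻¹ = o := fun o ho => by
    obtain ⟨v, hvE, e⟩ := hnnE
    rw [show n * (n * o * n⁻¹) * n⁻¹ = (n * n) * o * (n * n)⁻¹ by group, e,
      ← hXmem.1 (hOmem.1 ho).1 v hvE, mul_inv_cancel_right]
  -- choose the sign
  obtain ⟨q, hqM, hqO, hq2, hq12, eq⟩ : ∃ q, ∃ hqM : q ∈ M, (∀ o ∈ O, q * o * q⁻¹ ∈ O) ∧
      (∀ o ∈ O, q * (q * o * q⁻¹) * q⁻¹ = o) ∧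
      (∀ o ∈ O, q * (y * q * y⁻¹) * o * (q * (y * q * y⁻¹))⁻¹ =
        y * (y * q * y⁻¹) * y⁻¹ * o * (y * (y * q * y⁻¹) * y⁻¹)⁻¹) ∧ S.im hqM = permW xw := by
    rcases hAact _ hq with h | h
    · refine ⟨n, hnM, hnO, hnn, fun o ho => ?_, en⟩
      conv_rhs => rw [← h o ho]
      group
    · refine ⟨n * a, mul_mem hnM (S.le (S.el_mem v0)), fun o ho => ?_, fun o ho => ?_, fun o ho => ?_, ?_⟩
      · rw [show n * a * o * (n * a)⁻¹ = n * (a * o * a⁻¹) * n⁻¹ by group]; exact hnO _ (hao o ho)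
      · have h1 := hnO _ (hao o ho)
        rw [show n * a * (n * a * o * (n * a)⁻¹) * (n * a)⁻¹ = n * (a * (n * (a * o * a⁻¹) * n⁻¹) * a⁻¹) * n⁻¹
          by group, hinva _ h1, hinva o ho, show (n * o⁻¹ * n⁻¹)⁻¹ = n * o * n⁻¹ by group, hnn o ho]
      · -- conjugates of the involution act as inversion
        have hca : ∀ r ∈ O, y * a * y⁻¹ * r * (y * a * y⁻¹)⁻¹ = r⁻¹ := fun r hr => by
          have hr' : y⁻¹ * r * y ∈ O := by
            have hy' := keep (inv_mem hy) (w := yw.reverse) (by rw [S.im_inv hy, ey, permW_reverse])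
              (by conv_lhs => rw [← hwy]
                  exact act_rev yw hd') r hr
            rwa [inv_inv] at hy'
          rw [show y * a * y⁻¹ * r * (y * a * y⁻¹)⁻¹ = y * (a * (y⁻¹ * r * y) * a⁻¹) * y⁻¹ by group,
            hinva _ hr']
          group
        have hy2O : ∀ r ∈ O, y⁻¹ * r * y ∈ O := fun r hr => by
          have hy' := keep (inv_mem hy) (w := yw.reverse) (by rw [S.im_inv hy, ey, permW_reverse])
            (by conv_lhs => rw [← hwy]
                exact act_rev yw hd') r hr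
          rwa [inv_inv] at hy'
        have hn1O : ∀ r ∈ O, y * n * y⁻¹ * r * (y * n * y⁻¹)⁻¹ ∈ O := fun r hr => by
          rw [show y * n * y⁻¹ * r * (y * n * y⁻¹)⁻¹ = y * (n * (y⁻¹ * r * y) * n⁻¹) * y⁻¹ by group]
          exact hyO _ (hnO _ (hy2O r hr))
        have hn2O : ∀ r ∈ O, y * (y * n * y⁻¹) * y⁻¹ * r * (y * (y * n * y⁻¹) * y⁻¹)⁻¹ ∈ O := fun r hr => by
          rw [show y * (y * n * y⁻¹) * y⁻¹ * r * (y * (y * n * y⁻¹) * y⁻¹)⁻¹ =
            y * (y * n * y⁻¹ * (y⁻¹ * r * y) * (y * n * y⁻¹)⁻¹) * y⁻¹ by simp [mul_assoc]]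
          exact hyO _ (hn1O _ (hy2O r hr))
        have e1 : n * a * (y * (n * a) * y⁻¹) * o * (n * a * (y * (n * a) * y⁻¹))⁻¹ =
            n * (a * (y * n * y⁻¹ * (y * a * y⁻¹ * o * (y * a * y⁻¹)⁻¹) * (y * n * y⁻¹)⁻¹) * a⁻¹) * n⁻¹ := by
          group
        rw [e1, hca o ho, hinva _ (hn1O _ (O.inv_mem ho)),
          show n * (y * n * y⁻¹ * o⁻¹ * (y * n * y⁻¹)⁻¹)⁻¹ * n⁻¹ =
            y * (y * n * y⁻¹) * y⁻¹ * ((y * (y * n * y⁻¹) * y⁻¹)⁻¹ * (n * (y * n * y⁻¹)) * o *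
              ((y * (y * n * y⁻¹) * y⁻¹)⁻¹ * (n * (y * n * y⁻¹)))⁻¹) * (y * (y * n * y⁻¹) * y⁻¹)⁻¹ by group,
          h o ho]
        have hy2a : y * (y * a * y⁻¹) * y⁻¹ * o * (y * (y * a * y⁻¹) * y⁻¹)⁻¹ = o⁻¹ := by
          rw [show y * (y * a * y⁻¹) * y⁻¹ * o * (y * (y * a * y⁻¹) * y⁻¹)⁻¹ =
            y * (y * a * y⁻¹ * (y⁻¹ * o * y) * (y * a * y⁻¹)⁻¹) * y⁻¹ by simp [mul_assoc], hca _ (hy2O o ho)]
          group
        rw [← hy2a]
        group
      · exact (S.im_mul hnM (S.le (S.el_mem v0))).trans (by rw [(S.mem_A_iff _).1 (S.el_mem v0), mul_one, en])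
  -- as automorphisms of the abelian group
  letI : CommGroup ↥O := { (inferInstance : Group ↥O) with mul_comm := fun p r => Subtype.ext (hcomm p p.2 r r.2) }
  have hy3' : y * (y * y) = 1 := by
    have h := pow_orderOf_eq_one y
    rwa [oy, pow_succ', pow_two] at h
  have hcy2 : ∀ r : H, y * (y * (y * r * y⁻¹) * y⁻¹) * y⁻¹ = r := fun r => by
    rw [show y * (y * (y * r * y⁻¹) * y⁻¹) * y⁻¹ = (y * (y * y)) * r * (y * (y * y))⁻¹ by group, hy3']
    group
  have hyinv : ∀ r ∈ O, y⁻¹ * r * y ∈ O := fun r hr => by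
    rw [show y⁻¹ * r * y = y * (y * r * y⁻¹) * y⁻¹ from mul_left_cancel (a := y) (mul_right_cancel (b := y⁻¹) (by
      rw [show y * (y * (y * r * y⁻¹) * y⁻¹) * y⁻¹ = r from hcy2 r]; group))]
    exact hyO _ (hyO _ hr)
  have hq1O : ∀ r ∈ O, y * q * y⁻¹ * r * (y * q * y⁻¹)⁻¹ ∈ O := fun r hr => by
    rw [show y * q * y⁻¹ * r * (y * q * y⁻¹)⁻¹ = y * (q * (y⁻¹ * r * y) * q⁻¹) * y⁻¹ by group]
    exact hyO _ (hqO _ (hyinv r hr))
  have hq2O : ∀ r ∈ O, y * (y * q * y⁻¹) * y⁻¹ * r * (y * (y * q * y⁻¹) * y⁻¹)⁻¹ ∈ O := fun r hr => by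
    rw [show y * (y * q * y⁻¹) * y⁻¹ * r * (y * (y * q * y⁻¹) * y⁻¹)⁻¹ =
      y * (y * q * y⁻¹ * (y⁻¹ * r * y) * (y * q * y⁻¹)⁻¹) * y⁻¹ by simp [mul_assoc]]
    exact hyO _ (hq1O _ (hyinv r hr))
  let Y : ↥O → ↥O := fun r => ⟨_, hyO r r.2⟩
  let F : ↥O → ↥O := fun r => ⟨_, hqO r r.2⟩
  let G : ↥O → ↥O := fun r => ⟨_, hq1O r r.2⟩
  let W : ↥O → ↥O := fun r => ⟨_, hq2O r r.2⟩
  have g2 : ∀ r : ↥O, G (G r) = r := fun r => Subtype.ext (by
    show y * q * y⁻¹ * (y * q * y⁻¹ * r.1 * (y * q * y⁻¹)⁻¹) * (y * q * y⁻¹)⁻¹ = r.1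
    rw [show y * q * y⁻¹ * (y * q * y⁻¹ * r.1 * (y * q * y⁻¹)⁻¹) * (y * q * y⁻¹)⁻¹ =
      y * (q * (q * (y⁻¹ * r.1 * y) * q⁻¹) * q⁻¹) * y⁻¹ by group, hq2 _ (hyinv _ r.2)]
    group)
  have h2 : ∀ r : ↥O, W (W r) = r := fun r => Subtype.ext (by
    show y * (y * q * y⁻¹) * y⁻¹ * (y * (y * q * y⁻¹) * y⁻¹ * r.1 * (y * (y * q * y⁻¹) * y⁻¹)⁻¹) *
      (y * (y * q * y⁻¹) * y⁻¹)⁻¹ = r.1
    rw [show y * (y * q * y⁻¹) * y⁻¹ * (y * (y * q * y⁻¹) * y⁻¹ * r.1 * (y * (y * q * y⁻¹) * y⁻¹)⁻¹) *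
      (y * (y * q * y⁻¹) * y⁻¹)⁻¹ = y * (y * (q * (q * (y⁻¹ * (y⁻¹ * r.1 * y) * y) * q⁻¹) * q⁻¹) * y⁻¹) * y⁻¹
      by simp [mul_assoc], hq2 _ (hyinv _ (hyinv _ r.2))]
    group)
  have f2 : ∀ r : ↥O, F (F r) = r := fun r => Subtype.ext (hq2 _ r.2)
  have fg : ∀ r : ↥O, F (G r) = W r := fun r => Subtype.ext (by
    show q * (y * q * y⁻¹ * r.1 * (y * q * y⁻¹)⁻¹) * q⁻¹ = _
    rw [← show q * (y * q * y⁻¹) * r.1 * (q * (y * q * y⁻¹))⁻¹ =
      q * (y * q * y⁻¹ * r.1 * (y * q * y⁻¹)⁻¹) * q⁻¹ by group]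
    exact hq12 _ r.2)
  have gf : ∀ r : ↥O, G (F r) = W r := fun r => by
    have : W (F (G r)) = r := by rw [fg, h2]
    have e : F (G (W r)) = r := by rw [fg, h2]
    have e2 := congrArg F e
    rw [f2] at e2
    -- the inverse of the product
    have e3 : W r = G (F r) := by rw [← e2, g2]
    exact e3.symm
  have hmul : ∀ (k : H) (hk : ∀ r ∈ O, k * r * k⁻¹ ∈ O) (u v : ↥O),
      (⟨_, hk _ (u * v).2⟩ : ↥O) = ⟨_, hk u u.2⟩ * ⟨_, hk v v.2⟩ := fun k hk u v =>
    Subtype.ext (by simp only [Subgroup.coe_mul, conj_mul])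
  have key : ∀ r : ↥O, F r = r := fun r => four_trivial
    (fun v hv => Subtype.ext (eq_one_of_odd (hOmem.1 v.2).2 (congrArg Subtype.val hv))) Y F G W
    (hmul y hyO) (hmul q hqO) (hmul _ hq1O) (hmul _ hq2O)
    (fun v => by
      refine Subtype.ext (hfpf y hy oy _ (v * (Y v * Y (Y v))).2 (mul_inv_eq_iff_eq_mul.1 ?_))
      have e : Y (v * (Y v * Y (Y v))) = v * (Y v * Y (Y v)) := by
        have h3 : Y (Y (Y v)) = v := Subtype.ext (hcy2 v.1)
        have hY : ∀ u w : ↥O, Y (u * w) = Y u * Y w := hmul y hyO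
        rw [hY, hY, h3]
        ac_rfl
      exact congrArg Subtype.val e)
    f2 g2 h2
    (fun v => Subtype.ext (by show y * (q * v.1 * q⁻¹) * y⁻¹ = y * q * y⁻¹ * (y * v.1 * y⁻¹) * (y * q * y⁻¹)⁻¹; group))
    (fun v => Subtype.ext (by
      show y * (y * q * y⁻¹ * v.1 * (y * q * y⁻¹)⁻¹) * y⁻¹ =
        y * (y * q * y⁻¹) * y⁻¹ * (y * v.1 * y⁻¹) * (y * (y * q * y⁻¹) * y⁻¹)⁻¹
      group))
    (fun v => Subtype.ext (by
      show y * (y * (y * q * y⁻¹) * y⁻¹ * v.1 * (y * (y * q * y⁻¹) * y⁻¹)⁻¹) * y⁻¹ = q * (y * v.1 * y⁻¹) * q⁻¹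
      rw [show y * (y * (y * q * y⁻¹) * y⁻¹ * v.1 * (y * (y * q * y⁻¹) * y⁻¹)⁻¹) * y⁻¹ =
        (y * (y * y)) * q * (y * (y * y))⁻¹ * (y * v.1 * y⁻¹) * ((y * (y * y)) * q * (y * (y * y))⁻¹)⁻¹ by group,
        hy3']
      group))
    fg gf r
  have hqc : ∀ r ∈ O, q * r = r * q := fun r hr =>
    mul_inv_eq_iff_eq_mul.1 (congrArg Subtype.val (key ⟨r, hr⟩))
  -- two conjugates give an element of order three
  obtain ⟨g1, hg1, eg1⟩ := S.exists_lift ga
  obtain ⟨g2', hg2, eg2⟩ := S.exists_lift gb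
  have hconj : ∀ {g : H} (hg : g ∈ M) {w : List ℕ}, S.im hg = permW w → av w d = d → ∀ r ∈ O,
      g * q * g⁻¹ * r = r * (g * q * g⁻¹) := fun {g} hg {w} hw hwd r hr => by
    have hr' := keep (inv_mem hg) (w := w.reverse) (by rw [S.im_inv hg, hw, permW_reverse])
      (by conv_lhs => rw [← hwd]
          exact act_rev w hd') r hr
    rw [inv_inv] at hr'
    calc g * q * g⁻¹ * r = g * (q * (g⁻¹ * r * g)) * g⁻¹ := by group
      _ = g * (g⁻¹ * r * g * q) * g⁻¹ := by rw [hqc _ hr']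
      _ = r * (g * q * g⁻¹) := by group
  set k := g1 * q * g1⁻¹ * (g2' * q * g2'⁻¹) with hk
  have hk1 : g1 * q * g1⁻¹ ∈ M := mul_mem (mul_mem hg1 hqM) (inv_mem hg1)
  have hk2 : g2' * q * g2'⁻¹ ∈ M := mul_mem (mul_mem hg2 hqM) (inv_mem hg2)
  have hkM : k ∈ M := mul_mem hk1 hk2
  have ek : S.im hkM = permW (cjW ga xw ++ cjW gb xw) := by
    rw [S.im_mul hk1 hk2, S.im_conj hg1 hqM hk1, S.im_conj hg2 hqM hk2, eg1, eg2, eq, cjW, cjW]
    simp only [permW_append, permW_reverse, mul_assoc]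
  obtain ⟨hk3, hkne⟩ := ord3_spec hord
  have h3A : k ^ 3 ∈ A := (S.mem_A_iff (M.pow_mem hkM 3)).2 (by rw [S.im_pow hkM, ek, hk3])
  have e4 : S.im (M.pow_mem hkM 4) = permW (cjW ga xw ++ cjW gb xw) := by
    rw [S.im_pow hkM, ek, pow_succ, hk3, one_mul]
  have o4 : orderOf (k ^ 4) = 3 := by
    refine orderOf_eq_prime ?_ fun e' => hkne ?_
    · rw [← pow_mul, show 4 * 3 = (3 + 3) * 2 from rfl, pow_mul, pow_add, S.sq h3A, one_pow]
    · rw [← e4]; exact (S.mem_A_iff (M.pow_mem hkM 4)).1 (e' ▸ A.one_mem)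
  refine (eq_bot_iff_forall _).2 fun r hr => hfpf _ (M.pow_mem hkM 4) o4 r hr ?_
  have hkr : Commute k r := Commute.mul_left (hconj hg1 eg1 (hfix ga (by simp)) r hr)
    (hconj hg2 eg2 (hfix gb (by simp)) r hr)
  exact (hkr.pow_left 4).eq

end Cfsg.Agent.Co2Three.Close
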