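import Cfsg.Agent.Lib.Co2Three.Close.Fus

/-!
The involutions outside `A` commuting with no element of order three: one class, over the central involution of the
Sylow subgroup, with nine cosets of commutators as a single family around a base point.
-/

set_option autoImplicit false
set_option maxRecDepth 100000
set_option linter.style.haveILetI false
set_option linter.unusedSectionVars false

namespace Cfsg.Agent.Co2Three.Close

open Equiv Subgroup
open Cfsg.Agent.Co2Recog (Sp63 Syl Syl_le exists_conj_Syl sylI permW eW eId key sameK permW_append permW_mem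
  permW_reverse fixV fixInCom memN comL)
open Cfsg.Agent.Co2Recog.Two (sameK_iff memN_iff mem_sylI)
open Cfsg.Agent.ThRec.Eight (ap_xor)

theorem fixv_iff {w : List ℕ} {v : ℕ} : fixV (eW w) v = true ↔ av w v = v :=
  ⟨fun h => Nat.eq_of_beq_eq_true h, fun h => (congrArg (fun z => Nat.beq z v) h).trans (Nat.beq_refl v)⟩

theorem covL_spec : ∀ {es : List Co2Recog.Elt} {ps : List (ℕ × List ℕ)}, covL es ps = true →
    ∀ e ∈ es, ∃ p ∈ ps, sameK e (eW (certW p)) = true ∧ p.1 ≤ 4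
  | [], _, _, e, he => absurd he List.not_mem_nil
  | _ :: _, [], h, _, _ => by simp [covL] at h
  | a :: es, q :: ps, h, e, he => by
    simp only [covL, Bool.and_eq_true] at h
    rcases List.mem_cons.1 he with rfl | he
    · exact ⟨q, List.mem_cons_self, h.1.1, Nat.le_of_ble_eq_true h.1.2⟩
    · obtain ⟨p, hp, hh⟩ := covL_spec h.2 e he
      exact ⟨p, List.mem_cons_of_mem _ hp, hh⟩

theorem rep_four : rep 4 = [] := rfl

/-- An involution of the symplectic group is conjugate to one of the four representatives. -/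
theorem exists_class {p : Perm (Fin 63)} (hp : p ∈ Sp63) (h2 : p * p = 1) (h1 : p ≠ 1) :
    ∃ k ≤ 3, ∃ w, p = permW w * permW (rep k) * (permW w)⁻¹ := by
  haveI : Fact (Nat.Prime 2) := ⟨Nat.prime_two⟩
  have ho : orderOf p = 2 := orderOf_eq_prime (by rw [pow_two, h2]) h1
  obtain ⟨m, hm, hc⟩ := exists_conj_Syl Syl_le le_rfl (P := zpowers p) (zpowers_le.2 hp)
    (IsPGroup.of_card (p := 2) (n := 1) (by rw [Nat.card_zpowers, ho, pow_one]))
  obtain ⟨v, hv, e⟩ := hc p (mem_zpowers p)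
  obtain ⟨⟨k, g⟩, -, hs, hk⟩ := covL_spec syl_cov _ (mem_sylI hv (by rw [e, conj_mul, h2, mul_one, mul_inv_cancel]))
  have e' := sameK_iff.1 hs
  rw [e, certW, permW_append, permW_append, permW_reverse, ← mul_assoc] at e'
  obtain ⟨u, hu⟩ := Co2Recog.exists_word hm
  refine ⟨k, ?_, u.reverse ++ g, ?_⟩
  · rcases Nat.lt_or_ge k 4 with h | h
    · omega
    · have : k = 4 := le_antisymm hk h
      subst this
      rw [rep_four] at e'
      refine absurd (conj_eq_one_iff.1 (e'.trans ?_)) h1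
      simp [Co2Recog.permW]
  · rw [permW_append, permW_reverse, hu]
    dsimp only at e'
    rw [mul_inv_rev, inv_inv, show m⁻¹ * permW g * permW (rep k) * ((permW g)⁻¹ * m) =
      m⁻¹ * (permW g * permW (rep k) * (permW g)⁻¹) * m by group, ← e']
    group

theorem fixU_iff {v : ℕ} (hv : v < 256) : v ∈ fixU ↔ av uW v = v := by
  have h := List.all_eq_true.1 u_facts.2.1 v (List.mem_range.2 hv)
  rw [Bool.and_eq_true, beq_iff_eq] at h
  rw [← memN_iff, ← h.1, fixv_iff]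

theorem com_mem {v : ℕ} (hv : v < 256) : v ^^^ av uW v ∈ comU := by
  have h := List.all_eq_true.1 u_facts.2.1 v (List.mem_range.2 hv)
  rw [Bool.and_eq_true] at h
  exact memN_iff.1 h.2

theorem com_pre {c : ℕ} (hc : c ∈ comU) : c ∈ fixU ∧ ∃ v < 256, v ^^^ av uW v = c := by
  have h := List.all_eq_true.1 u_facts.2.2.1 c hc
  rw [Bool.and_eq_true, List.any_eq_true] at h
  obtain ⟨v, hv, e⟩ := h.2
  exact ⟨memN_iff.1 h.1, v, List.mem_range.1 hv, Nat.eq_of_beq_eq_true e⟩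

theorem com_add {c d : ℕ} (hc : c ∈ comU) (hd : d ∈ comU) : c ^^^ d ∈ comU :=
  memN_iff.1 (List.all_eq_true.1 (List.all_eq_true.1 u_facts.2.2.2.1 c hc) d hd)

theorem fixU_lt {v : ℕ} (h : v ∈ fixU) : v < 256 := by
  have : ∀ x ∈ fixU, x < 256 := by decide +kernel
  exact this v h

theorem com_zero : 0 ∈ comU := by decide +kernel

theorem fixU_zero : 0 ∈ fixU := (com_pre com_zero).1

theorem fixU_add {u v : ℕ} (hu : u ∈ fixU) (hv : v ∈ fixU) : u ^^^ v ∈ fixU :=
  (fixU_iff (ThRec.Eight.xor_lt (fixU_lt hu) (fixU_lt hv))).2 (by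
    show ThRec.Eight.ap _ (u ^^^ v) = _
    rw [ap_xor]
    exact congrArg₂ (· ^^^ ·) ((fixU_iff (fixU_lt hu)).1 hu) ((fixU_iff (fixU_lt hv)).1 hv))

theorem com_fix {c : ℕ} (h : c ∈ comU) : c ∈ fixU := (com_pre h).1

theorem badC_fix {c : ℕ} (h : c ∈ badC) : c ∈ fixU := (List.mem_filter.1 h).1

theorem c6_bad : c6 ∈ badC := memN_iff.1 bad_trans.2

variable {H : Type*} [Group H] [Finite H] {A M : Subgroup H}

/-- An involution outside `A` commuting with no element of order three of the normaliser. -/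
structure Bad (A M : Subgroup H) (r : H) : Prop where
  mem : r ∈ M
  not_mem : r ∉ A
  sq : r * r = 1
  no_three : ∀ y ∈ M, orderOf y = 3 → y * r ≠ r * y

variable (S : Spin A M)
include S

theorem Spin.bad_of_fused {r a g : H} (hr : r ∈ M) (hrA : r ∉ A) (ha : a ∈ A) (hg : g * a * g⁻¹ = r) :
    Bad A M r :=
  ⟨hr, hrA, by rw [← hg, conj_mul, S.sq ha, mul_one, mul_inv_cancel],
    fun _ hy hy3 e => S.not_fused hrA hy hy3 e ha hg⟩

theorem Spin.bad_conj {r m : H} (hr : Bad A M r) (hm : m ∈ M) : Bad A M (m * r * m⁻¹) := by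
  refine ⟨mul_mem (mul_mem hm hr.mem) (inv_mem hm), fun h => hr.not_mem ?_, by
    rw [conj_mul, hr.sq, mul_one, mul_inv_cancel], fun y hy hy3 e => hr.no_three (m⁻¹ * y * m)
      (mul_mem (mul_mem (inv_mem hm) hy) hm) ?_ ?_⟩
  · have := S.conj_mem (inv_mem hm) h
    simpa [mul_assoc] using this
  · rw [show m⁻¹ * y * m = (MulAut.conj m⁻¹).toMonoidHom y by simp,
      orderOf_injective _ (MulAut.conj m⁻¹).injective, hy3]
  · calc m⁻¹ * y * m * r = m⁻¹ * (y * (m * r * m⁻¹)) * m := by group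
      _ = m⁻¹ * (m * r * m⁻¹ * y) * m := by rw [e]
      _ = r * (m⁻¹ * y * m) := by group

theorem Spin.exists_diff {x r : H} (hx : x ∈ M) (hr : r ∈ M) (h : S.im hx = S.im hr) :
    ∃ d < 256, x = r * S.el d := by
  have ha : r⁻¹ * x ∈ A := by
    rw [S.mem_A_iff (mul_mem (inv_mem hr) hx), S.im_mul (inv_mem hr) hx, S.im_inv hr, h, inv_mul_cancel]
  exact ⟨_, S.c_lt _ ha, by rw [S.el_c ha, mul_inv_cancel_left]⟩

theorem Spin.conj_r {r : H} (hr : r ∈ M) (r2 : r * r = 1) {w : List ℕ} (hw : permW w = S.im hr) {d : ℕ}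
    (hd : d < 256) : r * S.el d * r = S.el (av w d) := by
  have := S.conj_el hr hw hd
  rwa [inv_eq_of_mul_eq_one_right r2] at this

theorem Spin.sq_iff {r : H} (hr : r ∈ M) (r2 : r * r = 1) {w : List ℕ} (hw : permW w = S.im hr) {d : ℕ}
    (hd : d < 256) : (r * S.el d) * (r * S.el d) = 1 ↔ av w d = d := by
  rw [show r * S.el d * (r * S.el d) = (r * S.el d * r) * S.el d by group, S.conj_r hr r2 hw hd,
    mul_eq_one_iff_eq_inv, S.inv_eq (S.el_mem d)]
  exact ⟨fun h => by rw [← S.c_el (av_lt w d), h, S.c_el hd], fun h => by rw [h]⟩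

theorem Spin.conj_by_el {r : H} (hr : r ∈ M) (r2 : r * r = 1) {w : List ℕ} (hw : permW w = S.im hr) {v : ℕ}
    (hv : v < 256) : S.el v * r * (S.el v)⁻¹ = r * S.el (v ^^^ av w v) := by
  rw [Nat.xor_comm v, S.el_xor (av_lt w v) hv, ← S.conj_r hr r2 hw hv, S.inv_eq (S.el_mem v),
    show r * (r * S.el v * r * S.el v) = r * r * (S.el v * r * S.el v) by group, r2, one_mul]

theorem Spin.im_mul_el {r : H} (hr : r ∈ M) (d : ℕ) (h : r * S.el d ∈ M) : S.im h = S.im hr := by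
  rw [S.im_mul hr (S.le (S.el_mem d)), (S.mem_A_iff _).1 (S.el_mem d), mul_one]

/-- A three-group moving `r` by elements of a list fixes one of the translates of `r`. -/
theorem Spin.exists_cent_over {r : H} {L : List ℕ} (hn : L.Nodup) (h3 : ¬ 3 ∣ L.length)
    (hlt : ∀ d ∈ L, d < 256) (hadd : ∀ d ∈ L, ∀ e ∈ L, d ^^^ e ∈ L) {P : Subgroup H} (hP : IsPGroup 3 ↥P)
    (hr : ∀ p ∈ P, ∃ e ∈ L, p * r * p⁻¹ = r * S.el e)
    (hL : ∀ p ∈ P, ∀ d ∈ L, ∃ e ∈ L, p * S.el d * p⁻¹ = S.el e) :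
    ∃ d ∈ L, ∀ p ∈ P, p * (r * S.el d) = r * S.el d * p := by
  classical
  let f : {d // d ∈ L} → ↥({x : H | ∃ d ∈ L, x = r * S.el d}) := fun d => ⟨r * S.el d, d, d.2, rfl⟩
  have hf : Function.Bijective f := by
    refine ⟨fun a b e => Subtype.ext ?_, fun ⟨_, d, hd, rfl⟩ => ⟨⟨d, hd⟩, rfl⟩⟩
    have e' : r * S.el a = r * S.el b := congrArg Subtype.val e
    rw [← S.c_el (hlt a a.2), mul_left_cancel e', S.c_el (hlt b b.2)]
  have hcard : Nat.card ↥({x : H | ∃ d ∈ L, x = r * S.el d}) = L.length := by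
    rw [← Nat.card_congr (Equiv.ofBijective f hf), ← List.toFinset_card_of_nodup hn, ← Nat.card_eq_finsetCard]
    exact Nat.card_congr (Equiv.subtypeEquivRight fun d => List.mem_toFinset.symm)
  obtain ⟨_, ⟨d, hd, rfl⟩, h⟩ := exists_centralised hP {x | ∃ d ∈ L, x = r * S.el d} (fun p hp x hx => by
    obtain ⟨d, hd, rfl⟩ := hx
    obtain ⟨e, he, e1⟩ := hr p hp
    obtain ⟨e', he', e2⟩ := hL p hp d hd
    exact ⟨e ^^^ e', hadd e he e' he', by
      rw [show p * (r * S.el d) * p⁻¹ = p * r * p⁻¹ * (p * S.el d * p⁻¹) by group, e1, e2, mul_assoc,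
        S.el_xor (hlt e he) (hlt e' he')]⟩) (hcard ▸ h3)
  exact ⟨d, hd, h⟩

/-- An element commuting with `r` in the image moves `r` by a fixed vector. -/
theorem Spin.moved {r p : H} (hr : r ∈ M) (r2 : r * r = 1) {w : List ℕ} (hw : permW w = S.im hr) (hp : p ∈ M)
    (hc : S.im hp * S.im hr = S.im hr * S.im hp) : ∃ e < 256, av w e = e ∧ p * r * p⁻¹ = r * S.el e := by
  have hm : p * r * p⁻¹ ∈ M := mul_mem (mul_mem hp hr) (inv_mem hp)
  obtain ⟨e, he, h⟩ := S.exists_diff hm hr (by rw [S.im_conj hp hr hm, hc, mul_inv_cancel_right])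
  exact ⟨e, he, (S.sq_iff hr r2 hw he).1 (by rw [← h, conj_mul, r2, mul_one, mul_inv_cancel]), h⟩

/-- An element commuting with the image of `r` keeps the vectors fixed by it. -/
theorem Spin.fix_moved {r p : H} (hr : r ∈ M) {w : List ℕ} (hw : permW w = S.im hr) (hp : p ∈ M)
    (hc : S.im hp * S.im hr = S.im hr * S.im hp) {d : ℕ} (hd : d < 256) (hfix : av w d = d) :
    ∃ e < 256, av w e = e ∧ p * S.el d * p⁻¹ = S.el e := by
  obtain ⟨v, hv⟩ := S.exists_word hp
  refine ⟨av v d, av_lt v d, ?_, S.conj_el hp hv hd⟩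
  have h : permW (v ++ w) = permW (w ++ v) := by rw [permW_append, permW_append, hv, hw, hc]
  have := S.act_eq h hd
  simp only [av, Co2Recog.eW_append] at this
  rw [show (Co2Recog.eMul (eW v) (eW w)).2 = ThRec.Eight.mulM (eW v).2 (eW w).2 from rfl,
    show (Co2Recog.eMul (eW w) (eW v)).2 = ThRec.Eight.mulM (eW w).2 (eW v).2 from rfl, ThRec.Eight.ap_mulM,
    ThRec.Eight.ap_mulM] at this
  exact this.symm.trans (congrArg _ hfix)

/-- No bad involution lies over the first three classes. -/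
theorem Spin.not_flat {r : H} (hr : Bad A M r) {k : ℕ} (hk : k < 3) : S.im hr.mem ≠ permW (rep k) := by
  intro e
  have h := List.all_eq_true.1 cls_flat k (List.mem_range.2 hk)
  have hl := Nat.eq_of_beq_eq_true (List.all_eq_true.1 flat_card k (List.mem_range.2 hk))
  simp only [Bool.and_eq_true] at h
  obtain ⟨⟨hf, h3⟩, hc⟩ := h
  set L := (List.range 256).filter (fixV (eW (rep k))) with hL
  have hmem : ∀ {d}, d ∈ L ↔ d < 256 ∧ av (rep k) d = d := fun {d} => by
    rw [hL, List.mem_filter, List.mem_range, fixv_iff]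
  obtain ⟨y, hy, ey, oy⟩ := S.exists_three h3
  have hyc : ∀ p ∈ zpowers y, ∃ hp : p ∈ M, S.im hp * S.im hr.mem = S.im hr.mem * S.im hp := fun p hp => by
    obtain ⟨n, rfl⟩ := hp
    refine ⟨M.zpow_mem hy n, ?_⟩
    have hcy : Commute (S.im hy) (S.im hr.mem) := by
      show S.im hy * S.im hr.mem = S.im hr.mem * S.im hy
      rw [ey, e]; exact comW_spec hc
    rw [show S.im (M.zpow_mem hy n) = S.im hy ^ n from map_zpow S.π ⟨y, hy⟩ n]
    exact hcy.zpow_left n
  obtain ⟨d, hd, hcm⟩ := S.exists_cent_over (r := r) (List.nodup_range.filter _) (by rw [hl]; decide)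
    (fun d hd => (hmem.1 hd).1) (fun a ha b hb => hmem.2 ⟨ThRec.Eight.xor_lt (hmem.1 ha).1 (hmem.1 hb).1,
      (ap_xor _ a b).trans (congrArg₂ (· ^^^ ·) (hmem.1 ha).2 (hmem.1 hb).2)⟩)
    (IsPGroup.of_card (p := 3) (n := 1) (by rw [Nat.card_zpowers, oy, pow_one]))
    (fun p hp => by
      obtain ⟨hp', hc'⟩ := hyc p hp
      obtain ⟨e1, h1, h2, h4⟩ := S.moved hr.mem hr.sq e.symm hp' hc'
      exact ⟨e1, hmem.2 ⟨h1, h2⟩, h4⟩)
    (fun p hp d hd => by
      obtain ⟨hp', hc'⟩ := hyc p hp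
      obtain ⟨e1, h1, h2, h4⟩ := S.fix_moved hr.mem e.symm hp' hc' (hmem.1 hd).1 (hmem.1 hd).2
      exact ⟨e1, hmem.2 ⟨h1, h2⟩, h4⟩)
  have hd2 := hmem.1 hd
  have hf' := List.all_eq_true.1 hf d (List.mem_range.2 hd2.1)
  rw [fixv_iff.2 hd2.2] at hf'
  obtain ⟨v, hv, ev⟩ := List.mem_map.1 (memN_iff.1 (show memN (comL _) d = true by simpa using hf'))
  have hb := S.bad_conj hr (S.le (S.el_mem v))
  rw [S.conj_by_el hr.mem hr.sq e.symm (List.mem_range.1 hv),
    show v ^^^ av (rep k) v = d from (Nat.xor_comm _ _).trans ev] at hb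
  exact hb.no_three y hy oy (hcm y (mem_zpowers y))

/-- The base point of the bad involutions over the central involution. -/
structure Base (S : Spin A M) (x : H) : Prop where
  mem : x ∈ M
  sq : x * x = 1
  im : S.im mem = permW uW
  lift : ∀ w ∈ pWords, ∃ p, ∃ hp : p ∈ M, S.im hp = permW w ∧ p * x = x * p
  lift3 : ∀ w ∈ pFour, ∃ p, ∃ hp : p ∈ M, S.im hp = permW w ∧ p * x = x * p ∧ orderOf p = 3
  bad : ∀ c ∈ badC, Bad A M (x * S.el c)

/-- A bad translate of the base is one of the listed ones. -/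
theorem Spin.bad_mem {x : H} (hx : x ∈ M) (x2 : x * x = 1) (hi : S.im hx = permW uW)
    (hl : ∀ w ∈ pFour, ∃ p, ∃ hp : p ∈ M, S.im hp = permW w ∧ p * x = x * p ∧ orderOf p = 3) {c : ℕ}
    (hc : c ∈ fixU) (hb : Bad A M (x * S.el c)) : c ∈ badC := by
  refine List.mem_filter.2 ⟨hc, Bool.not_eq_true' _ |>.mpr ?_⟩
  refine Bool.eq_false_iff.2 fun h => ?_
  obtain ⟨w, hw, hwc⟩ := List.any_eq_true.1 h
  have hwc' : c ^^^ av w c ∈ comU := memN_iff.1 hwc
  obtain ⟨p, hp, ep, hpx, op⟩ := hl w hw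
  have hc' := fixU_lt hc
  have hpc : p * (x * S.el c) * p⁻¹ = x * S.el c * S.el (c ^^^ av w c) := by
    rw [show p * (x * S.el c) * p⁻¹ = (p * x * p⁻¹) * (p * S.el c * p⁻¹) by group, hpx, mul_inv_cancel_right,
      S.conj_el hp ep.symm hc', mul_assoc, ← S.el_xor hc' (fixU_lt (com_fix hwc')), ← Nat.xor_assoc, Nat.xor_self,
      Nat.zero_xor]
  have hiw : S.im hp * S.im hx = S.im hx * S.im hp := by
    rw [← S.im_mul hp hx, ← S.im_mul hx hp]; exact S.im_congr hpx _ _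
  have hkeep : ∀ d ∈ comU, ∃ e ∈ comU, p * S.el d * p⁻¹ = S.el e := by
    intro d hd
    obtain ⟨-, v, hv, ev⟩ := com_pre hd
    refine ⟨av w v ^^^ av uW (av w v), com_mem (av_lt w v), mul_left_cancel (a := x) ?_⟩
    rw [← S.conj_by_el hx x2 hi.symm (av_lt w v), ← S.conj_el hp ep.symm hv, ← ev]
    calc x * (p * S.el (v ^^^ av uW v) * p⁻¹) = (p * x * p⁻¹) * (p * S.el (v ^^^ av uW v) * p⁻¹) := by
          rw [hpx, mul_inv_cancel_right]
      _ = p * (x * S.el (v ^^^ av uW v)) * p⁻¹ := by group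
      _ = p * (S.el v * x * (S.el v)⁻¹) * p⁻¹ := by rw [S.conj_by_el hx x2 hi.symm hv]
      _ = (p * S.el v * p⁻¹) * (p * x * p⁻¹) * (p * S.el v * p⁻¹)⁻¹ := by group
      _ = _ := by rw [hpx, mul_inv_cancel_right]
  have hall : ∀ q ∈ zpowers p, (∃ e ∈ comU, q * (x * S.el c) * q⁻¹ = x * S.el c * S.el e) ∧
      ∀ d ∈ comU, ∃ e ∈ comU, q * S.el d * q⁻¹ = S.el e := by
    intro q hq
    obtain ⟨n, rfl : p ^ n = q⟩ : q ∈ Submonoid.powers p := (isOfFinOrder_of_finite p).mem_powers_iff_mem_zpowers.2 hq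
    induction n with
    | zero => exact ⟨⟨0, com_zero, by simp [S.el_zero]⟩, fun d hd => ⟨d, hd, by simp⟩⟩
    | succ n ih =>
      obtain ⟨⟨e, he, h1⟩, h2⟩ := ih (Subgroup.pow_mem _ (mem_zpowers p) n)
      refine ⟨?_, fun d hd => ?_⟩
      · obtain ⟨e', he', h3⟩ := hkeep e he
        refine ⟨(c ^^^ av w c) ^^^ e', com_add hwc' he', ?_⟩
        calc p ^ (n + 1) * (x * S.el c) * (p ^ (n + 1))⁻¹
            = p * (p ^ n * (x * S.el c) * (p ^ n)⁻¹) * p⁻¹ := by rw [pow_succ']; group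
          _ = p * (x * S.el c) * p⁻¹ * (p * S.el e * p⁻¹) := by rw [h1]; group
          _ = _ := by rw [hpc, h3, mul_assoc, ← S.el_xor (fixU_lt (com_fix hwc')) (fixU_lt (com_fix he'))]
      · obtain ⟨e, he, h3⟩ := h2 d hd
        obtain ⟨e', he', h4⟩ := hkeep e he
        exact ⟨e', he', by rw [← h4, ← h3, pow_succ']; group⟩
  obtain ⟨d, hd, hcm⟩ := S.exists_cent_over (r := x * S.el c) (L := comU)
    (nodupB_spec u_facts.2.2.2.2.2.2.2) (by rw [Nat.eq_of_beq_eq_true u_facts.2.2.2.2.2.2.1]; decide)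
    (fun d hd => fixU_lt (com_fix hd)) (fun a ha b hb => com_add ha hb)
    (IsPGroup.of_card (p := 3) (n := 1) (by rw [Nat.card_zpowers, op, pow_one]))
    (fun q hq => (hall q hq).1) (fun q hq => (hall q hq).2)
  obtain ⟨-, v, hv, ev⟩ := com_pre hd
  have hb' := S.bad_conj hb (S.le (S.el_mem v))
  rw [S.conj_by_el hb.mem hb.sq (w := uW) (by rw [S.im_mul_el hx c hb.mem, hi]) hv, ev] at hb'
  exact hb'.no_three p hp op (hcm p (mem_zpowers p))

/-- Around a bad involution over the central involution there is a base point. -/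
theorem Spin.exists_base {r : H} (hr : Bad A M r) (he : S.im hr.mem = permW uW) :
    ∃ x, Base S x ∧ ∃ c ∈ badC, r = x * S.el c := by
  haveI : Fact (Nat.Prime 3) := ⟨Nat.prime_three⟩
  obtain ⟨h3a, h3b, hab, hau, hbu, hfour⟩ := p_facts
  obtain ⟨a, ha, ea, oa⟩ := S.exists_three h3a
  obtain ⟨b0, hb0, eb0, -⟩ := S.exists_three h3b
  -- a lift of the second commuting with the first
  have hcomm0 : ∀ q ∈ zpowers a, ∃ hq : q ∈ M, S.im hq * permW threeB = permW threeB * S.im hq ∧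
      S.im hq * permW uW = permW uW * S.im hq := by
    intro q hq
    obtain ⟨n, rfl⟩ := hq
    refine ⟨M.zpow_mem ha n, ?_⟩
    rw [show S.im (M.zpow_mem ha n) = S.im ha ^ n from map_zpow S.π ⟨a, ha⟩ n, ea]
    exact ⟨(show Commute (permW threeA) (permW threeB) from comW_spec hab).zpow_left n,
      (show Commute (permW threeA) (permW uW) from comW_spec hau).zpow_left n⟩
  obtain ⟨d0, hd0, hb1⟩ := S.exists_cent_over (r := b0) (L := List.range 256) List.nodup_range
    (by rw [List.length_range]; decide) (fun d hd => List.mem_range.1 hd)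
    (fun d hd e he => List.mem_range.2 (ThRec.Eight.xor_lt (List.mem_range.1 hd) (List.mem_range.1 he)))
    (IsPGroup.of_card (p := 3) (n := 1) (by rw [Nat.card_zpowers, oa, pow_one]))
    (fun q hq => by
      obtain ⟨hq', h, -⟩ := hcomm0 q hq
      have hm : q * b0 * q⁻¹ ∈ M := mul_mem (mul_mem hq' hb0) (inv_mem hq')
      obtain ⟨e, hel, he'⟩ := S.exists_diff hm hb0 (by rw [S.im_conj hq' hb0 hm, eb0, h, mul_inv_cancel_right])
      exact ⟨e, List.mem_range.2 hel, he'⟩)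
    (fun q hq d hd => by
      obtain ⟨hq', -, -⟩ := hcomm0 q hq
      obtain ⟨v, hv⟩ := S.exists_word hq'
      exact ⟨av v d, List.mem_range.2 (av_lt v d), S.conj_el hq' hv (List.mem_range.1 hd)⟩)
  set b1 := b0 * S.el d0 with hb1e
  have hb1M : b1 ∈ M := mul_mem hb0 (S.le (S.el_mem _))
  have eb1 : S.im hb1M = permW threeB := (S.im_mul_el hb0 d0 hb1M).trans eb0
  set b := b1 ^ 4 with hbe
  have hbM : b ∈ M := M.pow_mem hb1M 4
  have hp3 := (ord3_spec h3b)
  have eb : S.im hbM = permW threeB := by rw [S.im_pow hb1M, eb1, pow_succ, hp3.1, one_mul]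
  have hab' : Commute a b := (show Commute a b1 from hb1 a (mem_zpowers a)).pow_right 4
  have ob : orderOf b = 3 := by
    refine orderOf_eq_prime ?_ fun e => hp3.2 ?_
    · have h3 : b1 ^ 3 ∈ A := (S.mem_A_iff (M.pow_mem hb1M 3)).2 (by rw [S.im_pow hb1M, eb1, hp3.1])
      rw [hbe, ← pow_mul, show 4 * 3 = (3 + 3) * 2 from rfl, pow_mul, pow_add, S.sq h3, one_pow]
    · rw [← eb]; exact (S.mem_A_iff hbM).1 (e ▸ A.one_mem)
  set P := zpowers a ⊔ zpowers b with hPe
  have hP : IsPGroup 3 ↥P := (IsPGroup.of_card (p := 3) (n := 1) (by rw [Nat.card_zpowers, oa, pow_one])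
    : IsPGroup 3 ↥(zpowers a)).to_sup_of_normal_right'
    (IsPGroup.of_card (p := 3) (n := 1) (by rw [Nat.card_zpowers, ob, pow_one]))
    (zpowers_le.2 (centralizer_le_normalizer _ (mem_centralizer_iff.2 fun y hy => by
      obtain ⟨n, rfl⟩ := hy
      exact (hab'.zpow_right n).symm.eq)))
  set Z : Subgroup H := ((centralizer ({permW uW} : Set (Perm (Fin 63)))).comap S.π).map M.subtype with hZ
  have hPZ : P ≤ Z := by
    refine sup_le (zpowers_le.2 ⟨⟨a, ha⟩, ?_, rfl⟩) (zpowers_le.2 ⟨⟨b, hbM⟩, ?_, rfl⟩)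
    · exact mem_centralizer_singleton_iff.2 (by
        show S.im ha * _ = _ * S.im ha
        rw [ea]; exact comW_spec hau)
    · exact mem_centralizer_singleton_iff.2 (by
        show S.im hbM * _ = _ * S.im hbM
        rw [eb]; exact comW_spec hbu)
  have hPM : ∀ p ∈ P, ∃ hp : p ∈ M, S.im hp * permW uW = permW uW * S.im hp := fun p hp => by
    obtain ⟨q, hq, rfl⟩ := hPZ hp
    exact ⟨q.2, mem_centralizer_singleton_iff.1 hq⟩
  obtain ⟨d, hd, hcm⟩ := S.exists_cent_over (r := r) (L := fixU) (nodupB_spec u_facts.2.2.2.2.2.1)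
    (by rw [Nat.eq_of_beq_eq_true u_facts.2.2.2.2.1]; decide) (fun d hd => fixU_lt hd)
    (fun x hx y hy => fixU_add hx hy) hP
    (fun p hp => by
      obtain ⟨hp', hc⟩ := hPM p hp
      obtain ⟨e, h1, h2, h3⟩ := S.moved hr.mem hr.sq he.symm hp' (by rw [he]; exact hc)
      exact ⟨e, (fixU_iff h1).2 h2, h3⟩)
    (fun p hp v hv => by
      obtain ⟨hp', hc⟩ := hPM p hp
      obtain ⟨e, h1, h2, h3⟩ := S.fix_moved hr.mem he.symm hp' (by rw [he]; exact hc) (fixU_lt hv)
        ((fixU_iff (fixU_lt hv)).1 hv)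
      exact ⟨e, (fixU_iff h1).2 h2, h3⟩)
  set x := r * S.el d with hxe
  have hd' := fixU_lt hd
  have hxM : x ∈ M := mul_mem hr.mem (S.le (S.el_mem _))
  have hxi : S.im hxM = permW uW := (S.im_mul_el hr.mem d hxM).trans he
  have x2 : x * x = 1 := (S.sq_iff hr.mem hr.sq he.symm hd').2 ((fixU_iff hd').1 hd)
  have hax : Commute a x := hcm a (hPe ▸ mem_sup_left (mem_zpowers a))
  have hbx : Commute b x := hcm b (hPe ▸ mem_sup_right (mem_zpowers b))
  have hmap : ∀ {p q : H} (hp : p ∈ M) (hq : q ∈ M) {u w : List ℕ}, S.im hp = permW u → S.im hq = permW w →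
      S.im (M.mul_mem hp hq) = permW (u ++ w) := fun {p q} hp hq {u w} h1 h2 => by
    rw [S.im_mul hp hq, h1, h2, permW_append]
  have hlift : ∀ w ∈ pWords, ∃ p, ∃ hp : p ∈ M, S.im hp = permW w ∧ p * x = x * p := by
    intro w hw
    simp only [pWords, List.mem_cons, List.not_mem_nil, or_false] at hw
    rcases hw with rfl | rfl | rfl | rfl | rfl | rfl | rfl | rfl | rfl
    · exact ⟨1, M.one_mem, map_one S.π, by simp⟩
    · exact ⟨a, ha, ea, hax.eq⟩
    · exact ⟨a * a, _, hmap ha ha ea ea, (hax.mul_left hax).eq⟩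
    · exact ⟨b, hbM, eb, hbx.eq⟩
    · exact ⟨a * b, _, hmap ha hbM ea eb, (hax.mul_left hbx).eq⟩
    · exact ⟨a * (a * b), _, hmap ha (M.mul_mem ha hbM) ea (hmap ha hbM ea eb),
        (hax.mul_left (hax.mul_left hbx)).eq⟩
    · exact ⟨b * b, _, hmap hbM hbM eb eb, (hbx.mul_left hbx).eq⟩
    · exact ⟨a * (b * b), _, hmap ha (M.mul_mem hbM hbM) ea (hmap hbM hbM eb eb),
        (hax.mul_left (hbx.mul_left hbx)).eq⟩
    · exact ⟨a * (a * (b * b)), _, hmap ha (M.mul_mem ha (M.mul_mem hbM hbM)) ea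
        (hmap ha (M.mul_mem hbM hbM) ea (hmap hbM hbM eb eb)),
        (hax.mul_left (hax.mul_left (hbx.mul_left hbx))).eq⟩
  have ha3 : a ^ 3 = 1 := oa ▸ pow_orderOf_eq_one a
  have hb3 : b ^ 3 = 1 := ob ▸ pow_orderOf_eq_one b
  have hl3 : ∀ w ∈ pFour, ∃ p, ∃ hp : p ∈ M, S.im hp = permW w ∧ p * x = x * p ∧ orderOf p = 3 := by
    intro w hw
    have hne := ord3_spec (Bool.and_eq_true _ _ |>.mp (List.all_eq_true.1 hfour w hw)).1
    simp only [pFour, List.mem_cons, List.not_mem_nil, or_false] at hw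
    have horder : ∀ p (hp : p ∈ M), S.im hp = permW w → p ^ 3 = 1 → orderOf p = 3 := fun p hp e h =>
      orderOf_eq_prime h fun e1 => hne.2 (e ▸ (S.mem_A_iff hp).1 (e1 ▸ A.one_mem))
    rcases hw with rfl | rfl | rfl | rfl
    · exact ⟨a, ha, ea, hax.eq, oa⟩
    · exact ⟨b, hbM, eb, hbx.eq, ob⟩
    · exact ⟨a * b, _, hmap ha hbM ea eb, (hax.mul_left hbx).eq,
        horder _ _ (hmap ha hbM ea eb) (by rw [hab'.mul_pow, ha3, hb3, one_mul])⟩
    · exact ⟨a * (b * b), _, hmap ha (M.mul_mem hbM hbM) ea (hmap hbM hbM eb eb),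
        (hax.mul_left (hbx.mul_left hbx)).eq, horder _ _ (hmap ha (M.mul_mem hbM hbM) ea (hmap hbM hbM eb eb))
          (by rw [(hab'.mul_right hab').mul_pow, (Commute.refl b).mul_pow, ha3, hb3, one_mul, one_mul])⟩
  have hrx : r = x * S.el d := by rw [hxe, mul_assoc, S.sq (S.el_mem d), mul_one]
  have hdbad : d ∈ badC := S.bad_mem hxM x2 hxi hl3 hd (hrx ▸ hr)
  -- every listed translate is a conjugate
  have hto : ∀ c ∈ badC, ∀ e ∈ badC, ∀ w ∈ pWords, c ^^^ av w e ∈ comU →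
      (Bad A M (x * S.el c) ↔ Bad A M (x * S.el e)) := by
    intro c hc e he' w hw hcom
    obtain ⟨p, hp, ep, hpx⟩ := hlift w hw
    obtain ⟨-, v, hv, ev⟩ := com_pre hcom
    have hc' := fixU_lt (badC_fix hc)
    have he2 := fixU_lt (badC_fix he')
    have key : S.el v * (p * (x * S.el e) * p⁻¹) * (S.el v)⁻¹ = x * S.el c := by
      rw [show p * (x * S.el e) * p⁻¹ = p * x * p⁻¹ * (p * S.el e * p⁻¹) by group, hpx, mul_inv_cancel_right,
        S.conj_el hp ep.symm he2, show S.el v * (x * S.el (av w e)) * (S.el v)⁻¹ =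
          S.el v * x * (S.el v)⁻¹ * (S.el v * S.el (av w e) * (S.el v)⁻¹) by group,
        S.conj_by_el hxM x2 hxi.symm hv, S.comm (S.el_mem v) (S.el_mem (av w e)), mul_inv_cancel_right, ev,
        mul_assoc, ← S.el_xor (fixU_lt (com_fix hcom)) (av_lt w e), Nat.xor_assoc, Nat.xor_self, Nat.xor_zero]
    refine ⟨fun h => ?_, fun h => ?_⟩
    · have := S.bad_conj (S.bad_conj h (inv_mem (S.le (S.el_mem v)))) (inv_mem hp)
      convert this using 1
      rw [← key]
      group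
    · exact key ▸ S.bad_conj (S.bad_conj h hp) (S.le (S.el_mem v))
  have hall : ∀ c ∈ badC, Bad A M (x * S.el c) ↔ Bad A M (x * S.el c6) := fun c hc => by
    obtain ⟨w, hw, h⟩ := List.any_eq_true.1 (List.all_eq_true.1 bad_trans.1 c hc)
    exact hto c hc c6 c6_bad w hw (memN_iff.1 h)
  exact ⟨x, ⟨hxM, x2, hxi, hlift, hl3, fun c hc => (hall c hc).2 ((hall d hdbad).1 (hrx ▸ hr))⟩, d, hdbad, hrx⟩

theorem Spin.Base.only {x : H} (hx : Base S x) {c : ℕ} (hc : c ∈ fixU) (hb : Bad A M (x * S.el c)) :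
    c ∈ badC := S.bad_mem hx.mem hx.sq hx.im hx.lift3 hc hb

/-- **Every bad involution is conjugate to a listed translate of a base point.** -/
theorem Spin.bad_normal {r : H} (hr : Bad A M r) :
    ∃ m ∈ M, ∃ x, Base S x ∧ m * r * m⁻¹ = x * S.el c6 := by
  obtain ⟨k, hk, w, e⟩ := exists_class (show S.im hr.mem ∈ Sp63 from S.range ▸ ⟨_, rfl⟩)
    (by rw [← S.im_mul hr.mem hr.mem]; exact (S.im_congr hr.sq _ M.one_mem).trans (map_one S.π))
    fun h => hr.not_mem ((S.mem_A_iff hr.mem).2 h)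
  obtain ⟨m, hm, em⟩ := S.exists_lift w.reverse
  have hb := S.bad_conj hr hm
  have hi : S.im hb.mem = permW (rep k) := by
    rw [S.im_conj hm hr.mem hb.mem, em, e, permW_reverse]; group
  have hk3 : k = 3 := by
    rcases Nat.lt_or_ge k 3 with h | h
    · exact absurd hi (S.not_flat hb h)
    · omega
  subst hk3
  obtain ⟨x, hx, c, hc, hcx⟩ := S.exists_base hb hi
  obtain ⟨v, hv, h⟩ := List.any_eq_true.1 (List.all_eq_true.1 bad_trans.1 c hc)
  have hcom : c ^^^ av v c6 ∈ comU := memN_iff.1 h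
  obtain ⟨-, z, hz, ez⟩ := com_pre hcom
  obtain ⟨p, hp, ep, hpx⟩ := hx.lift v hv
  refine ⟨p⁻¹ * (S.el z)⁻¹ * m, mul_mem (mul_mem (inv_mem hp) (inv_mem (S.le (S.el_mem z)))) hm, x, hx, ?_⟩
  have hc2 := fixU_lt (badC_fix hc)
  have key : S.el z * (p * (x * S.el c6) * p⁻¹) * (S.el z)⁻¹ = x * S.el c := by
    rw [show p * (x * S.el c6) * p⁻¹ = p * x * p⁻¹ * (p * S.el c6 * p⁻¹) by group, hpx, mul_inv_cancel_right,
      S.conj_el hp ep.symm (fixU_lt (badC_fix c6_bad)), show S.el z * (x * S.el (av v c6)) * (S.el z)⁻¹ =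
        S.el z * x * (S.el z)⁻¹ * (S.el z * S.el (av v c6) * (S.el z)⁻¹) by group,
      S.conj_by_el hx.mem hx.sq hx.im.symm hz, S.comm (S.el_mem z) (S.el_mem (av v c6)), mul_inv_cancel_right, ez,
      mul_assoc, ← S.el_xor (fixU_lt (com_fix hcom)) (av_lt v c6), Nat.xor_assoc, Nat.xor_self, Nat.xor_zero]
  calc p⁻¹ * (S.el z)⁻¹ * m * r * (p⁻¹ * (S.el z)⁻¹ * m)⁻¹
      = p⁻¹ * (S.el z)⁻¹ * (m * r * m⁻¹) * S.el z * p := by group
    _ = x * S.el c6 := by rw [hcx, ← key]; group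

end Cfsg.Agent.Co2Three.Close
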