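import Cfsg.Agent.Lib.Co2Recog.Base
import Cfsg.Agent.Lib.Co2Recog.SearchSpec
import Cfsg.Agent.Lib.Co2Three.Close.Engine

/-!
The abstract setting of the closing step: an abelian group `A` of order 256 whose normaliser `M` induces the
symplectic group in six dimensions on it as on the spin module, and `M` contains the normalisers of its subgroups
of order three.
-/

set_option autoImplicit false
set_option maxRecDepth 100000
set_option linter.style.haveILetI false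
set_option linter.unusedSectionVars false

namespace Cfsg.Agent.Co2Three.Close

open Equiv Subgroup
open Cfsg.Agent.Co2Recog (Sp63 permW eW eId eMul key permW_append permW_mem exists_word)
open Cfsg.Agent.Co2Recog (sameK)
open Cfsg.Agent.Co2Recog.Two (sameK_id ap_eW_lt)
open Cfsg.Agent.ThRec.Eight (ap ap_xor ap_zero)

/-- A word on the spin module. -/
abbrev av (w : List ℕ) (v : ℕ) : ℕ := ap (eW w).2 v

/-- A word of order three, by code. -/
def ord3 (w : List ℕ) : Bool := sameK (eW (w ++ (w ++ w))) eId && !(sameK (eW w) eId)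

/-- Two commuting words, by code. -/
def comW (u w : List ℕ) : Bool := sameK (eW (u ++ w)) (eW (w ++ u))

theorem av_lt (w : List ℕ) (v : ℕ) : av w v < 256 := ap_eW_lt w v

theorem ord3_spec {w : List ℕ} (h : ord3 w = true) : permW w ^ 3 = 1 ∧ permW w ≠ 1 := by
  rw [ord3, Bool.and_eq_true, Bool.not_eq_true'] at h
  refine ⟨?_, fun e => ?_⟩
  · have := sameK_id.1 h.1
    rwa [permW_append, permW_append, ← mul_assoc, ← pow_two, ← pow_succ] at this
  · rw [sameK_id.2 e] at h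
    exact absurd h.2 (by simp)

theorem comW_spec {u w : List ℕ} (h : comW u w = true) : permW u * permW w = permW w * permW u := by
  rw [← permW_append, ← permW_append]
  exact Co2Recog.Two.sameK_iff.1 h

variable {H : Type*} [Group H]

/-- **The setting.** -/
structure Spin (A M : Subgroup H) where
  le : A ≤ M
  norm : normalizer (A : Set H) = M
  self : ∀ x : H, (∀ a ∈ A, x * a = a * x) → x ∈ A
  /-- the action on the 63 vectors -/
  π : ↥M →* Perm (Fin 63)
  range : π.range = Sp63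
  ker : ∀ x : ↥M, π x = 1 ↔ (x : H) ∈ A
  /-- the coordinates -/
  c : H → ℕ
  c_lt : ∀ a ∈ A, c a < 256
  c_mul : ∀ a ∈ A, ∀ b ∈ A, c (a * b) = c a ^^^ c b
  c_inj : ∀ a ∈ A, c a = 0 → a = 1
  c_surj : ∀ v < 256, ∃ a ∈ A, c a = v
  act : ∀ (x : ↥M) (w : List ℕ), permW w = π x → ∀ a ∈ A, c ((x : H) * a * (x : H)⁻¹) = av w (c a)
  three : ∀ x ∈ M, orderOf x = 3 → ∀ g : H, g * x * g⁻¹ ∈ zpowers x → g ∈ M

variable {A M : Subgroup H}

/-- The element of `A` with given coordinates. -/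
noncomputable def Spin.el (S : Spin A M) (v : ℕ) : H :=
  if h : v < 256 then (S.c_surj v h).choose else 1

/-- The image of an element of `M`. -/
abbrev Spin.im (S : Spin A M) {x : H} (hx : x ∈ M) : Perm (Fin 63) := S.π ⟨x, hx⟩

variable (S : Spin A M)
include S

theorem Spin.c_one : S.c 1 = 0 := by
  have h := S.c_mul 1 A.one_mem 1 A.one_mem
  rw [one_mul, Nat.xor_self] at h
  exact h

theorem Spin.el_mem (v : ℕ) : S.el v ∈ A := by
  rw [Spin.el]
  split_ifs with h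
  · exact (S.c_surj v h).choose_spec.1
  · exact A.one_mem

theorem Spin.c_el {v : ℕ} (h : v < 256) : S.c (S.el v) = v := by
  rw [Spin.el, dif_pos h]
  exact (S.c_surj v h).choose_spec.2

theorem Spin.sq {a : H} (ha : a ∈ A) : a * a = 1 :=
  S.c_inj _ (A.mul_mem ha ha) (by rw [S.c_mul a ha a ha, Nat.xor_self])

theorem Spin.inv_eq {a : H} (ha : a ∈ A) : a⁻¹ = a := inv_eq_of_mul_eq_one_right (S.sq ha)

theorem Spin.comm {a b : H} (ha : a ∈ A) (hb : b ∈ A) : a * b = b * a := by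
  rw [← S.inv_eq (A.mul_mem ha hb), mul_inv_rev, S.inv_eq ha, S.inv_eq hb]

theorem Spin.c_eq {a b : H} (ha : a ∈ A) (hb : b ∈ A) (h : S.c a = S.c b) : a = b := by
  have e := S.c_inj _ (A.mul_mem ha hb) (by rw [S.c_mul a ha b hb, h, Nat.xor_self])
  rw [mul_eq_one_iff_eq_inv, S.inv_eq hb] at e
  exact e

theorem Spin.el_c {a : H} (ha : a ∈ A) : S.el (S.c a) = a :=
  S.c_eq (S.el_mem _) ha (S.c_el (S.c_lt a ha))

theorem Spin.el_xor {u v : ℕ} (hu : u < 256) (hv : v < 256) : S.el (u ^^^ v) = S.el u * S.el v := by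
  refine S.c_eq (S.el_mem _) (A.mul_mem (S.el_mem _) (S.el_mem _)) ?_
  rw [S.c_mul _ (S.el_mem _) _ (S.el_mem _), S.c_el hu, S.c_el hv, S.c_el (ThRec.Eight.xor_lt hu hv)]

theorem Spin.el_zero : S.el 0 = 1 :=
  S.c_eq (S.el_mem _) A.one_mem (by rw [S.c_el (by norm_num), S.c_one])

theorem Spin.mem_M {x : H} (h : x ∈ normalizer (A : Set H)) : x ∈ M := S.norm ▸ h

theorem Spin.mem_norm {x : H} (h : x ∈ M) : x ∈ normalizer (A : Set H) := by rw [S.norm]; exact h

theorem Spin.conj_mem {x a : H} (hx : x ∈ M) (ha : a ∈ A) : x * a * x⁻¹ ∈ A :=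
  (mem_normalizer_iff.1 (S.mem_norm hx) a).1 ha

theorem Spin.exists_word {x : H} (hx : x ∈ M) : ∃ w, permW w = S.im hx :=
  Co2Recog.exists_word (S.range ▸ ⟨⟨x, hx⟩, rfl⟩)

theorem Spin.exists_lift (w : List ℕ) : ∃ x, ∃ hx : x ∈ M, S.im hx = permW w := by
  obtain ⟨⟨x, hx⟩, h⟩ : permW w ∈ S.π.range := S.range ▸ permW_mem w
  exact ⟨x, hx, h⟩

theorem Spin.conj_el {x : H} (hx : x ∈ M) {w : List ℕ} (hw : permW w = S.im hx) {v : ℕ} (hv : v < 256) :
    x * S.el v * x⁻¹ = S.el (av w v) := by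
  refine S.c_eq (S.conj_mem hx (S.el_mem _)) (S.el_mem _) ?_
  rw [S.act ⟨x, hx⟩ w hw _ (S.el_mem _), S.c_el hv, S.c_el (av_lt _ _)]

theorem Spin.comm_el_iff {x : H} (hx : x ∈ M) {w : List ℕ} (hw : permW w = S.im hx) {v : ℕ} (hv : v < 256) :
    x * S.el v = S.el v * x ↔ av w v = v := by
  rw [← mul_inv_eq_iff_eq_mul, S.conj_el hx hw hv]
  exact ⟨fun h => by rw [← S.c_el (av_lt w v), h, S.c_el hv], fun h => by rw [h]⟩

theorem Spin.act_eq {u w : List ℕ} (h : permW u = permW w) {v : ℕ} (hv : v < 256) : av u v = av w v := by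
  obtain ⟨x, hx, e⟩ := S.exists_lift w
  rw [← S.c_el (av_lt u v), ← S.c_el (av_lt w v), ← S.conj_el hx (h.trans e.symm) hv,
    ← S.conj_el hx e.symm hv]

theorem Spin.im_mul {x y : H} (hx : x ∈ M) (hy : y ∈ M) :
    S.im (M.mul_mem hx hy) = S.im hx * S.im hy := by
  rw [Spin.im, Spin.im, Spin.im, ← map_mul]
  exact congrArg S.π (Subtype.ext rfl)

theorem Spin.im_inv {x : H} (hx : x ∈ M) : S.im (M.inv_mem hx) = (S.im hx)⁻¹ := by
  rw [Spin.im, Spin.im, ← map_inv]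
  exact congrArg S.π (Subtype.ext rfl)

theorem Spin.im_congr {x y : H} (e : x = y) (hx : x ∈ M) (hy : y ∈ M) : S.im hx = S.im hy := by subst e; rfl

theorem Spin.im_conj {x y : H} (hx : x ∈ M) (hy : y ∈ M) (h : x * y * x⁻¹ ∈ M) :
    S.im h = S.im hx * S.im hy * (S.im hx)⁻¹ := by
  rw [S.im_congr rfl h (M.mul_mem (M.mul_mem hx hy) (M.inv_mem hx)), S.im_mul (M.mul_mem hx hy) (M.inv_mem hx),
    S.im_mul hx hy, S.im_inv hx]

theorem Spin.im_pow {x : H} (hx : x ∈ M) (n : ℕ) : S.im (M.pow_mem hx n) = S.im hx ^ n := by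
  rw [Spin.im, Spin.im, ← map_pow]
  exact congrArg S.π (Subtype.ext rfl)

theorem Spin.mem_A_iff {x : H} (hx : x ∈ M) : x ∈ A ↔ S.im hx = 1 := (S.ker ⟨x, hx⟩).symm

/-- A word of order three lifts to an element of order three. -/
theorem Spin.exists_three {w : List ℕ} (h : ord3 w = true) :
    ∃ y, ∃ hy : y ∈ M, S.im hy = permW w ∧ orderOf y = 3 := by
  obtain ⟨h3, h1⟩ := ord3_spec h
  obtain ⟨x, hx, e⟩ := S.exists_lift w
  have hA : x ^ 3 ∈ A := (S.mem_A_iff (M.pow_mem hx 3)).2 (by rw [S.im_pow hx, e, h3])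
  have e4 : S.im (M.pow_mem hx 4) = permW w := by rw [S.im_pow hx, e, pow_succ, h3, one_mul]
  refine ⟨x ^ 4, M.pow_mem hx 4, e4, ?_⟩
  haveI : Fact (Nat.Prime 3) := ⟨Nat.prime_three⟩
  refine orderOf_eq_prime ?_ fun e' => h1 ?_
  · have := S.sq hA
    rw [← pow_mul, show 4 * 3 = (3 + 3) * 2 from rfl, pow_mul, pow_add, this, one_pow]
  · rw [← e4]
    exact (S.mem_A_iff (M.pow_mem hx 4)).1 (e' ▸ A.one_mem)

omit S in
/-- A three-group acting by conjugation on a set of order prime to three fixes an element. -/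
theorem exists_centralised [Finite H] {P : Subgroup H} (hP : IsPGroup 3 ↥P) (Ω : Set H)
    (hinv : ∀ p ∈ P, ∀ x ∈ Ω, p * x * p⁻¹ ∈ Ω) (h3 : ¬ 3 ∣ Nat.card Ω) :
    ∃ x ∈ Ω, ∀ p ∈ P, p * x = x * p := by
  haveI : Fact (Nat.Prime 3) := ⟨Nat.prime_three⟩
  letI : MulAction ↥P ↥Ω :=
    { smul := fun p x => ⟨p.1 * x.1 * p.1⁻¹, hinv _ p.2 _ x.2⟩
      one_smul := fun x => Subtype.ext (by change (1 : H) * x.1 * (1 : H)⁻¹ = x.1; group)
      mul_smul := fun p q x => Subtype.ext (by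
        change (p.1 * q.1) * x.1 * (p.1 * q.1)⁻¹ = p.1 * (q.1 * x.1 * q.1⁻¹) * p.1⁻¹; group) }
  obtain ⟨x, hx⟩ := hP.nonempty_fixed_point_of_prime_not_dvd_card ↥Ω h3
  exact ⟨x, x.2, fun p hp => mul_inv_eq_iff_eq_mul.1 (congrArg Subtype.val (hx ⟨p, hp⟩))⟩

end Cfsg.Agent.Co2Three.Close
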