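import Cfsg.Agent.Lib.Co2Three.Close.Invol

/-!
`A` is strongly closed in its normaliser: an elementary group of bad involutions has at most eight images, so no
conjugate of `A` other than `A` lies in the normaliser, and then no bad involution is conjugate into `A`.
-/

set_option autoImplicit false
set_option maxRecDepth 100000
set_option linter.style.haveILetI false
set_option linter.unusedSectionVars false

namespace Cfsg.Agent.Co2Three.Close

open Equiv Subgroup
open Cfsg.Agent.Co2Recog (Sp63 Syl Syl_le mem_Syl sylW sylGens double exists_conj_Syl card_Syl sylI permW eW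
  permW_append permW_mem permW_reverse memN)
open Cfsg.Agent.Co2Recog.Two (sameK_iff memN_iff mem_sylI InL gsearch_spec)

/-- A property of the generators closed under products holds for the listed words. -/
theorem double_prop (P : List ℕ → Prop) (happ : ∀ u w, P u → P w → P (u ++ w)) :
    ∀ gs L, (∀ g ∈ gs, P g) → (∀ w ∈ L, P w) → ∀ w ∈ double gs L, P w
  | [], _, _, hL => hL
  | g :: gs, L, hg, hL => double_prop P happ gs _ (fun a ha => hg a (List.mem_cons_of_mem _ ha)) fun w hw => by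
      rcases List.mem_append.1 hw with hw | hw
      · exact hL w hw
      · obtain ⟨v, hv, rfl⟩ := List.mem_map.1 hw
        exact happ g v (hg g List.mem_cons_self) (hL v hv)

variable {H : Type*} [Group H] [Finite H] {A M : Subgroup H} (S : Spin A M)
include S

/-- A group of bad involutions over the elements of `A` has at most eight images. -/
theorem Spin.card_le_eight {D : Subgroup H} (hD : ∀ d ∈ D, d ∈ A ∨ Bad A M d) :
    Nat.card D ≤ 8 * Nat.card ↥(D ⊓ A) := by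
  classical
  have hDM : D ≤ M := fun d hd => (hD d hd).elim (fun h => S.le h) Bad.mem
  have hD2 : ∀ d ∈ D, d * d = 1 := fun d hd => (hD d hd).elim S.sq Bad.sq
  let ψ : ↥D →* Perm (Fin 63) := S.π.comp (Subgroup.inclusion hDM)
  have hle : ψ.range ≤ Sp63 := by rintro _ ⟨d, rfl⟩; exact S.range ▸ ⟨_, rfl⟩
  have h2 : IsPGroup 2 ↥ψ.range := fun p => ⟨1, Subtype.ext (by
    obtain ⟨d, hd⟩ := p.2
    rw [SubmonoidClass.coe_pow, pow_one, pow_two, ← hd, ← map_mul, show d * d = 1 from Subtype.ext (hD2 d d.2),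
      map_one]
    rfl)⟩
  obtain ⟨m, hm, hc⟩ := exists_conj_Syl Syl_le le_rfl hle h2
  set E := ψ.range.map (MulAut.conj m).toMonoidHom with hE
  have hEsq : ∀ e ∈ E, e * e = 1 := by
    rintro _ ⟨_, ⟨d, rfl⟩, rfl⟩
    rw [← map_mul, ← map_mul, show d * d = 1 from Subtype.ext (hD2 d d.2), map_one, map_one]
  have hcov : ∀ e ∈ E, InL [[]] e ∨ InL purC e := by
    rintro _ ⟨_, ⟨d, rfl⟩, rfl⟩
    rcases hD d d.2 with hA | hb
    · refine Or.inl ⟨[], List.mem_cons_self, ?_⟩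
      rw [show ψ d = 1 from (S.mem_A_iff (hDM d.2)).1 hA, map_one]
      rfl
    · obtain ⟨v, hv, e⟩ := hc (ψ d) ⟨d, rfl⟩
      obtain ⟨⟨k, g⟩, hmem, hs, hk⟩ := covL_spec syl_cov _ (mem_sylI hv (by
        rw [e, conj_mul, ← map_mul, show d * d = 1 from Subtype.ext (hD2 d d.2), map_one, mul_one,
          mul_inv_cancel]))
      have e' := sameK_iff.1 hs
      refine Or.inr ⟨certW (k, g), List.mem_map_of_mem (List.mem_filter.2 ⟨hmem, ?_⟩), by
        rw [← e', e]; rfl⟩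
      have hk3 : k = 3 := by
        obtain ⟨u, hu⟩ := Co2Recog.exists_word hm
        obtain ⟨x, hx, ex⟩ := S.exists_lift (g.reverse ++ u)
        have hb' := S.bad_conj hb hx
        have hi : S.im hb'.mem = permW (rep k) := by
          rw [S.im_conj hx hb.mem hb'.mem, ex, permW_append, permW_reverse, hu]
          rw [e, certW, permW_append, permW_append, permW_reverse] at e'
          dsimp only at e'
          change (permW g)⁻¹ * m * ψ d * ((permW g)⁻¹ * m)⁻¹ = _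
          rw [mul_inv_rev, inv_inv, show (permW g)⁻¹ * m * ψ d * (m⁻¹ * permW g) =
            (permW g)⁻¹ * (m * ψ d * m⁻¹) * permW g by group, e']
          group
        rcases Nat.lt_or_ge k 3 with h | h
        · exact absurd hi (S.not_flat hb' h)
        · rcases Nat.lt_or_ge k 4 with h' | h'
          · omega
          · have : k = 4 := le_antisymm hk h'
            subst this
            rw [rep_four] at hi
            exact absurd ((S.mem_A_iff hb'.mem).2 (hi.trans rfl)) hb'.not_mem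
      subst hk3
      exact Nat.beq_refl 3
  have h16 := gsearch_spec E hEsq 16 5 [[]] purC pure_small
    (fun w hw => by rw [List.mem_singleton.1 hw]; exact E.one_mem) ⟨[], List.mem_cons_self, rfl⟩
    (fun a b ⟨u, hu, ea⟩ ⟨v, hv, eb⟩ => ⟨[], List.mem_cons_self, by
      rw [List.mem_singleton.1 hu] at ea
      rw [List.mem_singleton.1 hv] at eb
      rw [← ea, ← eb]; exact (mul_one _).symm⟩) hcov
  rw [hE, ← Nat.card_congr (Subgroup.equivMapOfInjective ψ.range _ (MulAut.conj m).injective).toEquiv] at h16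
  haveI : Fact (Nat.Prime 2) := ⟨Nat.prime_two⟩
  obtain ⟨n, hn⟩ := h2.exists_card_eq
  have h8 : Nat.card ψ.range ≤ 8 := by
    rw [hn] at h16 ⊢
    have : n < 4 := (Nat.pow_lt_pow_iff_right (by norm_num)).1 (show 2 ^ n < 2 ^ 4 from h16)
    exact le_trans (Nat.pow_le_pow_right two_pos (by omega : n ≤ 3)) (by norm_num)
  have hker : Nat.card ψ.ker ≤ Nat.card ↥(D ⊓ A) := Nat.card_le_card_of_injective
    (fun d : ↥ψ.ker => (⟨d.1.1, d.1.2, (S.mem_A_iff (hDM d.1.2)).2 d.2⟩ : ↥(D ⊓ A)))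
    fun a b h => Subtype.ext (Subtype.ext (congrArg (fun q : ↥(D ⊓ A) => (q : H)) h))
  rw [← ψ.ker.card_mul_index, Subgroup.index_ker]
  exact le_trans (Nat.mul_le_mul hker h8) (le_of_eq (mul_comm _ _))

theorem Spin.z_facts {x : H} (hx : Base S x) : ∃ hz : x * S.el c6 ∈ M, S.im hz = permW uW ∧
    (x * S.el c6) * (x * S.el c6) = 1 := by
  refine ⟨mul_mem hx.mem (S.le (S.el_mem _)), ?_, ?_⟩
  · rw [S.im_mul_el hx.mem c6, hx.im]
  · exact (S.sq_iff hx.mem hx.sq hx.im.symm (by decide)).2 ((fixU_iff (by decide)).1 (badC_fix c6_bad))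

/-- What an element of `A` in such a group beside the base translate looks like. -/
theorem Spin.meet_mem {D : Subgroup H} (hD : ∀ d ∈ D, d ∈ A ∨ Bad A M d) (hc : ∀ a ∈ D, ∀ b ∈ D, a * b = b * a)
    {x : H} (hx : Base S x) (hz : x * S.el c6 ∈ D) {d : ℕ} (hd : d < 256) (h : S.el d ∈ D) :
    d ∈ fixU ∧ c6 ^^^ d ∈ badC := by
  obtain ⟨hzM, hzi, hz2⟩ := S.z_facts hx
  have hfix : d ∈ fixU := (fixU_iff hd).2 ((S.comm_el_iff hzM hzi.symm hd).1 (hc _ hz _ h))
  have hcd : c6 ^^^ d < 256 := ThRec.Eight.xor_lt (by decide) hd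
  refine ⟨hfix, S.bad_mem hx.mem hx.sq hx.im hx.lift3 (fixU_add (badC_fix c6_bad) hfix) ?_⟩
  have e : x * S.el (c6 ^^^ d) = x * S.el c6 * S.el d := by rw [S.el_xor (by decide) hd, mul_assoc]
  rcases hD _ (D.mul_mem hz h) with hA | hb
  · exfalso
    have hxA : x ∈ A := by
      have := A.mul_mem hA (A.inv_mem (A.mul_mem (S.el_mem c6) (S.el_mem d)))
      rwa [show x * S.el c6 * S.el d * (S.el c6 * S.el d)⁻¹ = x by group] at this
    refine (hx.bad c6 c6_bad).not_mem (A.mul_mem hxA (S.el_mem _))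
  · rwa [e]

/-- Such a group with the base translate has order below 256. -/
theorem Spin.card_lt {D : Subgroup H} (hD : ∀ d ∈ D, d ∈ A ∨ Bad A M d) (hc : ∀ a ∈ D, ∀ b ∈ D, a * b = b * a)
    {x : H} (hx : Base S x) (hz : x * S.el c6 ∈ D) : Nat.card D < 256 := by
  classical
  obtain ⟨hzM, hzi, hz2⟩ := S.z_facts hx
  set F := A ⊓ centralizer ({x * S.el c6} : Set H) with hF
  have hFmem : ∀ {d}, d < 256 → (S.el d ∈ F ↔ d ∈ fixU) := fun {d} hd => by
    rw [hF, mem_inf, mem_centralizer_singleton_iff, fixU_iff hd, ← S.comm_el_iff hzM hzi.symm hd]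
    exact ⟨fun h => h.2.symm, fun h => ⟨S.el_mem d, h.symm⟩⟩
  have hFcard : Nat.card F = 64 := by
    rw [← Nat.eq_of_beq_eq_true u_facts.2.2.2.2.1,
      ← List.toFinset_card_of_nodup (nodupB_spec u_facts.2.2.2.2.2.1), ← Nat.card_eq_finsetCard]
    exact Nat.card_congr
      { toFun := fun a => ⟨S.c a, List.mem_toFinset.2 ((hFmem (S.c_lt _ a.2.1)).1 (by
          rw [S.el_c a.2.1]; exact a.2))⟩
        invFun := fun v => ⟨S.el v, (hFmem (fixU_lt (List.mem_toFinset.1 v.2))).2 (List.mem_toFinset.1 v.2)⟩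
        left_inv := fun a => Subtype.ext (S.el_c a.2.1)
        right_inv := fun v => Subtype.ext (S.c_el (fixU_lt (List.mem_toFinset.1 v.2))) }
  have hsub : D ⊓ A ≤ F := fun a ha =>
    mem_inf.2 ⟨ha.2, mem_centralizer_singleton_iff.2 (hc _ ha.1 _ hz)⟩
  by_contra hbig
  push Not at hbig
  have h32 : 32 ≤ Nat.card ↥(D ⊓ A) := by have := S.card_le_eight hD; omega
  have hidx : ((D ⊓ A).subgroupOf F).index ≤ 2 := by
    have h1 := ((D ⊓ A).subgroupOf F).card_mul_index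
    rw [Nat.card_congr (Subgroup.subgroupOfEquivOfLe hsub).toEquiv, hFcard] at h1
    nlinarith
  have hb := bad_pair
  simp only [Bool.and_eq_true, Bool.not_eq_true'] at hb
  obtain ⟨⟨⟨⟨f2, f100⟩, b2⟩, b100⟩, b102⟩ := hb
  have key : ∀ d, d ∈ fixU → memN badC (c6 ^^^ d) = false → S.el d ∉ D := fun d hd hb h => by
    have := (S.meet_mem hD hc hx hz (fixU_lt hd) h).2
    rw [memN_iff.2 this] at hb
    exact Bool.noConfusion hb
  have n2 := key 2 (memN_iff.1 f2) b2
  have n100 := key 100 (memN_iff.1 f100) b100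
  set e2 : ↥F := ⟨S.el 2, (hFmem (by norm_num)).2 (memN_iff.1 f2)⟩
  set e100 : ↥F := ⟨S.el 100, (hFmem (by norm_num)).2 (memN_iff.1 f100)⟩
  have h2 : e2 ∉ (D ⊓ A).subgroupOf F := fun h => n2 (mem_subgroupOf.1 h).1
  have hprod : e2 * e100 ∈ (D ⊓ A).subgroupOf F := by
    have hi2 : ((D ⊓ A).subgroupOf F).index = 2 := by
      refine le_antisymm hidx ?_
      by_contra h
      have h0 : ((D ⊓ A).subgroupOf F).index ≠ 0 := Subgroup.index_ne_zero_of_finite
      exact h2 (Subgroup.index_eq_one.1 (show ((D ⊓ A).subgroupOf F).index = 1 by omega) ▸ mem_top _)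
    rw [Subgroup.mul_mem_iff_of_index_two hi2]
    exact ⟨fun h => absurd h h2, fun h => absurd (mem_subgroupOf.1 h).1 n100⟩
  refine key (2 ^^^ 100) (fixU_add (memN_iff.1 f2) (memN_iff.1 f100)) b102 ?_
  rw [S.el_xor (by norm_num) (by norm_num)]
  exact (mem_subgroupOf.1 hprod).1

/-- **No other conjugate of `A` lies in the normaliser.** -/
theorem Spin.weak {g : H} (hg : ∀ a ∈ A, g * a * g⁻¹ ∈ M) : g ∈ M := by
  have key : ∀ h : H, (∀ a ∈ A, h * a * h⁻¹ ∈ A) → h ∈ M := fun h hh => by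
    refine S.mem_M ?_
    have hbij : Function.Bijective fun a : ↥A => (⟨h * a.1 * h⁻¹, hh a.1 a.2⟩ : ↥A) :=
      Finite.injective_iff_bijective.1 fun a b e => Subtype.ext (by simpa using congrArg Subtype.val e)
    refine mem_normalizer_iff.2 fun y => ⟨hh y, fun hy => ?_⟩
    obtain ⟨b, hb⟩ := hbij.2 ⟨_, hy⟩
    have hb' : h * b.1 * h⁻¹ = h * y * h⁻¹ := congrArg Subtype.val hb
    rw [← mul_left_cancel (mul_right_cancel hb')]
    exact b.2
  by_cases hall : ∀ a ∈ A, g * a * g⁻¹ ∈ A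
  · exact key g hall
  push Not at hall
  obtain ⟨a, ha, hna⟩ := hall
  exfalso
  obtain ⟨m, hm, x, hx, e⟩ := S.bad_normal (S.bad_of_fused (hg a ha) hna ha rfl)
  set D := A.map (MulAut.conj (m * g)).toMonoidHom with hDdef
  have hDM : ∀ b ∈ A, (m * g) * b * (m * g)⁻¹ ∈ M := fun b hb => by
    rw [show m * g * b * (m * g)⁻¹ = m * (g * b * g⁻¹) * m⁻¹ by group]
    exact mul_mem (mul_mem hm (hg b hb)) (inv_mem hm)
  have hD : ∀ d ∈ D, d ∈ A ∨ Bad A M d := by
    rintro _ ⟨b, hb, rfl⟩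
    by_cases hbA : m * g * b * (m * g)⁻¹ ∈ A
    · exact Or.inl hbA
    · exact Or.inr (S.bad_of_fused (hDM b hb) hbA hb rfl)
  have hc : ∀ p ∈ D, ∀ q ∈ D, p * q = q * p := by
    rintro _ ⟨b, hb, rfl⟩ _ ⟨b', hb', rfl⟩
    rw [← map_mul, ← map_mul, S.comm hb hb']
  have hz : x * S.el c6 ∈ D := ⟨a, ha, by rw [← e]; simp [mul_assoc]⟩
  have := S.card_lt hD hc hx hz
  rw [hDdef, ← Nat.card_congr (Subgroup.equivMapOfInjective A _ (MulAut.conj (m * g)).injective).toEquiv,
    S.card_A] at this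
  exact lt_irrefl _ this

/-- A 2-group containing `A` lies in the normaliser. -/
theorem Spin.two_le {P : Subgroup H} (hP : IsPGroup 2 ↥P) (hA : A ≤ P) : P ≤ M := by
  haveI : Fact (Nat.Prime 2) := ⟨Nat.prime_two⟩
  haveI := hP.isNilpotent
  by_contra hne
  set N := M.subgroupOf P with hN
  have hN' : N ≠ ⊤ := fun e => hne fun x hx =>
    (mem_subgroupOf (K := P) (h := ⟨x, hx⟩)).1 (hN ▸ e ▸ mem_top _)
  obtain ⟨u, hu, huN⟩ := SetLike.exists_of_lt
    (normalizerCondition_of_isNilpotent N (lt_top_iff_ne_top.2 hN'))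
  refine huN (mem_subgroupOf.2 (S.weak fun a ha => ?_))
  exact mem_subgroupOf.1 ((mem_normalizer_iff.1 hu (⟨a, hA ha⟩ : ↥P)).1 (mem_subgroupOf.2 (S.le ha)))

/-- The 2-part of the order. -/
theorem Spin.card_two_le {P : Subgroup H} (hP : IsPGroup 2 ↥P) : Nat.card P ≤ 2 ^ 17 := by
  haveI : Fact (Nat.Prime 2) := ⟨Nat.prime_two⟩
  have hA : IsPGroup 2 ↥A := IsPGroup.of_card (n := 8) (by rw [S.card_A]; norm_num)
  obtain ⟨Q, hQ⟩ := hA.exists_le_sylow
  obtain ⟨P', hP'⟩ := hP.exists_le_sylow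
  refine le_trans (Nat.le_of_dvd Nat.card_pos (Subgroup.card_dvd_of_le hP')) ?_
  rw [show Nat.card (P' : Subgroup H) = Nat.card (Q : Subgroup H) from Nat.card_congr (P'.equiv Q).toEquiv]
  have hd : Nat.card (Q : Subgroup H) ∣ 256 * 1451520 := S.card_M ▸ Subgroup.card_dvd_of_le (S.two_le Q.2 hQ)
  obtain ⟨n, hn⟩ := Q.2.exists_card_eq
  rw [hn] at hd ⊢
  refine Nat.pow_le_pow_right two_pos ?_
  by_contra hlt
  have h18 : 2 ^ 18 ∣ 256 * 1451520 := dvd_trans (pow_dvd_pow 2 (by omega)) hd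
  norm_num at h18

/-- **`A` is strongly closed in its normaliser.** -/
theorem Spin.closed : Closed A := by
  refine ⟨fun a ha => S.sq ha, fun a ha g hg => by_contra fun hna => ?_⟩
  haveI : Fact (Nat.Prime 2) := ⟨Nat.prime_two⟩
  obtain ⟨m, hm, x, hx, e⟩ := S.bad_normal (S.bad_of_fused (S.mem_M hg) hna ha rfl)
  obtain ⟨hzM, hzi, hz2⟩ := S.z_facts hx
  set z := x * S.el c6 with hz
  -- the centraliser in the normaliser covers the Sylow subgroup
  set T := ((Syl.comap S.π).map M.subtype) ⊓ centralizer ({z} : Set H) with hT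
  have hTmem : ∀ n : H, n ∈ T ↔ (∃ hn : n ∈ M, S.im hn ∈ Syl) ∧ n * z = z * n := fun n => by
    rw [hT, mem_inf, mem_centralizer_singleton_iff, Subgroup.mem_map]
    exact and_congr_left' ⟨fun ⟨q, hq, e⟩ => e ▸ ⟨q.2, hq⟩, fun ⟨hn, h⟩ => ⟨⟨n, hn⟩, h, rfl⟩⟩
  have hgen : ∀ w ∈ sylGens, ∃ n ∈ T, ∃ hn : n ∈ M, S.im hn = permW w := by
    intro w hw
    have hwS : permW w ∈ Syl := by
      obtain ⟨u, hu, e⟩ := Co2Recog.closed_step hw (Co2Recog.nil_mem_double _ _ List.mem_cons_self)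
      exact ⟨u, hu, e.trans (mul_one _)⟩
    have hwu := comW_spec (List.all_eq_true.1 u_facts.1 w hw)
    obtain ⟨n, hn, en⟩ := S.exists_lift w
    obtain ⟨d, hd, hdf, hdm⟩ := S.moved hx.mem hx.sq hx.im.symm hn (by rw [en, hx.im]; exact hwu.symm)
    have hall : ∀ c ∈ badC, d ^^^ av w c ∈ badC := fun c hc => by
      have hb := S.bad_conj (hx.bad c hc) hn
      have hcf := fixU_lt (badC_fix hc)
      rw [show n * (x * S.el c) * n⁻¹ = n * x * n⁻¹ * (n * S.el c * n⁻¹) by group, hdm,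
        S.conj_el hn en.symm hcf, mul_assoc, ← S.el_xor hd (av_lt w c)] at hb
      refine S.bad_mem hx.mem hx.sq hx.im hx.lift3 (fixU_add ((fixU_iff hd).2 hdf) ?_) hb
      obtain ⟨e', h1, h2, h3⟩ := S.fix_moved hx.mem hx.im.symm hn (by rw [en, hx.im]; exact hwu.symm) hcf
        ((fixU_iff hcf).1 (badC_fix hc))
      rw [S.conj_el hn en.symm hcf] at h3
      rw [← S.c_el (av_lt w c), h3, S.c_el h1]
      exact (fixU_iff h1).2 h2
    have hr := List.all_eq_true.1 bad_rigid w hw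
    rw [Bool.and_eq_true] at hr
    have hdc : d ∈ comU := by
      have h := List.all_eq_true.1 hr.2 d ((fixU_iff hd).2 hdf)
      rcases Bool.or_eq_true _ _ |>.mp h with h | h
      · exact memN_iff.1 h
      · obtain ⟨c, hc, hb⟩ := List.any_eq_true.1 h
        rw [show Nat.xor d (av w c) = d ^^^ av w c from rfl, memN_iff.2 (hall c hc)] at hb
        exact Bool.noConfusion hb
    set f := c6 ^^^ (d ^^^ av w c6) with hf
    have hfc : f ∈ comU := by
      rw [hf, ← Nat.xor_assoc, Nat.xor_comm c6 d, Nat.xor_assoc]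
      exact com_add hdc (memN_iff.1 hr.1)
    obtain ⟨-, v, hv, ev⟩ := com_pre hfc
    have hmz : n * z * n⁻¹ = z * S.el f := by
      rw [hz, show n * (x * S.el c6) * n⁻¹ = n * x * n⁻¹ * (n * S.el c6 * n⁻¹) by group, hdm,
        S.conj_el hn en.symm (by decide), mul_assoc x (S.el c6) (S.el f),
        ← S.el_xor (by decide) (fixU_lt (com_fix hfc)), hf, ← Nat.xor_assoc c6 c6, Nat.xor_self, Nat.zero_xor,
        mul_assoc, S.el_xor hd (av_lt w c6)]
    have hvz : S.el v * z * (S.el v)⁻¹ = z * S.el f := by rw [S.conj_by_el hzM hz2 hzi.symm hv, ev]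
    refine ⟨(S.el v)⁻¹ * n, (hTmem _).2 ⟨⟨mul_mem (inv_mem (S.le (S.el_mem v))) hn, ?_⟩, ?_⟩,
      mul_mem (inv_mem (S.le (S.el_mem v))) hn, ?_⟩
    · rw [S.im_mul (inv_mem (S.le (S.el_mem v))) hn, (S.mem_A_iff _).1 (A.inv_mem (S.el_mem v)), one_mul, en]
      exact hwS
    · rw [← mul_inv_eq_iff_eq_mul, show (S.el v)⁻¹ * n * z * ((S.el v)⁻¹ * n)⁻¹ =
        (S.el v)⁻¹ * (n * z * n⁻¹) * S.el v by group, hmz, ← hvz]
      group
    · rw [S.im_mul (inv_mem (S.le (S.el_mem v))) hn, (S.mem_A_iff _).1 (A.inv_mem (S.el_mem v)), one_mul, en]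
  have hlift : ∀ w ∈ sylW, ∃ n ∈ T, ∃ hn : n ∈ M, S.im hn = permW w := by
    refine double_prop (fun w => ∃ n ∈ T, ∃ hn : n ∈ M, S.im hn = permW w) (fun u w hu hw => ?_) sylGens [[]]
      hgen fun w hw => ⟨1, T.one_mem, M.one_mem, by rw [List.mem_singleton.1 hw]; exact map_one S.π⟩
    obtain ⟨p, hp, hpM, ep⟩ := hu
    obtain ⟨q, hq, hqM, eq⟩ := hw
    exact ⟨p * q, T.mul_mem hp hq, M.mul_mem hpM hqM, by rw [S.im_mul hpM hqM, ep, eq, permW_append]⟩
  have hTM : T ≤ M := fun n hn => ((hTmem n).1 hn).1.1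
  have hTcard : 512 * 64 ≤ Nat.card T := by
    let ψ : ↥T →* Perm (Fin 63) := S.π.comp (Subgroup.inclusion hTM)
    have hr : Syl ≤ ψ.range := fun p hp => by
      obtain ⟨w, hw, rfl⟩ := mem_Syl.1 hp
      obtain ⟨n, hn, hnM, e⟩ := hlift w hw
      exact ⟨⟨n, hn⟩, e⟩
    have hinj : ∀ v : {v // v ∈ fixU}, ∃ h : S.el v ∈ T, (⟨S.el v, h⟩ : ↥T) ∈ ψ.ker := fun v => by
      refine ⟨(hTmem _).2 ⟨⟨S.le (S.el_mem _), ?_⟩, ?_⟩, (S.mem_A_iff _).1 (S.el_mem _)⟩
      · rw [(S.mem_A_iff _).1 (S.el_mem _)]; exact Syl.one_mem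
      · exact ((S.comm_el_iff hzM hzi.symm (fixU_lt v.2)).2 ((fixU_iff (fixU_lt v.2)).1 v.2)).symm
    have h64 : 64 ≤ Nat.card ψ.ker := by
      rw [← Nat.eq_of_beq_eq_true u_facts.2.2.2.2.1,
        ← List.toFinset_card_of_nodup (nodupB_spec u_facts.2.2.2.2.2.1), ← Nat.card_eq_finsetCard]
      refine Nat.card_le_card_of_injective
        (fun v => (⟨_, (hinj ⟨v.1, List.mem_toFinset.1 v.2⟩).2⟩ : ↥ψ.ker)) fun a b h => Subtype.ext ?_
      have h' : S.el a.1 = S.el b.1 := congrArg (fun q : ↥ψ.ker => ((q : ↥T) : H)) h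
      rw [← S.c_el (fixU_lt (List.mem_toFinset.1 a.2)), h', S.c_el (fixU_lt (List.mem_toFinset.1 b.2))]
    have h512 : 512 ≤ Nat.card ψ.range := card_Syl ▸ Nat.le_of_dvd Nat.card_pos (Subgroup.card_dvd_of_le hr)
    rw [← ψ.ker.card_mul_index, Subgroup.index_ker, mul_comm 512 64]
    exact Nat.mul_le_mul h64 h512
  have hT2 : IsPGroup 2 ↥T := by
    have hA : IsPGroup 2 ↥S.π.ker := by
      refine IsPGroup.of_card (n := 8) ?_
      rw [show S.π.ker = A.subgroupOf M by ext q; rw [MonoidHom.mem_ker, S.ker, mem_subgroupOf],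
        Nat.card_congr (Subgroup.subgroupOfEquivOfLe S.le).toEquiv, S.card_A]
      norm_num
    exact (((IsPGroup.of_card (p := 2) (n := 9) card_Syl).comap_of_ker_isPGroup S.π hA).map _).to_le inf_le_left
  -- the centraliser of the element
  set X := centralizer ({z} : Set H) with hX
  set q := m * g with hq
  have hzq : q * a * q⁻¹ = z := by rw [← e, hq]; group
  have hqX : ∀ b ∈ A, q * b * q⁻¹ ∈ X := fun b hb => mem_centralizer_singleton_iff.2 (by
    rw [← hzq, conj_mul, conj_mul, S.comm hb ha])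
  have hA1 : IsPGroup 2 ↥((A.map (MulAut.conj q).toMonoidHom).subgroupOf X) :=
    (((IsPGroup.of_card (n := 8) (by rw [S.card_A]; norm_num) : IsPGroup 2 ↥A).map _).comap_subtype)
  obtain ⟨P, hP⟩ := (hT2.comap_subtype (K := X)).exists_le_sylow
  obtain ⟨P1, hP1⟩ := hA1.exists_le_sylow
  obtain ⟨c, hc⟩ := MulAction.exists_smul_eq ↥X P1 P
  set PP := (P : Subgroup ↥X).map X.subtype with hPP
  have hPP2 : IsPGroup 2 ↥PP := P.2.map _
  set k := (c : H) * q with hk
  set E := A.map (MulAut.conj k).toMonoidHom with hE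
  have hEP : E ≤ PP := by
    rintro _ ⟨b, hb, rfl⟩
    refine ⟨c * ⟨_, hqX b hb⟩ * c⁻¹, ?_, by simp [hk, mul_assoc]⟩
    rw [← hc]
    exact ⟨⟨_, hqX b hb⟩, hP1 (mem_subgroupOf.2 ⟨b, hb, rfl⟩), rfl⟩
  have hTP : T ≤ PP := fun n hn => ⟨⟨n, (mem_inf.1 hn).2⟩, hP (mem_subgroupOf.2 hn), rfl⟩
  have hzE : z ∈ E := ⟨a, ha, by
    show k * a * k⁻¹ = z
    rw [hk, show (c : H) * q * a * ((c : H) * q)⁻¹ = (c : H) * (q * a * q⁻¹) * (c : H)⁻¹ by group, hzq,
      mem_centralizer_singleton_iff.1 c.2, mul_inv_cancel_right]⟩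
  have hEk : ∀ b ∈ E, k⁻¹ * b * k ∈ A := by
    rintro _ ⟨b, hb, rfl⟩
    simpa [mul_assoc] using hb
  have hPE : ∀ p ∈ PP, ∀ b ∈ E, p * b * p⁻¹ ∈ E := fun p hp b hb => by
    have hle : PP.map (MulAut.conj k⁻¹).toMonoidHom ≤ M :=
      S.two_le (hPP2.map _) fun y hy => ⟨k * y * k⁻¹, hEP ⟨y, hy, rfl⟩, by simp [mul_assoc]⟩
    have h1 := S.conj_mem (hle ⟨p, hp, rfl⟩) (hEk b hb)
    exact ⟨_, h1, by simp [mul_assoc]⟩
  set D := E ⊓ T with hDdef
  have hzD : z ∈ D := mem_inf.2 ⟨hzE, (hTmem z).2 ⟨⟨hzM, by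
    rw [hzi]
    obtain ⟨v, hv, ev⟩ := List.exists_of_mem_map (show eW uW ∈ sylW.map eW by
      rw [← Co2Recog.sylE_eq]; decide +kernel)
    exact ⟨v, hv, sameK_iff.1 (by rw [ev]; exact Nat.beq_refl _)⟩⟩, rfl⟩⟩
  have hDall : ∀ d ∈ D, d ∈ A ∨ Bad A M d := fun d hd => by
    by_cases hdA : d ∈ A
    · exact Or.inl hdA
    · exact Or.inr (S.bad_of_fused (hTM hd.2) hdA (hEk d hd.1) (g := k) (by group))
  have hDc : ∀ u ∈ D, ∀ v ∈ D, u * v = v * u := fun u hu v hv => by
    obtain ⟨b, hb, rfl⟩ := hu.1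
    obtain ⟨b', hb', rfl⟩ := hv.1
    rw [← map_mul, ← map_mul, S.comm hb hb']
  have hD64 : 64 ≤ Nat.card D := by
    have hEcard : Nat.card E = 256 := by
      rw [hE, ← Nat.card_congr (Subgroup.equivMapOfInjective A _ (MulAut.conj k).injective).toEquiv, S.card_A]
    have h1 : E.relIndex T ≤ E.relIndex PP :=
      Subgroup.relIndex_le_of_le_right hTP (Subgroup.index_ne_zero_of_finite (H := E.subgroupOf PP))
    have h2 : Nat.card D * E.relIndex T = Nat.card T := by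
      rw [← Nat.card_congr (Subgroup.subgroupOfEquivOfLe (inf_le_right : D ≤ T)).toEquiv,
        ← Subgroup.inf_relIndex_right E T]
      exact Subgroup.card_mul_index _
    have h3 : 256 * E.relIndex PP = Nat.card PP := by
      rw [← hEcard, ← Nat.card_congr (Subgroup.subgroupOfEquivOfLe hEP).toEquiv]
      exact Subgroup.card_mul_index _
    have h4 := S.card_two_le hPP2
    nlinarith
  have hinv : ∀ d ∈ fixU, S.el d ∈ D → ∀ w ∈ sylGens, S.el (d ^^^ av w d) ∈ D := fun d hd h w hw => by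
    obtain ⟨n, hn, hnM, en⟩ := hgen w hw
    rw [S.el_xor (fixU_lt hd) (av_lt w d)]
    refine D.mul_mem h ?_
    rw [← S.conj_el hnM en.symm (fixU_lt hd)]
    exact mem_inf.2 ⟨hPE n (hTP hn) _ h.1, mul_mem (mul_mem hn h.2) (inv_mem hn)⟩
  have hdown : ∀ j d, d ∈ fixU → S.el d ∈ D → down j d = true → False := by
    intro j
    induction j with
    | zero =>
      intro d hd h hdn
      have h2 := (S.meet_mem hDall hDc hx hzD (fixU_lt hd) h).2
      have h3 := List.all_eq_true.1 bad_com (c6 ^^^ d) (memN_iff.1 (by rw [Nat.xor_comm]; exact hdn))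
      rw [memN_iff.2 h2] at h3
      exact Bool.noConfusion h3
    | succ j ih =>
      intro d hd h hdn
      simp only [down, Bool.or_eq_true, List.any_eq_true, Bool.and_eq_true] at hdn
      rcases hdn with hdn | ⟨w, hw, -, hdn⟩
      · have h2 := (S.meet_mem hDall hDc hx hzD (fixU_lt hd) h).2
        have h3 := List.all_eq_true.1 bad_com (c6 ^^^ d) (memN_iff.1 (by rw [Nat.xor_comm]; exact hdn))
        rw [memN_iff.2 h2] at h3
        exact Bool.noConfusion h3
      · have h' := hinv d hd h w hw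
        exact ih _ (S.meet_mem hDall hDc hx hzD (ThRec.Eight.xor_lt (fixU_lt hd) (av_lt w d)) h').1 h' hdn
  have h4 : Nat.card ↥(D ⊓ A) ≤ 4 := by
    rw [← Nat.eq_of_beq_eq_true u_facts.2.2.2.2.2.2.1,
      ← List.toFinset_card_of_nodup (nodupB_spec u_facts.2.2.2.2.2.2.2), ← Nat.card_eq_finsetCard]
    refine Nat.card_le_card_of_injective (fun b => (⟨S.c b, List.mem_toFinset.2 ?_⟩ : ↥comU.toFinset))
      fun b b' h => Subtype.ext (S.c_eq b.2.2 b'.2.2 (congrArg Subtype.val h))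
    have hb : S.el (S.c b) ∈ D := by rw [S.el_c b.2.2]; exact b.2.1
    have hf := (S.meet_mem hDall hDc hx hzD (S.c_lt _ b.2.2) hb).1
    rcases Bool.or_eq_true _ _ |>.mp (List.all_eq_true.1 bad_down _ hf) with h | h
    · exact memN_iff.1 h
    · exact (hdown 2 _ hf hb h).elim
  have h5 := S.card_le_eight hDall
  omega

end Cfsg.Agent.Co2Three.Close
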