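import Cfsg.Agent.Lib.Co2Three.Close.Checks
import Cfsg.Agent.Lib.Co2Three.Close.TreeData

/-!
Kernel checks on the tree of subspaces and on the two hyperplanes.
-/

set_option autoImplicit false
set_option maxRecDepth 100000
set_option maxHeartbeats 4000000

namespace Cfsg.Agent.Co2Three.Close

open Cfsg.Agent.Co2Recog (eW eId eGen sameK fixV memN qv Bv)

/-- The special lines through a vector, as a mask. -/
def spM (u : ℕ) : ℕ := (spRows.getD (Nat.div u 16) []).getD (Nat.mod u 16) 0

/-- The span of a list. -/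
def spanL : List ℕ → List ℕ
  | [] => [0]
  | b :: B => spanL B ++ (spanL B).map (Nat.xor b)

/-- The mask of a list. -/
def maskL : List ℕ → ℕ
  | [] => 0
  | v :: l => Nat.lor (2 ^ v) (maskL l)

/-- A node's basis. -/
def nBase (i : ℕ) : List ℕ := nodeBase.getD i []

/-- Two vectors look alike over a subspace. -/
def alike (E : List ℕ) (Em x b : ℕ) : Bool :=
  E.all fun e => (qv (Nat.xor x e) == qv (Nat.xor b e)) &&
    Nat.beq (Nat.land (spM (Nat.xor x e)) Em) (Nat.land (spM (Nat.xor b e)) Em)

/-- A coset has a listed child. -/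
def covd (Em : ℕ) (ch : List (ℕ × ℕ × List ℕ)) (v : ℕ) : Bool :=
  ch.any fun p => Nat.testBit Em (Nat.xor v p.1)

/-- An inner node rests on earlier ones. -/
def stepOK (i : ℕ) (p : ℕ × ℕ × List (ℕ × ℕ × List ℕ)) : Bool :=
  let E := spanL (nBase i)
  let Em := maskL E
  (Nat.blt p.1 256 && Nat.blt p.2.1 256) &&
  (p.2.2.all fun q => Nat.blt q.1 256 && Nat.blt q.2.1 i &&
    (nBase q.2.1).all fun x => memN (E ++ E.map (Nat.xor q.1)) (av q.2.2 x)) &&
  (covd Em p.2.2 p.1 && covd Em p.2.2 p.2.1) &&
  ((List.range 256).all fun b => !(alike E Em p.1 b) || Nat.testBit Em (Nat.xor p.1 b) ||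
    covd Em p.2.2 (Nat.xor p.1 b)) &&
  ((List.range 256).all fun b => !(alike E Em p.2.1 b) ||
    (!(Nat.testBit Em (Nat.xor p.1 b)) && covd Em p.2.2 (Nat.xor p.1 b)))

/-- A node is a hyperplane or rests on earlier ones. -/
def nodeOK (i : ℕ) : Bool :=
  (hypData.any fun h => Nat.beq h.1 i) || stepOK i (nodeStep.getD i (0, 0, []))

/-- The conjugate of a word. -/
def cjW (g x : List ℕ) : List ℕ := g ++ (x ++ g.reverse)

/-- The conditions on a hyperplane. -/
def hypOK : ℕ × ℕ × List ℕ × List ℕ × List ℕ × List ℕ × List ℕ → Bool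
  | (i, d, x, y, y0, ga, gb) =>
    let E := spanL (nBase i)
    let Em := maskL E
    (Nat.blt d 256 && ([x, y, ga, gb].all fun w => Nat.beq (av w d) d)) &&
    ((List.range 256).all fun v => Nat.testBit Em v == !(Bv d v)) &&
    ((List.range 256).all fun v => !(fixV (eW x) v && fixV (eW y0) v) || Nat.testBit Em v) &&
    (ord3 y && ord3 y0 && comW y0 x && sameK (eW (x ++ x)) eId && !(sameK (eW x) eId)) &&
    sameK (eW (x ++ cjW y x)) (eW (cjW y (cjW y x))) &&
    ord3 (cjW ga x ++ cjW gb x) &&
    (Nat.beq ((List.range 256).filter (Nat.testBit Em)).length 128) &&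
    (nBase i).all fun b => Nat.blt b 256

theorem sp_rows : ((List.range 256).all fun u => Nat.beq (spM u) (maskL (spNb.getD u []))) = true := by
  decide +kernel

theorem sp_equiv : ((List.range 7).all fun k => (List.range 256).all fun u => (spNb.getD u []).all fun v =>
    Nat.blt v 256 && Nat.testBit (spM (Cfsg.Agent.ThRec.Eight.ap (eGen k).2 u))
      (Cfsg.Agent.ThRec.Eight.ap (eGen k).2 v)) = true := by
  decide +kernel

theorem nodes_lt : (nodeBase.all fun B => B.all fun b => Nat.blt b 256) = true ∧
    Nat.beq nodeBase.length 33 = true ∧ nBase 20 = [1] ∧ nBase 32 = [24] := by decide +kernel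

theorem nodes_lo : ((List.range 12).all nodeOK) = true := by decide +kernel

theorem nodes_hi : ((List.range 21).all fun i => nodeOK (12 + i)) = true := by decide +kernel

theorem hyp_ok : (hypData.all hypOK) = true := by decide +kernel

theorem fix_small : ((List.range 4).all fun k =>
    Nat.ble ((List.range 256).filter (fixV (eW (rep k)))).length 64) = true := by decide +kernel

theorem reps_qv : qv 1 = false ∧ qv 24 = true ∧ (vecThree.all fun p => Nat.beq p.1 1 || Nat.beq p.1 24) = true := by
  decide +kernel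

end Cfsg.Agent.Co2Three.Close
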