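import Cfsg.Agent.Lib.Co2Three.Close.Strong
import Cfsg.Agent.Lib.Co2Three.Close.TreeChecks

/-!
The inner nodes of the tree: the centraliser of a subspace lies in the normaliser when two cosets look different and
the centralisers one step up do.
-/

set_option autoImplicit false
set_option maxRecDepth 100000
set_option linter.style.haveILetI false
set_option linter.unusedSectionVars false

namespace Cfsg.Agent.Co2Three.Close

open Equiv Subgroup
open Cfsg.Agent.Co2Recog (permW permW_reverse eW eGen qv memN)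
open Cfsg.Agent.Co2Recog.Two (memN_iff qv_act act_rev ap_cons_word ap_nil_word eGen_snd)
open Cfsg.Agent.ThRec.Eight (ap ap_xor ap_zero xor_lt)

theorem maskL_testBit : ∀ (l : List ℕ) (j : ℕ), (maskL l).testBit j = true ↔ j ∈ l
  | [], j => by simp [maskL]
  | v :: l, j => by
    show (2 ^ v ||| maskL l).testBit j = true ↔ _
    rw [Nat.testBit_lor, Bool.or_eq_true, maskL_testBit l j, Nat.testBit_two_pow, List.mem_cons,
      decide_eq_true_eq, eq_comm]

theorem zero_mem_spanL : ∀ B : List ℕ, 0 ∈ spanL B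
  | [] => List.mem_cons_self
  | _ :: B => List.mem_append_left _ (zero_mem_spanL B)

theorem mem_spanL_self : ∀ {B : List ℕ} {b : ℕ}, b ∈ B → b ∈ spanL B
  | c :: B, b, h => by
    rcases List.mem_cons.1 h with rfl | h
    · exact List.mem_append_right _ (List.mem_map.2 ⟨0, zero_mem_spanL B, Nat.xor_zero b⟩)
    · exact List.mem_append_left _ (mem_spanL_self h)

theorem spanL_lt : ∀ {B : List ℕ}, (∀ b ∈ B, b < 256) → ∀ v ∈ spanL B, v < 256
  | [], _, v, hv => by rw [List.mem_singleton.1 hv]; norm_num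
  | c :: B, hB, v, hv => by
    have ih := spanL_lt (B := B) fun b hb => hB b (List.mem_cons_of_mem _ hb)
    rcases List.mem_append.1 hv with hv | hv
    · exact ih v hv
    · obtain ⟨u, hu, rfl⟩ := List.mem_map.1 hv
      exact xor_lt (hB c List.mem_cons_self) (ih u hu)

theorem spanL_xor : ∀ {B : List ℕ} {u v : ℕ}, u ∈ spanL B → v ∈ spanL B → u ^^^ v ∈ spanL B
  | [], u, v, hu, hv => by rw [List.mem_singleton.1 hu, List.mem_singleton.1 hv]; exact List.mem_cons_self
  | c :: B, u, v, hu, hv => by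
    rcases List.mem_append.1 hu with hu | hu <;> rcases List.mem_append.1 hv with hv | hv
    · exact List.mem_append_left _ (spanL_xor hu hv)
    · obtain ⟨v', hv', rfl⟩ := List.mem_map.1 hv
      exact List.mem_append_right _ (List.mem_map.2 ⟨u ^^^ v', spanL_xor hu hv', Nat.xor_left_comm c u v'⟩)
    · obtain ⟨u', hu', rfl⟩ := List.mem_map.1 hu
      exact List.mem_append_right _ (List.mem_map.2 ⟨u' ^^^ v, spanL_xor hu' hv, (Nat.xor_assoc c u' v).symm⟩)
    · obtain ⟨u', hu', rfl⟩ := List.mem_map.1 hu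
      obtain ⟨v', hv', rfl⟩ := List.mem_map.1 hv
      refine List.mem_append_left _ ?_
      show (c ^^^ u') ^^^ (c ^^^ v') ∈ spanL B
      rw [Nat.xor_comm c u', Nat.xor_assoc, ← Nat.xor_assoc c c, Nat.xor_self, Nat.zero_xor]
      exact spanL_xor hu' hv'

theorem sp_lt {u v : ℕ} (hu : u < 256) (h : (spM u).testBit v = true) : v ∈ spNb.getD u [] := by
  rw [Nat.eq_of_beq_eq_true (List.all_eq_true.1 sp_rows u (List.mem_range.2 hu))] at h
  exact (maskL_testBit _ v).1 h

/-- Special pairs go to special pairs. -/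
theorem sp_act : ∀ (w : List ℕ) {u v : ℕ}, u < 256 → v < 256 → (spM u).testBit v = true →
    (spM (av w u)).testBit (av w v) = true
  | [], u, v, hu, hv, h => by rw [av, av, ap_nil_word hu, ap_nil_word hv]; exact h
  | k :: w, u, v, hu, hv, h => by
    have ih := sp_act w hu hv h
    rw [av, av, ap_cons_word, ap_cons_word, eGen_snd]
    have h' := List.all_eq_true.1 (List.all_eq_true.1 (List.all_eq_true.1 sp_equiv (k % 7)
      (List.mem_range.2 (Nat.mod_lt _ (by norm_num)))) _ (List.mem_range.2 (av_lt w u))) _ (sp_lt (av_lt w u) ih)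
    rw [Bool.and_eq_true] at h'
    exact h'.2

theorem sp_act_eq (w : List ℕ) {u v : ℕ} (hu : u < 256) (hv : v < 256) :
    (spM (av w u)).testBit (av w v) = (spM u).testBit v := by
  rw [Bool.eq_iff_iff]
  refine ⟨fun h => ?_, sp_act w hu hv⟩
  have := sp_act w.reverse (av_lt w u) (av_lt w v) h
  rwa [av, av, act_rev w hu, av, av, act_rev w hv] at this

variable {H : Type*} [Group H] [Finite H] {A M : Subgroup H}

/-- The centraliser of the elements with the given coordinates lies in the normaliser. -/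
def Good (S : Spin A M) (B : List ℕ) : Prop := ∀ n : H, (∀ x ∈ B, n * S.el x = S.el x * n) → n ∈ M

variable (S : Spin A M)
include S

theorem Spin.comm_span {B : List ℕ} (hB : ∀ b ∈ B, b < 256) {n : H} (h : ∀ x ∈ B, n * S.el x = S.el x * n) :
    ∀ v ∈ spanL B, n * S.el v = S.el v * n := by
  induction B with
  | nil => intro v hv; rw [List.mem_singleton.1 hv, S.el_zero, mul_one, one_mul]
  | cons c B ih =>
    have hB' : ∀ b ∈ B, b < 256 := fun b hb => hB b (List.mem_cons_of_mem _ hb)
    have ih' := ih hB' fun x hx => h x (List.mem_cons_of_mem _ hx)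
    intro v hv
    rcases List.mem_append.1 hv with hv | hv
    · exact ih' v hv
    · obtain ⟨u, hu, rfl⟩ := List.mem_map.1 hv
      rw [show Nat.xor c u = c ^^^ u from rfl, S.el_xor (hB c List.mem_cons_self) (spanL_lt hB' u hu)]
      exact (Commute.mul_right (h c List.mem_cons_self) (ih' u hu))

/-- The subgroup of a span. -/
def Spin.sub (B : List ℕ) (hB : ∀ b ∈ B, b < 256) : Subgroup H where
  carrier := {x | ∃ v ∈ spanL B, x = S.el v}
  one_mem' := ⟨0, zero_mem_spanL B, S.el_zero.symm⟩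
  mul_mem' := by
    rintro _ _ ⟨u, hu, rfl⟩ ⟨v, hv, rfl⟩
    exact ⟨u ^^^ v, spanL_xor hu hv, (S.el_xor (spanL_lt hB u hu) (spanL_lt hB v hv)).symm⟩
  inv_mem' := by
    rintro _ ⟨u, hu, rfl⟩
    exact ⟨u, hu, S.inv_eq (S.el_mem u)⟩

theorem Spin.mem_sub_el {B : List ℕ} (hB : ∀ b ∈ B, b < 256) {v : ℕ} (hv : v < 256) :
    S.el v ∈ S.sub B hB ↔ v ∈ spanL B := by
  refine ⟨fun ⟨u, hu, e⟩ => ?_, fun h => ⟨v, h, rfl⟩⟩
  rwa [← S.c_el hv, e, S.c_el (spanL_lt hB u hu)]

/-- Moving a good subspace inside another one makes that one good. -/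
theorem Spin.good_of_image {B T : List ℕ} (hg : Good S B) (hB : ∀ b ∈ B, b < 256) (w : List ℕ)
    (hT : ∀ x ∈ B, av w x ∈ T) : Good S T := by
  intro n hn
  obtain ⟨m, hm, em⟩ := S.exists_lift w
  have : m⁻¹ * n * m ∈ M := hg _ fun x hx => by
    have e := hn _ (hT x hx)
    rw [← S.conj_el hm em.symm (hB x hx)] at e
    calc m⁻¹ * n * m * S.el x = m⁻¹ * (n * (m * S.el x * m⁻¹)) * m := by group
      _ = m⁻¹ * (m * S.el x * m⁻¹ * n) * m := by rw [e]
      _ = S.el x * (m⁻¹ * n * m) := by group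
  simpa [mul_assoc] using mul_mem (mul_mem hm this) (inv_mem hm)

/-- **An inner node.** -/
theorem Spin.good_step {i : ℕ} {p : ℕ × ℕ × List (ℕ × ℕ × List ℕ)} (h : stepOK i p = true)
    (hlt : ∀ j, ∀ b ∈ nBase j, b < 256) (ih : ∀ j < i, Good S (nBase j)) : Good S (nBase i) := by
  obtain ⟨a, c, ch⟩ := p
  simp only [stepOK, Bool.and_eq_true, List.all_eq_true, List.mem_range] at h
  obtain ⟨⟨⟨⟨⟨ha, hc⟩, hch⟩, hca, hcc⟩, hA⟩, hC⟩ := h
  have ha' : a < 256 := Nat.le_of_ble_eq_true ha
  have hc' : c < 256 := Nat.le_of_ble_eq_true hc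
  set E := spanL (nBase i) with hE
  set Em := maskL E with hEm
  have hEb : ∀ j, Em.testBit j = true ↔ j ∈ E := maskL_testBit E
  have hEl : ∀ v ∈ E, v < 256 := spanL_lt (hlt i)
  set F := S.sub (nBase i) (hlt i) with hF
  have hFA : F ≤ A := by rintro _ ⟨v, -, rfl⟩; exact S.el_mem v
  -- a covered coset
  have child : ∀ v < 256, covd Em ch v = true →
      centralizer ((F : Set H) ∪ {S.el v}) ≤ normalizer (A : Set H) := by
    intro v hv hcv n hn
    obtain ⟨⟨w, j, g⟩, hq, hw⟩ := List.any_eq_true.1 hcv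
    obtain ⟨⟨hw256, hji⟩, himg⟩ := hch _ hq
    have hw' : w < 256 := Nat.le_of_ble_eq_true hw256
    have hvw : v ^^^ w ∈ E := (hEb _).1 hw
    refine S.mem_norm (S.good_of_image (T := E ++ E.map (Nat.xor w)) (ih j (Nat.le_of_ble_eq_true hji)) (hlt j) g
      (fun x hx => memN_iff.1 (himg x hx)) n fun x hx => ?_)
    have hnE : ∀ e ∈ E, n * S.el e = S.el e * n := fun e he =>
      (mem_centralizer_iff.1 hn _ (Or.inl ⟨e, he, rfl⟩)).symm
    rcases List.mem_append.1 hx with hx | hx
    · exact hnE x hx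
    · obtain ⟨e, he, rfl⟩ := List.mem_map.1 hx
      have e1 : Nat.xor w e = v ^^^ ((v ^^^ w) ^^^ e) := by
        show w ^^^ e = _
        rw [← Nat.xor_assoc, ← Nat.xor_assoc, Nat.xor_self, Nat.zero_xor]
      rw [e1, S.el_xor hv (xor_lt (hEl _ hvw) (hEl e he))]
      exact Commute.mul_right (mem_centralizer_iff.1 hn _ (Or.inr rfl)).symm (hnE _ (spanL_xor hvw he))
  -- a conjugate looks alike
  have hconj : ∀ n ∈ NF A (F : Set H), ∀ x < 256, ∃ b < 256, n * S.el x * n⁻¹ = S.el b ∧ alike E Em x b = true := by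
    intro n hn x hx
    have hnM := S.mem_M (mem_inf.1 hn).1
    obtain ⟨w, hw⟩ := S.exists_word hnM
    refine ⟨av w x, av_lt w x, S.conj_el hnM hw hx, ?_⟩
    have hfix : ∀ e ∈ E, av w e = e := fun e he => (S.comm_el_iff hnM hw (hEl e he)).1
      (mem_centralizer_iff.1 (mem_inf.1 hn).2 _ ⟨e, he, rfl⟩).symm
    simp only [alike, List.all_eq_true, Bool.and_eq_true, beq_iff_eq]
    intro e he
    have hxe : x ^^^ e < 256 := xor_lt hx (hEl e he)
    have e1 : Nat.xor (av w x) e = av w (x ^^^ e) := by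
      show av w x ^^^ e = ap (eW w).2 (x ^^^ e)
      rw [ap_xor]
      exact congrArg (fun z => av w x ^^^ z) (hfix e he).symm
    refine ⟨?_, ?_⟩
    · rw [e1]; exact (qv_act w hxe).symm
    · rw [e1]
      have : spM (x ^^^ e) &&& Em = spM (av w (x ^^^ e)) &&& Em := by
        refine Nat.eq_of_testBit_eq fun j => ?_
        rw [Nat.testBit_and, Nat.testBit_and]
        cases hj : Em.testBit j
        · simp
        · have hjE := (hEb j).1 hj
          conv_rhs => rw [← hfix j hjE]
          rw [sp_act_eq w hxe (hEl j hjE)]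
      exact (congrArg (fun z => Nat.beq (spM (x ^^^ e) &&& Em) z) this.symm).trans (Nat.beq_refl _)
  have hmul : ∀ b < 256, S.el a * S.el b ∈ F ↔ a ^^^ b ∈ E := fun b hb => by
    rw [← S.el_xor ha' hb, hF, S.mem_sub_el (hlt i) (xor_lt ha' hb)]
  intro n hn
  refine S.mem_M ((S.closed).step hFA (S.el_mem a) (S.el_mem c) ?_ (child a ha' hca) (child c hc' hcc) ?_
    (mem_centralizer_iff.2 ?_))
  · intro m hm e
    obtain ⟨b, hb, eb, hal⟩ := hconj m hm c hc'
    rw [eb, hmul b hb] at e
    have := hC b hb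
    rw [hal] at this
    simp [(hEb (a ^^^ b)).2 e] at this
  · intro m hm b0 hb0 hne
    have fin : ∀ b < 256, a ^^^ b ∉ E → (alike E Em a b = true ∨ alike E Em c b = true) →
        centralizer ((F : Set H) ∪ {S.el a * S.el b}) ≤ normalizer (A : Set H) := by
      intro b hb hne hal
      rw [← S.el_xor ha' hb]
      refine child _ (xor_lt ha' hb) ?_
      rcases hal with hal | hal
      · have h := hA b hb
        rw [hal] at h
        rcases Bool.or_eq_true _ _ |>.mp h with h | h
        · exact absurd ((hEb _).1 (by simpa using h)) hne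
        · exact h
      · have h := hC b hb
        rw [hal] at h
        simp only [Bool.not_true, Bool.false_or, Bool.and_eq_true] at h
        exact h.2
    rcases hb0 with rfl | rfl
    · obtain ⟨b, hb, eb, hal⟩ := hconj m hm a ha'
      rw [eb] at hne ⊢
      exact fin b hb (fun h => hne ((hmul b hb).2 h)) (Or.inl hal)
    · obtain ⟨b, hb, eb, hal⟩ := hconj m hm c hc'
      rw [eb] at hne ⊢
      exact fin b hb (fun h => hne ((hmul b hb).2 h)) (Or.inr hal)
  · rintro _ ⟨v, hv, rfl⟩
    exact (S.comm_span (hlt i) hn v hv).symm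

end Cfsg.Agent.Co2Three.Close
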